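import Mathlib

/-!
# Rank three groups with a Frobenius group on a suborbit: the arithmetic
-/

set_option autoImplicit false

namespace Cfsg.Agent.Lib.RankThreeFrob.Arith

theorem root_pos {r s : ℤ} (hs : s < r) (hp : r * s < 0) : 0 < r := by
  by_contra h
  have : 0 ≤ r * s := by nlinarith
  omega

/-- No far point is fixed by the involution. -/
theorem case_two (k h m1 m2 q e a b : ℕ) (hk : k = h * (a + b) + 1) (ha : 0 < a) (hh : h = m2 * e)
    (he : Even e) (hh2 : 2 ≤ h) (hq : q * m1 = k) (hq1 : 1 < q) (hm2 : Odd m2) (hqm : m2 ∣ q - 1)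
    (hbound : k + q * e ≤ 4 * h + 1) (hμ : m1 * m2 * a < k)
    (hroots : ((k + q * e : ℕ) : ℤ) * ((h : ℤ) * b - (m1 : ℤ) * m2 * a) + 2 * k = 0 ∨
      ∃ r s : ℤ, r + s = (h : ℤ) * b - (m1 : ℤ) * m2 * a ∧ r * s = (m1 : ℤ) * m2 * a - k ∧ s < r)
    (hmult : ∀ r s : ℤ, r + s = (h : ℤ) * b - (m1 : ℤ) * m2 * a → r * s = (m1 : ℤ) * m2 * a - k →
      s < r → ∃ g : ℕ, (g : ℤ) * (r - s) = ((k + q * e : ℕ) : ℤ) * r + k) :
    k = 3 ∧ h = 2 ∧ q * e = 6 := by
  obtain ⟨j, hj⟩ := hqm
  have he0 : 2 ≤ e := by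
    obtain ⟨c, hc⟩ := he
    rcases Nat.eq_zero_or_pos c with h0 | h0
    · rw [hh, hc, h0] at hh2; simp at hh2
    · omega
  have hkodd : Odd k := by rw [hk, hh]; exact ((he.mul_left m2).mul_right _).add_one
  have hqodd : Odd q := by rw [← hq] at hkodd; exact (Nat.odd_mul.mp hkodd).1
  have hjev : Even j := by
    have hev : Even (q - 1) := Nat.Odd.sub_odd hqodd odd_one
    rw [hj] at hev
    rcases Nat.even_mul.mp hev with h' | h'
    · exact absurd h' (Nat.not_even_iff_odd.mpr hm2)
    · exact h'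
  have hj2 : 2 ≤ j := by
    obtain ⟨c, hc⟩ := hjev
    rcases Nat.eq_zero_or_pos c with h0 | h0
    · rw [hc, h0] at hj; simp at hj; omega
    · omega
  have hqe : q * e = h * j + e := by
    have : q = m2 * j + 1 := by omega
    rw [this, hh]; ring
  have h2j : h * 2 ≤ h * j := Nat.mul_le_mul_left h hj2
  have hab : a + b < 2 := by
    by_contra hc
    have : h * 2 ≤ h * (a + b) := Nat.mul_le_mul_left h (by omega)
    omega
  have ha1 : a = 1 := by omega
  have hb0 : b = 0 := by omega
  subst ha1 hb0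
  have hk1 : k = h + 1 := by rw [hk]; ring
  have hj3 : j = 2 := by
    by_contra hne
    have : h * 3 ≤ h * j := Nat.mul_le_mul_left h (by omega)
    omega
  subst hj3
  have hkq : k = 2 * (m1 * m2) + m1 := by
    rw [← hq, show q = 2 * m2 + 1 by omega]; ring
  obtain ⟨m, hm⟩ : ∃ m, m1 * m2 = m := ⟨_, rfl⟩
  have hm0 : 1 ≤ m ∧ m1 ≤ m := by
    have h1 : 0 < m1 := by
      rcases Nat.eq_zero_or_pos m1 with h0 | h0
      · rw [h0] at hq; simp at hq; omega
      · exact h0
    obtain ⟨c, hc⟩ := hm2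
    have : m1 * 1 ≤ m1 * m2 := Nat.mul_le_mul_left m1 (by omega)
    omega
  rw [hm] at hkq hμ
  have hmz : (m1 : ℤ) * m2 = m := by exact_mod_cast hm
  simp only [Nat.cast_zero, mul_zero, Nat.cast_one, mul_one, zero_sub, hmz] at hroots hmult
  rcases hroots with hn | ⟨r, s, hrs, hprod, hlt⟩
  · exfalso
    have hl : q * e * m = k * h := by
      rw [← hq, ← hm, hh]; ring
    have h1 : ((k + q * e) * m : ℕ) = 2 * k := by
      zify
      push_cast at hn
      linarith
    rw [add_mul, hl] at h1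
    have h2 : k * (m + h) = k * 2 := by rw [mul_add]; omega
    have := Nat.eq_of_mul_eq_mul_left (by omega) h2
    omega
  · have hμz : (m : ℤ) < k := by omega
    have hr0 := root_pos hlt (by linarith)
    have hkz : (k : ℤ) = (h : ℤ) + 1 := by exact_mod_cast hk1
    have hkm : (k : ℤ) = 2 * (m : ℤ) + m1 := by exact_mod_cast hkq
    have hs : s = -(m : ℤ) - r := by linarith
    subst hs
    have hf : (r + 1) * (r + m - 1) = (h : ℤ) := by linarith [hprod]
    have hr1 : r = 1 := by
      by_contra hne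
      have : (3 : ℤ) * (m + 1) ≤ (r + 1) * (r + m - 1) :=
        mul_le_mul (by omega) (by omega) (by omega) (by omega)
      have : (m1 : ℤ) ≤ m := by exact_mod_cast hm0.2
      linarith
    subst hr1
    have hm11 : m1 = 1 := by
      have : (m1 : ℤ) = 1 := by linarith
      exact_mod_cast this
    subst hm11
    have hh2m : h = 2 * m := by
      have : (h : ℤ) = 2 * m := by linarith
      exact_mod_cast this
    have he2 : e = 2 := by
      have hm' : m2 = m := by omega
      have h2 : m2 * e = m2 * 2 := by rw [← hh, hh2m, hm']; ring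
      exact Nat.eq_of_mul_eq_mul_left (by omega : 0 < m2) h2
    subst he2
    obtain ⟨g, hg⟩ := hmult 1 _ hrs hprod hlt
    have hg' : (g : ℤ) * ((m : ℤ) + 2) = 8 * m + 4 := by
      have e1 : (((k + q * 2 : ℕ) : ℤ)) = 6 * m + 3 := by
        have : k + q * 2 = 6 * m + 3 := by omega
        exact_mod_cast this
      rw [e1] at hg
      linarith
    have hg8 : g < 8 := by
      by_contra hc
      have : (8 : ℤ) * ((m : ℤ) + 2) ≤ g * ((m : ℤ) + 2) :=
        mul_le_mul_of_nonneg_right (by exact_mod_cast (show 8 ≤ g by omega)) (by positivity)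
      linarith
    obtain ⟨c, hc⟩ := hm2
    have hm' : m2 = m := by omega
    interval_cases g <;> omega

/-- The involution fixes far points and the kernel is not semiregular on them. -/
theorem case_big (k h m1 q e a b : ℕ) (hk : k = h * (a + b) + 1) (ha : 0 < a) (hh : h = 2 * e)
    (he : Even e) (hh2 : 2 ≤ h) (hq : q * m1 = k) (hq3 : q = 3) (hm1 : Odd m1) (hm11 : m1 ≠ 1)
    (hsq : m1 * m1 ≤ k) (hμ : m1 * 2 * a < k)
    (hroots : ((k + q * e : ℕ) : ℤ) * ((h : ℤ) * b - (m1 : ℤ) * 2 * a) + 2 * k = 0 ∨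
      ∃ r s : ℤ, r + s = (h : ℤ) * b - (m1 : ℤ) * 2 * a ∧ r * s = (m1 : ℤ) * 2 * a - k ∧ s < r) :
    k = 9 ∧ h = 4 ∧ q * e = 6 := by
  subst hq3
  have hm3 : m1 = 3 := by
    have hle : m1 ≤ 3 := by
      by_contra hc
      have : 4 * m1 ≤ m1 * m1 := Nat.mul_le_mul_right m1 (by omega)
      omega
    obtain ⟨c, hc⟩ := hm1
    omega
  subst hm3
  have hk9 : k = 9 := by omega
  subst hk9
  have ha1 : a = 1 := by omega
  subst ha1
  have h8 : h * (1 + b) = 8 := by omega
  obtain ⟨c, hc⟩ := he
  have hb : b ≤ 1 := by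
    by_contra hb
    have : h * 3 ≤ h * (1 + b) := Nat.mul_le_mul_left h (by omega)
    omega
  interval_cases b
  · exfalso
    have he4 : e = 4 := by omega
    subst he4
    norm_num [show h = 8 by omega] at hroots
    obtain ⟨r, s, h1, h2, -⟩ := hroots
    have h3 : r * r + 6 * r - 3 = 0 := by
      rw [show s = -6 - r by linarith] at h2
      linarith
    have : -8 ≤ r ∧ r ≤ 1 := ⟨by nlinarith, by nlinarith⟩
    obtain ⟨hlo, hhi⟩ := this
    interval_cases r <;> omega
  · omega

set_option maxHeartbeats 1600000 in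
/-- The involution fixes far points and the kernel is semiregular on them. -/
theorem case_one (k h m e a b N N' j : ℕ) (hk : k = h * (a + b) + 1) (ha : 0 < a) (hh : h = m * e)
    (he : Even e) (hm : Even m) (hh2 : 2 ≤ h)
    (hcount : (e + 1) * (h * (a + b)) = (e + 2) * (N + e * N')) (hN : N ≤ h) (hN' : N' ≤ m)
    (hinv : 3 * m < 4 * N' → N' = m) (hT : (e + 2) * N = h * j) (hμ : m * a < k)
    (hroots : ((k + k * e : ℕ) : ℤ) * ((h : ℤ) * b - (m : ℤ) * a) + 2 * k = 0 ∨
      ∃ r s : ℤ, r + s = (h : ℤ) * b - (m : ℤ) * a ∧ r * s = (m : ℤ) * a - k ∧ s < r)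
    (htr : ∀ r s : ℤ, r + s = (h : ℤ) * b - (m : ℤ) * a → r * s = (m : ℤ) * a - k → s < r →
      ∃ g B : ℕ, g ≤ e + 1 ∧ (g : ℤ) * (r - s) = (h : ℤ) * j - s * ((e : ℤ) + 1) - k ∧
        (h : ℤ) * B * (r - s) = r * (((e : ℤ) + 1) * ((h : ℤ) * (a + b))) + (h : ℤ) * j) :
    k = 5 ∧ h = 4 ∧ k * e = 10 := by
  obtain ⟨m', hm'⟩ := hm
  obtain ⟨e', he'⟩ := he
  have hm2 : 2 ≤ m ∧ 2 ≤ e := by
    constructor
    · rcases Nat.eq_zero_or_pos m' with h0 | h0
      · rw [hh, hm', h0] at hh2; simp at hh2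
      · omega
    · rcases Nat.eq_zero_or_pos e' with h0 | h0
      · rw [hh, he', h0] at hh2; simp at hh2
      · omega
  have hkpos : 0 < k := by omega
  -- `a + b ≤ 2`
  have hab : a + b ≤ 2 := by
    by_contra hc
    have h1 : N + e * N' ≤ 2 * h := by
      have : e * N' ≤ e * m := Nat.mul_le_mul_left e hN'
      rw [mul_comm e m, ← hh] at this
      omega
    have h2 : (e + 1) * (h * 3) ≤ (e + 1) * (h * (a + b)) :=
      Nat.mul_le_mul_left _ (Nat.mul_le_mul_left h (by omega))
    have h3 : (e + 2) * (N + e * N') ≤ (e + 2) * (2 * h) := Nat.mul_le_mul_left _ h1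
    nlinarith
  have hjN : j ≤ e + 2 := by
    have : h * j ≤ h * (e + 2) := by rw [← hT, mul_comm h]; exact Nat.mul_le_mul_left _ hN
    exact Nat.le_of_mul_le_mul_left this (by omega)
  have hN'eq : (e + 2) * N' + m * j = m * ((a + b) * (e + 1)) := by
    refine Nat.eq_of_mul_eq_mul_left (show 0 < e by omega) ?_
    have : e * ((e + 2) * N' + m * j) = (e + 2) * (N + e * N') := by
      have h1 : (e + 2) * N = m * e * j := by rw [hT, hh]
      linarith
    rw [this, ← hcount, hh]; ring
  obtain ⟨r, s, hrs, hprod, hlt⟩ : ∃ r s : ℤ, r + s = (h : ℤ) * b - (m : ℤ) * a ∧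
      r * s = (m : ℤ) * a - k ∧ s < r := by
    refine hroots.resolve_left fun hn => ?_
    have h1 : (k : ℤ) * (((e : ℤ) + 1) * ((h : ℤ) * b - (m : ℤ) * a) + 2) = (k : ℤ) * 0 := by
      push_cast at hn; linarith
    have h2 := mul_left_cancel₀ (by exact_mod_cast hkpos.ne') h1
    have h3 : ((e : ℤ) + 1) ∣ 2 := ⟨-((h : ℤ) * b - (m : ℤ) * a), by linarith⟩
    have := Int.le_of_dvd (by norm_num) h3
    omega
  obtain ⟨g, B, hg, hgeq, hBeq⟩ := htr r s hrs hprod hlt
  have hμz : (m : ℤ) * a < k := by exact_mod_cast hμ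
  have hr0 := root_pos hlt (by linarith)
  have hkz : (k : ℤ) = (h : ℤ) * ((a : ℤ) + b) + 1 := by exact_mod_cast hk
  have hhz : (h : ℤ) = (m : ℤ) * e := by exact_mod_cast hh
  have hgz : (g : ℤ) * (r - s) ≤ ((e : ℤ) + 1) * (r - s) :=
    mul_le_mul_of_nonneg_right (by exact_mod_cast hg) (by linarith)
  have hm2z : (2 : ℤ) ≤ m := by exact_mod_cast hm2.1
  have he2z : (2 : ℤ) ≤ e := by exact_mod_cast hm2.2
  rcases (show (a = 1 ∧ b = 0) ∨ (a = 1 ∧ b = 1) ∨ (a = 2 ∧ b = 0) by omega) with
    ⟨rfl, rfl⟩ | ⟨rfl, rfl⟩ | ⟨rfl, rfl⟩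
  · -- `a = 1`, `b = 0`
    simp only [Nat.cast_zero, Nat.cast_one, mul_zero, mul_one, zero_sub, add_zero] at hrs hprod hgeq hBeq hkz hN'eq hk
    have hs : s = -(m : ℤ) - r := by linarith
    subst hs
    rw [hhz] at hgeq hBeq hkz
    have hf : (r - 1) * (r + 1) = (m : ℤ) * ((e : ℤ) - r - 1) := by linarith [hprod]
    rcases (show r = 1 ∨ 2 ≤ r by omega) with rfl | hr2
    · have h0 : (m : ℤ) * ((e : ℤ) - 2) = 0 := by linarith
      have he2 : e = 2 := by
        have := (mul_eq_zero.mp h0).resolve_left (by omega)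
        omega
      subst he2
      push_cast at hgeq hBeq hgz
      have hj2 : j ≤ 2 := by
        by_contra hc
        have : (3 : ℤ) * m ≤ (j : ℤ) * m :=
          mul_le_mul_of_nonneg_right (by exact_mod_cast (show 3 ≤ j by omega)) (by linarith)
        linarith
      have hB : (B : ℤ) * ((m : ℤ) + 2) = 3 + j := by
        refine mul_left_cancel₀ (show (2 : ℤ) * m ≠ 0 by omega) ?_
        linarith
      rcases (show B = 0 ∨ B = 1 ∨ 2 ≤ B by omega) with rfl | rfl | hB2
      · simp at hB; omega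
      · simp at hB
        have hm' : m = 2 := by omega
        subst hm'
        omega
      · have : (2 : ℤ) * ((m : ℤ) + 2) ≤ B * ((m : ℤ) + 2) :=
          mul_le_mul_of_nonneg_right (by exact_mod_cast hB2) (by linarith)
        omega
    · exfalso
      have hpos : 0 < (e : ℤ) - r - 1 := by
        by_contra hc
        have : (m : ℤ) * ((e : ℤ) - r - 1) ≤ 0 := mul_nonpos_of_nonneg_of_nonpos (by omega) (by omega)
        have : 0 < (r - 1) * (r + 1) := mul_pos (by omega) (by omega)
        linarith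
      have he2m : (e : ℤ) + 2 ≤ 2 * m := by
        have h1 : ((e : ℤ) + 1) * ((m : ℤ) * e) = ((e : ℤ) + 2) * ((N : ℤ) + (e : ℤ) * N') := by
          have : (e + 1) * (m * e) = (e + 2) * (N + e * N') := by rw [← hcount, hh]; ring
          exact_mod_cast this
        exact Int.le_of_dvd (by linarith) ⟨(N : ℤ) + e * N' - m * ((e : ℤ) - 1), by linarith⟩
      have hj2 : j ≤ 2 := by
        by_contra hc
        have h1 : (3 : ℤ) * ((m : ℤ) * e) ≤ (j : ℤ) * ((m : ℤ) * e) :=
          mul_le_mul_of_nonneg_right (by exact_mod_cast (show 3 ≤ j by omega)) (by nlinarith)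
        have h2 : ((e : ℤ) + 1) * r ≤ ((e : ℤ) + 1) * ((e : ℤ) - 2) :=
          mul_le_mul_of_nonneg_left (by omega) (by omega)
        have h3 : (e : ℤ) * ((e : ℤ) + 2) ≤ e * (2 * m) := mul_le_mul_of_nonneg_left he2m (by omega)
        linarith
      have he10 : e ≤ 10 := by
        by_contra hc
        have h1 : m * (e - 1) + m * j ≤ m * (e + 1) := by
          rw [← Nat.mul_add]; exact Nat.mul_le_mul_left m (by omega)
        have h4 : m * (1 * (e + 1)) = m * (e + 1) := by rw [one_mul]
        have h5 : m * (e - 1) ≤ (e + 2) * N' := by omega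
        have h6 : 3 * m < 4 * N' := by
          by_contra hc'
          have h7 : (e + 2) * (4 * N') ≤ (e + 2) * (3 * m) := Nat.mul_le_mul_left _ (by omega)
          obtain ⟨c, hc2⟩ : ∃ c, e = c + 11 := ⟨e - 11, by omega⟩
          subst hc2
          rw [show c + 11 - 1 = c + 10 by omega] at h5
          nlinarith
        have h8 := hinv h6
        rw [h8, mul_comm (e + 2), h4, mul_add m e 2] at hN'eq
        rw [mul_add] at hN'eq
        omega
      obtain ⟨rn, rfl⟩ := Int.eq_ofNat_of_zero_le hr0.le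
      have hrn2 : 2 ≤ rn := by omega
      have hrne : rn + 2 ≤ e := by omega
      have hrn8 : rn ≤ 8 := by omega
      have he4 : 4 ≤ e := by omega
      interval_cases e <;> interval_cases rn <;> push_cast at hf hBeq hN'eq <;>
        first
        | omega
        | (rcases Classical.em (m = 4) with hmn | hmn
           rotate_left
           · omega
           subst hmn
           push_cast at hBeq
           interval_cases j <;> omega)
        | (rcases Classical.em (m = 6) with hmn | hmn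
           rotate_left
           · omega
           subst hmn
           push_cast at hBeq
           interval_cases j <;> omega)
        | (rcases Classical.em (m = 24) with hmn | hmn
           rotate_left
           · omega
           subst hmn
           push_cast at hBeq
           interval_cases j <;> omega)
  · -- `a = 1`, `b = 1`
    exfalso
    simp only [Nat.cast_one, mul_one] at hrs hprod hkz
    rw [hhz] at hrs hkz
    have hs : s = (m : ℤ) * e - m - r := by linarith
    subst hs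
    have hf : (r + 1) * (r - (m : ℤ) * e + m - 1) = (m : ℤ) * e := by linarith [hprod]
    rcases (show r - (m : ℤ) * e + m - 1 ≤ 0 ∨ r - (m : ℤ) * e + m - 1 = 1 ∨
      2 ≤ r - (m : ℤ) * e + m - 1 by omega) with h0 | h0 | h0
    · have : (r + 1) * (r - (m : ℤ) * e + m - 1) ≤ 0 :=
        mul_nonpos_of_nonneg_of_nonpos (by linarith) h0
      nlinarith
    · rw [h0, mul_one] at hf
      omega
    · have h1 : (r + 1) * 2 ≤ (r + 1) * (r - (m : ℤ) * e + m - 1) :=
        mul_le_mul_of_nonneg_left h0 (by linarith)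
      nlinarith
  · -- `a = 2`, `b = 0`
    exfalso
    simp only [Nat.cast_zero, Nat.cast_ofNat, mul_zero, zero_sub, add_zero] at hrs hprod hgeq hBeq hkz hN'eq hk
    have hs : s = -((m : ℤ) * 2) - r := by linarith
    subst hs
    rw [hhz] at hgeq hBeq hkz
    have hf : (r - 1) * (r + 1) = 2 * (m : ℤ) * ((e : ℤ) - r - 1) := by linarith [hprod]
    have hre : r + 1 ≤ (e : ℤ) := by
      by_contra hc
      have : 2 * (m : ℤ) * ((e : ℤ) - r - 1) < 0 := mul_neg_of_pos_of_neg (by linarith) (by linarith)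
      nlinarith
    have hje : e ≤ j := by
      have h1 : (e + 2) * N' ≤ (e + 2) * m := Nat.mul_le_mul_left _ hN'
      have h2 : m * (2 * (e + 1)) ≤ m * (e + 2 + j) := by rw [Nat.mul_add m]; nlinarith
      have := Nat.le_of_mul_le_mul_left h2 (by omega)
      omega
    have hjez : (e : ℤ) ≤ j := by exact_mod_cast hje
    have he4 : e ≤ 4 := by
      by_contra hc
      have h1 : ((m : ℤ) * e) * e ≤ ((m : ℤ) * e) * j := mul_le_mul_of_nonneg_left hjez (by nlinarith)
      have h2 : ((e : ℤ) + 1) * r ≤ ((e : ℤ) + 1) * ((e : ℤ) - 1) :=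
        mul_le_mul_of_nonneg_left (by omega) (by omega)
      have h4 : (m : ℤ) * ((e : ℤ) - 2) ≤ e := by
        refine le_of_mul_le_mul_left ?_ (show (0 : ℤ) < e by omega)
        linarith
      have h3 : (2 : ℤ) * ((e : ℤ) - 2) ≤ m * ((e : ℤ) - 2) :=
        mul_le_mul_of_nonneg_right hm2z (by omega)
      omega
    obtain ⟨rn, rfl⟩ := Int.eq_ofNat_of_zero_le hr0.le
    rcases (show e = 2 ∨ e = 4 by omega) with rfl | rfl
    · have hr1 : rn = 1 := by omega
      subst hr1
      push_cast at hgeq hBeq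
      have hgm : (g : ℤ) * ((m : ℤ) + 1) = (m : ℤ) * j + m + 1 := by linarith
      have hB : (B : ℤ) * (2 * (m : ℤ) + 2) = 6 + j := by
        refine mul_left_cancel₀ (show (2 : ℤ) * m ≠ 0 by omega) ?_
        linarith
      have hdvd : ((m : ℤ) + 1) ∣ (j : ℤ) := ⟨(j : ℤ) + 1 - g, by linarith⟩
      have hj0 : 0 < (j : ℤ) := by omega
      have h3 := Int.le_of_dvd hj0 hdvd
      have hm' : m = 2 := by omega
      subst hm'
      push_cast at hB
      omega
    · have hm' : m = 2 := by
        have h2 : (4 : ℤ) + 1 = 5 := by norm_num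
        push_cast at hgeq hgz hf
        nlinarith
      subst hm'
      have hr3 : rn ≤ 3 := by omega
      interval_cases rn <;> norm_num at hf

end Cfsg.Agent.Lib.RankThreeFrob.Arith
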