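import Mathlib
import Cfsg.Agent.Lib.Frobenius.Basic
import Cfsg.Agent.Lib.Induced.FrobeniusKernel

/-!
# Rank three groups with a Frobenius group on a suborbit: the graph

`A` is a point, `B` a point of the suborbit on which the stabiliser of `A` is a Frobenius group.
-/

set_option autoImplicit false
set_option linter.unusedSectionVars false

open MulAction

namespace Cfsg.Agent.Lib.RankThreeFrob

universe u v

variable {G : Type u} [Group G] [Finite G] {X : Type v} [MulAction G X] [Finite X]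

/-- The hypotheses. -/
structure Setup (G : Type u) [Group G] {X : Type v} [MulAction G X] (A B : X) : Prop where
  even : Even (Nat.card G)
  prim : IsPreprimitive G X
  faithful : FaithfulSMul G X
  rank3 : Nat.card (orbitRel.Quotient ↥(stabilizer G A) X) = 3
  ne : B ≠ A
  faith : ∀ g ∈ stabilizer G A, (∀ h ∈ stabilizer G A, g • (h • B) = h • B) → g = 1
  fix : ∃ g ∈ stabilizer G A, g ≠ 1 ∧ g • B = B
  frob : ∀ g ∈ stabilizer G A, ∀ h ∈ stabilizer G A, g • B = B → g • (h • B) = h • B → h • B ≠ B → g = 1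

/-! ### Free and equi-stabilised actions on finite sets -/

/-- If every stabiliser of `P` on an invariant set has order `s`, then `|P| / s` divides its size. -/
theorem dvd_ncard_of_stab {Y : Type*} [MulAction G Y] [Finite Y] (P : Subgroup G) (S : Set Y)
    (hS : ∀ g ∈ P, ∀ y ∈ S, g • y ∈ S) (s d : ℕ) (hsd : Nat.card P = s * d)
    (hst : ∀ y ∈ S, Nat.card ↥(P ⊓ stabilizer G y) = s) : d ∣ S.ncard := by
  classical
  have hspos : 0 < s := by
    rcases Nat.eq_zero_or_pos s with h | h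
    · rw [h, zero_mul] at hsd
      exact absurd hsd Nat.card_pos.ne'
    · exact h
  let T : SubMulAction P Y := ⟨S, fun g _ hy => hS g g.2 _ hy⟩
  have horb : ∀ ω : orbitRel.Quotient P T, Nat.card ω.orbit = d := by
    intro ω
    induction ω using Quotient.inductionOn' with
    | h y =>
      rw [orbitRel.Quotient.orbit_mk]
      have h1 := Nat.card_congr (orbitEquivQuotientStabilizer P y)
      have h2 : Nat.card (stabilizer P y) = s := by
        rw [← hst y.1 y.2]
        refine Nat.card_congr ⟨fun g => ⟨g.1.1, g.1.2, congrArg Subtype.val g.2⟩,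
          fun g => ⟨⟨g.1, g.2.1⟩, Subtype.ext g.2.2⟩, fun g => rfl, fun g => rfl⟩
      have h3 := Subgroup.card_eq_card_quotient_mul_card_subgroup (stabilizer P y)
      rw [hsd, h2, ← h1, mul_comm s d] at h3
      exact (Nat.eq_of_mul_eq_mul_right hspos h3).symm
  have h4 := Nat.card_congr (selfEquivSigmaOrbits' P T)
  letI := Fintype.ofFinite (orbitRel.Quotient P T)
  rw [Nat.card_sigma] at h4
  rw [← Nat.card_coe_set_eq]
  change d ∣ Nat.card T
  rw [h4]
  exact Finset.dvd_sum fun ω _ => dvd_of_eq (horb ω).symm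

/-- A semiregular action on a set. -/
theorem card_dvd_of_free {Y : Type*} [MulAction G Y] [Finite Y] (P : Subgroup G) (S : Set Y)
    (hS : ∀ g ∈ P, ∀ y ∈ S, g • y ∈ S) (hfree : ∀ g ∈ P, ∀ y ∈ S, g • y = y → g = 1) :
    Nat.card P ∣ S.ncard :=
  dvd_ncard_of_stab P S hS 1 (Nat.card P) (one_mul _).symm fun y hy => by
    rw [show P ⊓ stabilizer G y = ⊥ from
      eq_bot_iff.mpr fun g hg => hfree g hg.1 y hy hg.2]
    exact Subgroup.card_bot

/-- A set with a fixed-point-free involutory relation has even size. -/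
theorem even_ncard_of_mate {Y : Type*} (S : Set Y) (hfin : S.Finite) (R : Y → Y → Prop)
    (hsymm : ∀ x y, R x y → R y x) (hirr : ∀ x, ¬ R x x) (h : ∀ x ∈ S, ∃! y, y ∈ S ∧ R x y) :
    Even S.ncard := by
  classical
  rw [Set.ncard_eq_toFinset_card S hfin]
  have key : ∀ n, ∀ T : Finset Y, T.card = n → (∀ x ∈ T, ∃! y, y ∈ T ∧ R x y) → Even n := by
    intro n
    induction n using Nat.strong_induction_on with
    | _ n ih =>
      intro T hT hm
      rcases T.eq_empty_or_nonempty with rfl | ⟨x, hx⟩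
      · simp [← hT]
      obtain ⟨y, ⟨hy, hxy⟩, -⟩ := hm x hx
      have hne : y ≠ x := fun e => hirr x (e ▸ hxy)
      have hyT : y ∈ T.erase x := Finset.mem_erase.mpr ⟨hne, hy⟩
      have hc : ((T.erase x).erase y).card + 2 = n := by
        have h1 := Finset.card_erase_add_one hyT
        have h2 := Finset.card_erase_add_one hx
        omega
      have hT' : ∀ z ∈ (T.erase x).erase y, ∃! w, w ∈ (T.erase x).erase y ∧ R z w := by
        intro z hz
        simp only [Finset.mem_erase] at hz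
        obtain ⟨w, ⟨hw, hzw⟩, huw⟩ := hm z hz.2.2
        refine ⟨w, ⟨?_, hzw⟩, fun w' hw' => huw w' ⟨?_, hw'.2⟩⟩
        · simp only [Finset.mem_erase]
          refine ⟨fun e => hz.2.1 ?_, fun e => hz.1 ?_, hw⟩
          · subst e; exact (hm w hw).unique ⟨hz.2.2, hsymm _ _ hzw⟩ ⟨hx, hsymm _ _ hxy⟩
          · subst e; exact (hm w hw).unique ⟨hz.2.2, hsymm _ _ hzw⟩ ⟨hy, hxy⟩
        · simp only [Finset.mem_erase] at hw'
          exact hw'.1.2.2
      have := ih _ (by omega) _ rfl hT'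
      rw [← hc]
      exact this.add even_two
  exact key _ _ rfl fun x hx => by
    obtain ⟨y, ⟨hy, hxy⟩, hu⟩ := h x (hfin.mem_toFinset.mp hx)
    exact ⟨y, ⟨hfin.mem_toFinset.mpr hy, hxy⟩, fun z hz => hu z ⟨hfin.mem_toFinset.mp hz.1, hz.2⟩⟩

/-! ### The graph -/

/-- `Q` lies in the suborbit of `P` corresponding to `B`. -/
def Adj (G : Type u) [Group G] {X : Type v} [MulAction G X] (A B : X) (P Q : X) : Prop :=
  ∃ g : G, g • A = P ∧ g • B = Q

/-- The stabiliser of `A` and `B`. -/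
def two (G : Type u) [Group G] {X : Type v} [MulAction G X] (A B : X) : Subgroup G :=
  stabilizer G A ⊓ stabilizer G B

/-- The far suborbit. -/
def far (G : Type u) [Group G] {X : Type v} [MulAction G X] (A B : X) : Set X :=
  {Q | Q ≠ A ∧ ¬ Adj G A B A Q}

/-- The neighbours of a point. -/
def nbr (G : Type u) [Group G] {X : Type v} [MulAction G X] (A B P : X) : Set X :=
  {Q | Adj G A B P Q}

variable {A B : X}

theorem adj_AB : Adj G A B A B := ⟨1, one_smul _ _, one_smul _ _⟩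

theorem adj_smul {P Q : X} (g : G) (h : Adj G A B P Q) : Adj G A B (g • P) (g • Q) := by
  obtain ⟨x, rfl, rfl⟩ := h
  exact ⟨g * x, mul_smul _ _ _, mul_smul _ _ _⟩

theorem adj_smul_iff {P Q : X} (g : G) : Adj G A B (g • P) (g • Q) ↔ Adj G A B P Q :=
  ⟨fun h => by simpa using adj_smul g⁻¹ h, adj_smul g⟩

theorem adj_A_iff {Q : X} : Adj G A B A Q ↔ ∃ g ∈ stabilizer G A, g • B = Q :=
  ⟨fun ⟨g, h1, h2⟩ => ⟨g, h1, h2⟩, fun ⟨g, h1, h2⟩ => ⟨g, h1, h2⟩⟩

theorem mem_two {g : G} : g ∈ two G A B ↔ g • A = A ∧ g • B = B :=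
  Subgroup.mem_inf

namespace Setup

variable (S : Setup G A B)
include S

theorem trans : IsPretransitive G X := S.prim.toIsPretransitive

theorem eq_one {g : G} (h : ∀ x : X, g • x = x) : g = 1 :=
  S.faithful.eq_of_smul_eq_smul fun x => by rw [h x, one_smul]

theorem smul_eq (P : X) : ∃ g : G, g • A = P := S.trans.exists_smul_eq A P

theorem adj_irrefl (P : X) : ¬ Adj G A B P P := fun ⟨g, h1, h2⟩ =>
  S.ne (MulAction.injective g (h2.trans h1.symm))

theorem exists_far : ∃ C, C ∈ far G A B := by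
  classical
  by_contra hne
  rw [not_exists] at hne
  have : Nat.card (orbitRel.Quotient ↥(stabilizer G A) X) ≤ 2 := by
    let f : Bool → orbitRel.Quotient ↥(stabilizer G A) X := fun b => cond b (Quotient.mk'' A) (Quotient.mk'' B)
    have hf : Function.Surjective f := by
      intro ω
      induction ω using Quotient.inductionOn' with
      | h Q =>
        by_cases h1 : Q = A
        · exact ⟨true, by simp [f, h1]⟩
        · obtain ⟨g, hg, hgB⟩ := adj_A_iff.mp (not_not.mp fun h => hne Q ⟨h1, h⟩)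
          exact ⟨false, Quotient.sound' ((orbitRel_apply).mpr ⟨⟨g⁻¹, inv_mem hg⟩, by
            change g⁻¹ • Q = B
            rw [← hgB, inv_smul_smul]⟩)⟩
    simpa using Nat.card_le_card_of_surjective f hf
  have := S.rank3
  omega

theorem far_transitive {Q R : X} (hQ : Q ∈ far G A B) (hR : R ∈ far G A B) :
    ∃ g ∈ stabilizer G A, g • Q = R := by
  classical
  by_contra hne
  let f : Fin 4 → orbitRel.Quotient ↥(stabilizer G A) X := fun i => Quotient.mk'' (![A, B, Q, R] i)
  have rel : ∀ x y : X, (Quotient.mk'' x : orbitRel.Quotient ↥(stabilizer G A) X) = Quotient.mk'' y →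
      ∃ g ∈ stabilizer G A, g • y = x := fun x y e => by
    obtain ⟨g, hg⟩ := orbitRel_apply.mp (Quotient.exact' e)
    exact ⟨g, g.2, hg⟩
  have nA : ∀ x, x ≠ A → ¬ ∃ g ∈ stabilizer G A, g • A = x := fun x hx ⟨g, hg, e⟩ => hx (e ▸ hg)
  have nB : ∀ x ∈ far G A B, ¬ ∃ g ∈ stabilizer G A, g • B = x := fun x hx h => hx.2 (adj_A_iff.mpr h)
  have hinj : Function.Injective f := by
    have d : ∀ x y : X, (¬ ∃ g ∈ stabilizer G A, g • y = x) →
        (Quotient.mk'' x : orbitRel.Quotient ↥(stabilizer G A) X) ≠ Quotient.mk'' y :=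
      fun x y h e => h (rel x y e)
    have h01 := d B A (nA B S.ne)
    have h02 := d Q A (nA Q hQ.1)
    have h03 := d R A (nA R hR.1)
    have h12 := d Q B (nB Q hQ)
    have h13 := d R B (nB R hR)
    have h23 := d R Q hne
    intro i j hij
    fin_cases i <;> fin_cases j <;>
      first
      | rfl
      | exact absurd hij h01 | exact absurd hij h01.symm | exact absurd hij h02 | exact absurd hij h02.symm
      | exact absurd hij h03 | exact absurd hij h03.symm | exact absurd hij h12 | exact absurd hij h12.symm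
      | exact absurd hij h13 | exact absurd hij h13.symm | exact absurd hij h23 | exact absurd hij h23.symm
  have := Nat.card_le_card_of_injective f hinj
  rw [S.rank3, Nat.card_fin] at this
  omega

theorem exists_swap : ∃ s : G, s • A = B ∧ s • B = A := by
  classical
  haveI : Fact (Nat.Prime 2) := ⟨Nat.prime_two⟩
  obtain ⟨t, ht⟩ := exists_prime_orderOf_dvd_card' (G := G) 2 (even_iff_two_dvd.mp S.even)
  have ht1 : t ≠ 1 := fun e => by rw [e, orderOf_one] at ht; omega
  have htt : t * t = 1 := by rw [← pow_two, ← ht, pow_orderOf_eq_one]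
  obtain ⟨P, hP⟩ := not_forall.mp fun h => ht1 (S.eq_one h)
  obtain ⟨g, hg⟩ := S.trans.exists_smul_eq P A
  set u := g * t * g⁻¹ with hu
  set R := g • t • P with hR
  have huu : u * u = 1 := by
    rw [hu, show g * t * g⁻¹ * (g * t * g⁻¹) = g * (t * t) * g⁻¹ by group, htt]
    group
  have huA : u • A = R := by rw [hu, hR, ← hg, mul_smul, mul_smul, inv_smul_smul]
  have huR : u • R = A := by rw [← huA, ← mul_smul, huu, one_smul]
  have hRA : R ≠ A := by
    rw [hR, ← hg]
    exact fun e => hP (MulAction.injective g e)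
  by_cases hRadj : Adj G A B A R
  · obtain ⟨h, hh, hhB⟩ := adj_A_iff.mp hRadj
    have hhA : h⁻¹ • A = A := by rw [inv_smul_eq_iff, mem_stabilizer_iff.mp hh]
    refine ⟨h⁻¹ * u * h, ?_, ?_⟩
    · rw [mul_smul, mul_smul, mem_stabilizer_iff.mp hh, huA, ← hhB, inv_smul_smul]
    · rw [mul_smul, mul_smul, hhB, huR, hhA]
  · obtain ⟨g0, hg0⟩ := S.trans.exists_smul_eq B A
    by_cases h' : Adj G A B A (g0 • A)
    · obtain ⟨h, hh, hhB⟩ := adj_A_iff.mp h'
      refine ⟨h⁻¹ * g0, by rw [mul_smul, inv_smul_eq_iff, hhB], ?_⟩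
      rw [mul_smul, hg0, inv_smul_eq_iff, mem_stabilizer_iff.mp hh]
    · have hne : g0 • A ≠ A := fun e => S.ne (MulAction.injective g0 (hg0.trans e.symm))
      obtain ⟨h, hh, hhR⟩ := S.far_transitive ⟨hne, h'⟩ ⟨hRA, hRadj⟩
      exact absurd ⟨u * (h * g0), by rw [mul_smul u, mul_smul h, hhR, huR],
        by rw [mul_smul u, mul_smul h, hg0, mem_stabilizer_iff.mp hh, huA]⟩ hRadj

theorem adj_symm {P Q : X} (h : Adj G A B P Q) : Adj G A B Q P := by
  obtain ⟨s, hsA, hsB⟩ := S.exists_swap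
  obtain ⟨g, rfl, rfl⟩ := h
  exact ⟨g * s, by rw [mul_smul, hsA], by rw [mul_smul, hsB]⟩

/-! ### The kernel -/

theorem exists_kernel : ∃ K : Subgroup G, K ≤ stabilizer G A ∧
    (∀ h ∈ stabilizer G A, ∀ z ∈ K, h * z * h⁻¹ ∈ K) ∧
    (∀ h ∈ stabilizer G A, ∃ z ∈ K, ∃ y ∈ two G A B, h = z * y) ∧
    (∀ x, x ∈ K ↔ x = 1 ∨ (x ∈ stabilizer G A ∧ ∀ Q, Adj G A B A Q → x • Q ≠ Q)) ∧
    Nat.card (stabilizer G A) = Nat.card K * Nat.card (two G A B) ∧
    Nat.card (two G A B) ∣ Nat.card K - 1 := by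
  classical
  set H := stabilizer G A with hH
  set L : Subgroup H := (stabilizer G B).subgroupOf H with hL
  have memL : ∀ x : H, x ∈ L ↔ (x : G) • B = B := fun x => Iff.rfl
  have hFC : Cfsg.IsFrobeniusComplement L := by
    refine Frobenius.isFrobeniusComplement_iff.mpr ⟨fun e => ?_, fun e => ?_, fun g hg x hx hx' => ?_⟩
    · obtain ⟨g, hg, hg1, hgB⟩ := S.fix
      have : (⟨g, hg⟩ : H) ∈ L := hgB
      rw [e, Subgroup.mem_bot] at this
      exact hg1 (congrArg Subtype.val this)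
    · obtain ⟨g, hg, hg1, -⟩ := S.fix
      have hall : ∀ h : H, (h : G) • B = B := fun h => (memL h).mp (e ▸ Subgroup.mem_top h)
      refine hg1 (S.faith g hg fun h hh => ?_)
      rw [hall ⟨h, hh⟩]
      exact hall ⟨g, hg⟩
    · have h1 : (x : G) • B = B := hx
      have h2 : (x : G) • ((g : G) • B) = (g : G) • B := by
        have h3 : ((g⁻¹ * x * g : H) : G) • B = B := hx'
        simp only [Subgroup.coe_mul, Subgroup.coe_inv, mul_smul] at h3
        exact inv_smul_eq_iff.mp h3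
      exact Subtype.ext (S.frob x x.2 g g.2 h1 h2 fun e => hg e)
  obtain ⟨K, hKn, hKset, hc⟩ := Induced.FrobeniusKernel.exists_frobeniusKernel_subgroup hFC
  refine ⟨K.map H.subtype, Subgroup.map_subtype_le K, ?_, ?_, ?_, ?_, ?_⟩
  · rintro h hh z ⟨z', hz', rfl⟩
    exact ⟨_, hKn.conj_mem z' hz' ⟨h, hh⟩, rfl⟩
  · intro h hh
    obtain ⟨⟨z, y⟩, hzy, -⟩ := Subgroup.isComplement_iff_existsUnique.mp hc ⟨h, hh⟩
    exact ⟨_, ⟨z, z.2, rfl⟩, (y : H), ⟨(y : H).2, y.2⟩, congrArg Subtype.val hzy.symm⟩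
  · intro x
    constructor
    · rintro ⟨z, hz, rfl⟩
      by_cases hz1 : z = 1
      · exact Or.inl (by simp [hz1])
      refine Or.inr ⟨z.2, fun Q hQ hfix => ?_⟩
      obtain ⟨g, hg, rfl⟩ := adj_A_iff.mp hQ
      rcases (Set.ext_iff.mp hKset z).mp hz with h | h
      · exact hz1 h
      · apply h ⟨g, hg⟩
        rw [Frobenius.mem_conj_smul]
        change ((g⁻¹ * (z : G) * g)) • B = B
        change (z : G) • g • B = g • B at hfix
        rw [mul_smul, mul_smul, hfix, inv_smul_smul]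
    · rintro (rfl | ⟨hx, hfree⟩)
      · exact one_mem _
      refine ⟨⟨x, hx⟩, ?_, rfl⟩
      rw [SetLike.mem_coe, ← SetLike.mem_coe, hKset]
      refine Or.inr fun g hmem => ?_
      rw [Frobenius.mem_conj_smul] at hmem
      have h3 : ((g : G)⁻¹ * x * (g : G)) • B = B := hmem
      rw [mul_smul, mul_smul] at h3
      exact hfree _ (adj_A_iff.mpr ⟨g, g.2, rfl⟩) (inv_smul_eq_iff.mp h3)
  · rw [Subgroup.card_subtype, show two G A B = L.map H.subtype from ?_, Subgroup.card_subtype]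
    · exact hc.card_mul.symm
    · ext x
      simp only [two, Subgroup.mem_inf, Subgroup.mem_map, hL, Subgroup.mem_subgroupOf]
      exact ⟨fun h => ⟨⟨x, h.1⟩, h.2, rfl⟩, fun ⟨y, hy, e⟩ => e ▸ ⟨y.2, hy⟩⟩
  · rw [Subgroup.card_subtype, show two G A B = L.map H.subtype from ?_, Subgroup.card_subtype]
    · rw [← hc.index_eq_card]
      exact Frobenius.card_dvd_index_sub_one hFC
    · ext x
      simp only [two, Subgroup.mem_inf, Subgroup.mem_map, hL, Subgroup.mem_subgroupOf]
      exact ⟨fun h => ⟨⟨x, h.1⟩, h.2, rfl⟩, fun ⟨y, hy, e⟩ => e ▸ ⟨y.2, hy⟩⟩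

/-- The Frobenius kernel of the stabiliser of `A`. -/
noncomputable def kern : Subgroup G := Classical.choose S.exists_kernel

theorem kern_le : S.kern ≤ stabilizer G A := (Classical.choose_spec S.exists_kernel).1

theorem kern_conj {g z : G} (hg : g ∈ stabilizer G A) (hz : z ∈ S.kern) : g * z * g⁻¹ ∈ S.kern :=
  (Classical.choose_spec S.exists_kernel).2.1 g hg z hz

theorem decomp {g : G} (hg : g ∈ stabilizer G A) : ∃ z ∈ S.kern, ∃ y ∈ two G A B, g = z * y :=
  (Classical.choose_spec S.exists_kernel).2.2.1 g hg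

theorem mem_kern_iff {x : G} :
    x ∈ S.kern ↔ x = 1 ∨ (x ∈ stabilizer G A ∧ ∀ Q, Adj G A B A Q → x • Q ≠ Q) :=
  (Classical.choose_spec S.exists_kernel).2.2.2.1 x

theorem card_stab : Nat.card (stabilizer G A) = Nat.card S.kern * Nat.card (two G A B) :=
  (Classical.choose_spec S.exists_kernel).2.2.2.2.1

theorem two_dvd_kern_sub_one : Nat.card (two G A B) ∣ Nat.card S.kern - 1 :=
  (Classical.choose_spec S.exists_kernel).2.2.2.2.2

theorem kern_fix {z : G} (hz : z ∈ S.kern) : z • A = A := S.kern_le hz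

theorem kern_free {Q : X} {x : G} (hx : x ∈ S.kern) (hQ : Adj G A B A Q) (hfix : x • Q = Q) :
    x = 1 :=
  (S.mem_kern_iff.mp hx).resolve_right fun h => h.2 Q hQ hfix

theorem exists_kern_smul {Q : X} (hQ : Adj G A B A Q) : ∃ z ∈ S.kern, z • B = Q := by
  obtain ⟨g, hg, rfl⟩ := adj_A_iff.mp hQ
  obtain ⟨z, hz, y, hy, rfl⟩ := S.decomp hg
  exact ⟨z, hz, by rw [mul_smul, (mem_two.mp hy).2]⟩

theorem coprime : (Nat.card S.kern).Coprime (Nat.card (two G A B)) := by
  obtain ⟨c, hc⟩ := S.two_dvd_kern_sub_one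
  have hpos : 0 < Nat.card S.kern := Nat.card_pos
  have h1 : Nat.card S.kern = Nat.card (two G A B) * c + 1 := by omega
  rw [h1, Nat.coprime_mul_left_add_left]
  exact Nat.coprime_one_left _

theorem two_le_two : 2 ≤ Nat.card (two G A B) := by
  obtain ⟨g, hg, hg1, hgB⟩ := S.fix
  haveI : Nontrivial (two G A B) := ⟨⟨⟨g, hg, hgB⟩, 1, fun e => hg1 (congrArg Subtype.val e)⟩⟩
  exact Finite.one_lt_card

theorem ncard_nbr (P : X) : (nbr G A B P).ncard = Nat.card S.kern := by
  obtain ⟨g, rfl⟩ := S.smul_eq P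
  rw [show nbr G A B (g • A) = (fun x : X => g • x) '' nbr G A B A from ?_,
    Set.ncard_image_of_injective _ (MulAction.injective g)]
  · rw [← Nat.card_coe_set_eq]
    refine (Nat.card_congr (Equiv.ofBijective (fun z : S.kern =>
      (⟨(z : G) • B, ⟨z, S.kern_fix z.2, rfl⟩⟩ : nbr G A B A)) ⟨fun z w e => ?_, fun Q => ?_⟩)).symm
    · have h : (z : G) • B = (w : G) • B := congrArg Subtype.val e
      refine Subtype.ext (inv_mul_eq_one.mp ?_).symm
      exact S.kern_free (mul_mem (inv_mem w.2) z.2) adj_AB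
        (by rw [mul_smul, h, inv_smul_smul])
    · obtain ⟨z, hz, hzQ⟩ := S.exists_kern_smul Q.2
      exact ⟨⟨z, hz⟩, Subtype.ext hzQ⟩
  · ext Q
    refine ⟨fun h => ⟨g⁻¹ • Q, ?_, smul_inv_smul _ _⟩, ?_⟩
    · have := adj_smul g⁻¹ (show Adj G A B (g • A) Q from h)
      rwa [inv_smul_smul] at this
    · rintro ⟨R, hR, rfl⟩
      exact adj_smul g hR

/-- An element other than `1` fixes at most one neighbour of a point it fixes. -/
theorem nbr_unique {x : G} (hx1 : x ≠ 1) {P Q R : X} (hP : x • P = P) (hQ : Adj G A B P Q)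
    (hR : Adj G A B P R) (hxQ : x • Q = Q) (hxR : x • R = R) : Q = R := by
  by_contra hne
  obtain ⟨g, rfl, rfl⟩ := hQ
  have hy : g⁻¹ * x * g ∈ stabilizer G A := by
    rw [mem_stabilizer_iff, mul_smul, mul_smul, hP, inv_smul_smul]
  have hR' : Adj G A B A (g⁻¹ • R) := by simpa using adj_smul g⁻¹ hR
  obtain ⟨h, hh, hhB⟩ := adj_A_iff.mp hR'
  have h1 := S.frob _ hy h hh (by rw [mul_smul, mul_smul, hxQ, inv_smul_smul])
    (by rw [hhB, mul_smul, mul_smul, smul_inv_smul, hxR])
    (by rw [hhB]; exact fun e => hne (by rw [← e, smul_inv_smul]))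
  apply hx1
  calc x = g * (g⁻¹ * x * g) * g⁻¹ := by group
    _ = 1 := by rw [h1]; group

theorem orderOf_dvd_two {x : G} {P Q : X} (hQ : Adj G A B P Q) (hP : x • P = P) (hxQ : x • Q = Q) :
    orderOf x ∣ Nat.card (two G A B) := by
  obtain ⟨g, rfl, rfl⟩ := hQ
  have hy : g⁻¹ * x * g ∈ two G A B :=
    mem_two.mpr ⟨by rw [mul_smul, mul_smul, hP, inv_smul_smul],
      by rw [mul_smul, mul_smul, hxQ, inv_smul_smul]⟩
  have e : orderOf (g⁻¹ * x * g) = orderOf x := by
    have := (MulAut.conj g⁻¹ : G ≃* G).orderOf_eq x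
    rwa [MulAut.conj_apply, inv_inv] at this
  rw [← e]
  exact Subgroup.orderOf_dvd_natCard _ hy

theorem orderOf_dvd_kern {x : G} {P : X} (hP : x • P = P)
    (hno : ∀ Q, Adj G A B P Q → x • Q ≠ Q) : orderOf x ∣ Nat.card S.kern := by
  obtain ⟨g, rfl⟩ := S.smul_eq P
  have hy : g⁻¹ * x * g ∈ S.kern := by
    refine S.mem_kern_iff.mpr (Or.inr ⟨?_, fun Q hQ hf => ?_⟩)
    · rw [mem_stabilizer_iff, mul_smul, mul_smul, hP, inv_smul_smul]
    · rw [mul_smul, mul_smul, inv_smul_eq_iff] at hf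
      exact hno _ (adj_smul g hQ) hf
  have e : orderOf (g⁻¹ * x * g) = orderOf x := by
    have := (MulAut.conj g⁻¹ : G ≃* G).orderOf_eq x
    rwa [MulAut.conj_apply, inv_inv] at this
  rw [← e]
  exact Subgroup.orderOf_dvd_natCard _ hy

theorem exists_fixed_nbr {x : G} {P Q R : X} (hQ : Adj G A B P Q) (hP : x • P = P) (hxQ : x • Q = Q)
    (hR : x • R = R) : ∃ T, Adj G A B R T ∧ x • T = T := by
  by_contra hno
  rw [not_exists] at hno
  have h1 := S.orderOf_dvd_two hQ hP hxQ
  have h2 := S.orderOf_dvd_kern hR fun T hT hf => hno T ⟨hT, hf⟩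
  have h3 := Nat.eq_one_of_dvd_coprimes S.coprime h2 h1
  obtain ⟨g, rfl⟩ := S.smul_eq R
  exact hno (g • B) ⟨⟨g, rfl, rfl⟩, by rw [orderOf_eq_one_iff.mp h3, one_smul]⟩

theorem kern_eq_one_of_adj {z : G} (hz : z ∈ S.kern) {P Q : X} (h : Adj G A B P Q) (hP : z • P = P)
    (hQ : z • Q = Q) : z = 1 :=
  orderOf_eq_one_iff.mp (Nat.eq_one_of_dvd_coprimes S.coprime (Subgroup.orderOf_dvd_natCard _ hz)
    (S.orderOf_dvd_two h hP hQ))

theorem mem_kern_of_orderOf {x : G} (hx : x ∈ stabilizer G A)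
    (h : (orderOf x).Coprime (Nat.card (two G A B))) : x ∈ S.kern := by
  refine S.mem_kern_iff.mpr ?_
  by_cases hx1 : x = 1
  · exact Or.inl hx1
  refine Or.inr ⟨hx, fun Q hQ hf => hx1 (orderOf_eq_one_iff.mp ?_)⟩
  exact Nat.eq_one_of_dvd_coprimes h dvd_rfl (S.orderOf_dvd_two hQ hx hf)

end Setup

end Cfsg.Agent.Lib.RankThreeFrob
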