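import Cfsg.Agent.Lib.RankThreeFrob.Odd

/-!
# Rank three groups with a Frobenius group on a suborbit: the involutions
-/

set_option autoImplicit false
set_option linter.unusedSectionVars false
set_option linter.style.haveILetI false

open MulAction

namespace Cfsg.Agent.Lib.RankThreeFrob

universe u v

variable {G : Type u} [Group G] [Finite G] {X : Type v} [MulAction G X] [Finite X] {A B : X}

/-- An involution fixing `A` and `B`. -/
structure Invol (G : Type u) [Group G] {X : Type v} [MulAction G X] (A B : X) (t : G) : Prop where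
  mem : t ∈ two G A B
  ne : t ≠ 1
  sq : t * t = 1

/-- The conjugates of an element. -/
def conjs (t : G) : Set G := {u | ∃ g : G, g * t * g⁻¹ = u}

theorem self_mem_conjs (t : G) : t ∈ conjs t := ⟨1, by group⟩

theorem conj_mem_conjs {t u : G} (g : G) (h : u ∈ conjs t) : g * u * g⁻¹ ∈ conjs t := by
  obtain ⟨x, rfl⟩ := h
  exact ⟨g * x, by group⟩

theorem conjs_sq {t u : G} (ht : t * t = 1) (h : u ∈ conjs t) : u * u = 1 := by
  obtain ⟨x, rfl⟩ := h
  rw [show x * t * x⁻¹ * (x * t * x⁻¹) = x * (t * t) * x⁻¹ by group, ht]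
  group

theorem conjs_ne {t u : G} (ht : t ≠ 1) (h : u ∈ conjs t) : u ≠ 1 := by
  obtain ⟨x, rfl⟩ := h
  intro e
  exact ht (by simpa using e)

theorem smul_smul_of_sq {u : G} (hu : u * u = 1) (Q : X) : u • u • Q = Q := by
  rw [← mul_smul, hu, one_smul]

/-- Double counting over a class and the points, for an invariant relation. -/
theorem conjs_double_count [IsPretransitive G X] (t : G) (P : G → X → Prop)
    (hP : ∀ g u y, P u y → P (g * u * g⁻¹) (g • y)) (A : X) :
    (conjs t).ncard * {y : X | P t y}.ncard = Nat.card X * {u : G | u ∈ conjs t ∧ P u A}.ncard := by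
  classical
  letI := Fintype.ofFinite G
  letI := Fintype.ofFinite X
  have hP' : ∀ g u y, P (g * u * g⁻¹) (g • y) → P u y := fun g u y h => by
    have := hP g⁻¹ _ _ h
    rwa [inv_smul_smul, show g⁻¹ * (g * u * g⁻¹) * g⁻¹⁻¹ = u by group] at this
  have h := Finset.sum_card_bipartiteAbove_eq_sum_card_bipartiteBelow (s := (conjs t).toFinset)
    (t := (Finset.univ : Finset X)) P
  have e1 : ∀ u ∈ (conjs t).toFinset,
      (Finset.bipartiteAbove P Finset.univ u).card = {y : X | P t y}.ncard := by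
    intro u hu
    obtain ⟨g, rfl⟩ := Set.mem_toFinset.mp hu
    rw [← Set.ncard_coe_finset, ← Set.ncard_image_of_injective {y : X | P t y} (MulAction.injective g)]
    congr 1
    ext y
    simp only [Finset.bipartiteAbove, Finset.coe_filter, Finset.mem_univ, true_and, Set.mem_image,
      Set.mem_ofPred_eq]
    refine ⟨fun h => ⟨g⁻¹ • y, hP' g t _ (by rwa [smul_inv_smul]), smul_inv_smul _ _⟩, ?_⟩
    rintro ⟨z, hz, rfl⟩
    exact hP g t z hz
  have e2 : ∀ y ∈ (Finset.univ : Finset X),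
      (Finset.bipartiteBelow P (conjs t).toFinset y).card = {u : G | u ∈ conjs t ∧ P u A}.ncard := by
    intro y _
    obtain ⟨g, rfl⟩ := exists_smul_eq G A y
    rw [← Set.ncard_coe_finset, ← Set.ncard_image_of_injective {u : G | u ∈ conjs t ∧ P u A}
      (MulAut.conj g).injective]
    congr 1
    ext u
    simp only [Finset.bipartiteBelow, Finset.coe_filter, Set.mem_toFinset, Set.mem_image,
      Set.mem_ofPred_eq, MulAut.conj_apply]
    refine ⟨fun h => ⟨g⁻¹ * u * g, ⟨by simpa using conj_mem_conjs g⁻¹ h.1, hP' g _ _ ?_⟩, by group⟩, ?_⟩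
    · rw [show g * (g⁻¹ * u * g) * g⁻¹ = u by group]; exact h.2
    · rintro ⟨z, hz, rfl⟩
      exact ⟨conj_mem_conjs g hz.1, hP g z A hz.2⟩
  rw [Finset.sum_congr rfl e1, Finset.sum_congr rfl e2, Finset.sum_const, Finset.sum_const, smul_eq_mul,
    smul_eq_mul, ← Set.ncard_eq_toFinset_card', Finset.card_univ, ← Nat.card_eq_fintype_card] at h
  exact h

namespace Setup

variable (S : Setup G A B)
include S

theorem exists_invol : ∃ t : G, Invol G A B t := by
  haveI : Fact (Nat.Prime 2) := ⟨Nat.prime_two⟩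
  obtain ⟨y, hy⟩ := exists_prime_orderOf_dvd_card' (G := two G A B) 2 (even_iff_two_dvd.mp S.even_two)
  refine ⟨y, y.2, fun e => ?_, ?_⟩
  · rw [show y = 1 from Subtype.ext e, orderOf_one] at hy
    exact absurd hy (by norm_num)
  · have h := pow_orderOf_eq_one y
    rw [hy, pow_two] at h
    exact congrArg Subtype.val h

theorem odd_kern : Odd (Nat.card S.kern) := by
  obtain ⟨c, hc⟩ := S.two_dvd_kern_sub_one
  obtain ⟨d, hd⟩ := S.even_two
  have : 0 < Nat.card S.kern := Nat.card_pos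
  refine ⟨d * c, ?_⟩
  rw [hd, show (d + d) * c = 2 * (d * c) by ring] at hc
  omega

theorem eq_one_of_sq {z : G} (hz : z ∈ S.kern) (h : z * z = 1) : z = 1 := by
  have h1 : orderOf z ∣ 2 := orderOf_dvd_of_pow_eq_one (by rwa [pow_two])
  exact orderOf_eq_one_iff.mp (Nat.eq_one_of_dvd_coprimes (Nat.coprime_two_left.mpr S.odd_kern) h1
    (Subgroup.orderOf_dvd_natCard _ hz))

theorem eq_of_sq_eq {z w : G} (hz : z ∈ S.kern) (hw : w ∈ S.kern) (hc : Commute z w)
    (h : z * z = w * w) : z = w := by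
  have h1 : (z * w⁻¹) * (z * w⁻¹) = 1 := by
    rw [hc.inv_right.symm.mul_mul_mul_comm, h]
    group
  exact mul_inv_eq_one.mp (S.eq_one_of_sq (mul_mem hz (inv_mem hw)) h1)

variable {t : G} (ht : Invol G A B t)
include ht

theorem invol_smul_A : t • A = A := (mem_two.mp ht.mem).1

theorem invol_smul_B : t • B = B := (mem_two.mp ht.mem).2

theorem invol_inv : t⁻¹ = t := inv_eq_of_mul_eq_one_right ht.sq

theorem kern_inverted {z : G} (hz : z ∈ S.kern) : t * z * t⁻¹ = z⁻¹ := by
  let φ : S.kern →* S.kern :=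
    { toFun := fun w => ⟨t * w * t⁻¹, S.kern_conj ht.mem.1 w.2⟩
      map_one' := Subtype.ext (by simp)
      map_mul' := fun a b => Subtype.ext (by simp [mul_assoc]) }
  have hfpf : MonoidHom.FixedPointFree φ := fun w hw => Subtype.ext
    (S.eq_one_of_commute ht.mem ht.ne w.2 (mul_inv_eq_iff_eq_mul.mp (congrArg Subtype.val hw)))
  have hinv : Function.Involutive φ := fun w => Subtype.ext (by
    change t * (t * (w : G) * t⁻¹) * t⁻¹ = w
    rw [S.invol_inv ht, show t * (t * (w : G) * t) * t = (t * t) * w * (t * t) by group, ht.sq]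
    simp)
  exact congrArg Subtype.val (congrFun (hfpf.coe_eq_inv_of_involutive hinv) ⟨z, hz⟩)

theorem kern_comm {z w : G} (hz : z ∈ S.kern) (hw : w ∈ S.kern) : z * w = w * z := by
  have h1 := S.kern_inverted ht (mul_mem hz hw)
  rw [show t * (z * w) * t⁻¹ = (t * z * t⁻¹) * (t * w * t⁻¹) by group, S.kern_inverted ht hz,
    S.kern_inverted ht hw] at h1
  calc z * w = ((z * w)⁻¹)⁻¹ := (inv_inv _).symm
    _ = (z⁻¹ * w⁻¹)⁻¹ := by rw [h1]
    _ = w * z := by group

theorem invol_mul {z : G} (hz : z ∈ S.kern) : t * z = z⁻¹ * t := by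
  rw [← S.kern_inverted ht hz]
  group

theorem eq_invol_of_mem_two {y : G} (hy : y ∈ two G A B) (hy2 : y * y = 1) : y = 1 ∨ y = t := by
  by_cases hy1 : y = 1
  · exact Or.inl hy1
  right
  have hyI : Invol G A B y := ⟨hy, hy1, hy2⟩
  obtain ⟨z, hz, hz1⟩ : ∃ z ∈ S.kern, z ≠ 1 := by
    refine (Subgroup.bot_or_exists_ne_one S.kern).resolve_left fun e => ?_
    have h := S.two_le_two
    obtain ⟨C, hC⟩ := S.exists_far
    obtain ⟨a, b, ha, -, -, hk⟩ := S.exists_params hC
    rw [e, Subgroup.card_bot] at hk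
    have : 0 < Nat.card (two G A B) * (a + b) := Nat.mul_pos (by omega) (by omega)
    omega
  have hc : t * y * z = z * (t * y) := by
    rw [mul_assoc, S.invol_mul hyI hz, ← mul_assoc, S.invol_mul ht (inv_mem hz), inv_inv, mul_assoc]
  by_contra hne
  refine hz1 (S.eq_one_of_commute (mul_mem ht.mem hy) (fun e => hne ?_) hz hc)
  rw [eq_inv_of_mul_eq_one_right e, S.invol_inv ht]

theorem invol_central {y : G} (hy : y ∈ two G A B) : t * y = y * t := by
  have h := S.eq_invol_of_mem_two ht (mul_mem (mul_mem hy ht.mem) (inv_mem hy))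
    (conjs_sq ht.sq (conj_mem_conjs y (self_mem_conjs t)))
  rcases h with h | h
  · exact absurd h (conjs_ne ht.ne (conj_mem_conjs y (self_mem_conjs t)))
  · calc t * y = (y * t * y⁻¹) * y := by rw [h]
      _ = y * t := by group

theorem exists_sqrt {z : G} (hz : z ∈ S.kern) : ∃ w ∈ S.kern, w * w = z := by
  obtain ⟨d, hd⟩ := S.odd_kern
  refine ⟨z ^ (d + 1), pow_mem hz _, ?_⟩
  rw [← pow_add, show d + 1 + (d + 1) = Nat.card S.kern + 1 by omega, pow_succ]
  have : (⟨z, hz⟩ : S.kern) ^ Nat.card S.kern = 1 := pow_card_eq_one'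
  have h2 : z ^ Nat.card S.kern = 1 := congrArg Subtype.val this
  rw [h2, one_mul]

theorem kern_mul_invol_conj {z : G} (hz : z ∈ S.kern) : ∃ w ∈ S.kern, w * t * w⁻¹ = z * t := by
  obtain ⟨w, hw, rfl⟩ := S.exists_sqrt ht hz
  refine ⟨w, hw, ?_⟩
  rw [mul_assoc w t, S.invol_mul ht (inv_mem hw), inv_inv, ← mul_assoc]

theorem invol_stab {u : G} (hu : u ∈ stabilizer G A) (hu1 : u ≠ 1) (hu2 : u * u = 1) :
    ∃ z ∈ S.kern, u = z * t := by
  obtain ⟨z, hz, y, hy, rfl⟩ := S.decomp hu
  have hyA : y ∈ stabilizer G A := hy.1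
  have hyy : y * y = (z * (y * z * y⁻¹))⁻¹ := by
    refine eq_inv_of_mul_eq_one_right ?_
    rw [← hu2]
    group
  have hyyK : y * y ∈ S.kern := by
    rw [hyy]
    exact inv_mem (mul_mem hz (S.kern_conj hyA hz))
  have hyy1 : y * y = 1 := S.kern_free hyyK adj_AB (mem_two.mp (mul_mem hy hy)).2
  rcases S.eq_invol_of_mem_two ht hy hyy1 with rfl | rfl
  · rw [mul_one] at hu1 hu2
    exact absurd (S.eq_one_of_sq hz hu2) hu1
  · exact ⟨z, hz, rfl⟩

theorem mem_conjs_of_fix {u : G} {P : X} (hu1 : u ≠ 1) (hu2 : u * u = 1) (hP : u • P = P) :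
    u ∈ conjs t := by
  obtain ⟨g, rfl⟩ := S.smul_eq P
  have h : g⁻¹ * u * g ∈ stabilizer G A := by
    change (g⁻¹ * u * g) • A = A
    rw [mul_smul, mul_smul, hP, inv_smul_smul]
  obtain ⟨z, hz, e⟩ := S.invol_stab ht h (fun e => hu1 (by
      calc u = g * (g⁻¹ * u * g) * g⁻¹ := by group
        _ = 1 := by rw [e]; group))
    (by rw [show g⁻¹ * u * g * (g⁻¹ * u * g) = g⁻¹ * (u * u) * g by group, hu2]; group)
  obtain ⟨w, hw, ew⟩ := S.kern_mul_invol_conj ht hz
  refine ⟨g * w, ?_⟩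
  calc g * w * t * (g * w)⁻¹ = g * (w * t * w⁻¹) * g⁻¹ := by group
    _ = g * (g⁻¹ * u * g) * g⁻¹ := by rw [ew, e]
    _ = u := by group

/-- Two commuting involutions with a common fixed point are equal. -/
theorem commute_invol_eq {u u' : G} {P : X} (hu : u ≠ 1) (hu2 : u * u = 1) (hu' : u' ≠ 1)
    (hu2' : u' * u' = 1) (hP : u • P = P) (hP' : u' • P = P) (hc : u * u' = u' * u) : u = u' := by
  obtain ⟨g, rfl⟩ := S.smul_eq P
  have key : ∀ x : G, x ≠ 1 → x * x = 1 → x • g • A = g • A → ∃ z ∈ S.kern, g⁻¹ * x * g = z * t := by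
    intro x hx hx2 hxP
    refine S.invol_stab ht ?_ (fun e => hx ?_) ?_
    · change (g⁻¹ * x * g) • A = A
      rw [mul_smul, mul_smul, hxP, inv_smul_smul]
    · calc x = g * (g⁻¹ * x * g) * g⁻¹ := by group
        _ = 1 := by rw [e]; group
    · rw [show g⁻¹ * x * g * (g⁻¹ * x * g) = g⁻¹ * (x * x) * g by group, hx2]; group
  obtain ⟨z, hz, e⟩ := key u hu hu2 hP
  obtain ⟨z', hz', e'⟩ := key u' hu' hu2' hP'
  have h : z * t * (z' * t) = z' * t * (z * t) := by
    rw [← e, ← e']
    calc g⁻¹ * u * g * (g⁻¹ * u' * g) = g⁻¹ * (u * u') * g := by group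
      _ = g⁻¹ * (u' * u) * g := by rw [hc]
      _ = _ := by group
  have hh : ∀ a b : G, b ∈ S.kern → a * t * (b * t) = a * b⁻¹ := by
    intro a b hb
    rw [show a * t * (b * t) = a * ((t * b) * t) by group, S.invol_mul ht hb,
      show b⁻¹ * t * t = b⁻¹ * (t * t) by group, ht.sq, mul_one]
  rw [hh z z' hz', hh z' z hz] at h
  have h2 : z * z = z' * z' := by
    have := congrArg (fun x => z * x * z') h
    rw [show z * (z * z'⁻¹) * z' = z * z by group,
      show z * (z' * z⁻¹) * z' = (z * z') * (z⁻¹ * z') by group, S.kern_comm ht hz hz',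
      show z' * z * (z⁻¹ * z') = z' * z' by group] at this
    exact this
  have hzz : z = z' := S.eq_of_sq_eq hz hz' (S.kern_comm ht hz hz') h2
  rw [hzz, ← e'] at e
  exact mul_left_cancel (mul_right_cancel e)

theorem even_ncard_fix : Even {P : X | t • P = P}.ncard := by
  refine even_ncard_of_mate _ (Set.toFinite _) (Adj G A B) (fun _ _ h => S.adj_symm h) S.adj_irrefl
    fun P hP => ?_
  obtain ⟨Q, hQ, hQf⟩ := S.exists_fixed_nbr adj_AB (S.invol_smul_A ht) (S.invol_smul_B ht)
    (show t • P = P from hP)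
  exact ⟨Q, ⟨hQf, hQ⟩, fun R hR => S.nbr_unique ht.ne hP hR.2 hQ hR.1 hQf⟩

theorem ncard_conjs_fix : {u : G | u ∈ conjs t ∧ u • A = A}.ncard = Nat.card S.kern := by
  rw [← SetLike.coe_sort_coe, Nat.card_coe_set_eq]
  refine (Set.ncard_congr (fun z _ => z * t) (fun z hz => ?_) (fun a b _ _ e => mul_right_cancel e)
    fun u hu => ?_).symm
  · obtain ⟨w, hw, e⟩ := S.kern_mul_invol_conj ht hz
    refine ⟨⟨w, e⟩, ?_⟩
    rw [mul_smul, S.invol_smul_A ht]
    exact S.kern_fix hz
  · obtain ⟨z, hz, e⟩ := S.invol_stab ht hu.2 (conjs_ne ht.ne hu.1) (conjs_sq ht.sq hu.1)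
    exact ⟨z, hz, e.symm⟩

theorem conjs_mul_fix :
    (conjs t).ncard * {y : X | t • y = y}.ncard = Nat.card X * Nat.card S.kern := by
  haveI := S.trans
  rw [← S.ncard_conjs_fix ht]
  exact conjs_double_count t (fun u y => u • y = y)
    (fun g u y h => by rw [mul_smul, mul_smul, inv_smul_smul, h]) A

end Setup

/-- The conjugates of `t` exchanging `A` with `Q`. -/
def swappers (t : G) (A Q : X) : Set G := {u | u ∈ conjs t ∧ u • A = Q}

namespace Setup

variable (S : Setup G A B) {t : G} (ht : Invol G A B t)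
include S ht

theorem ncard_swappers_le {Q : X} : (swappers t A Q).ncard ≤ Nat.card (pairStab G A Q) := by
  rcases (swappers t A Q).eq_empty_or_nonempty with he | ⟨x0, hx0⟩
  · simp [he]
  rw [← SetLike.coe_sort_coe, Nat.card_coe_set_eq]
  refine Set.ncard_le_ncard_of_injOn (fun x => x0⁻¹ * x) ?_
    (fun a _ b _ e => mul_left_cancel e) (Set.toFinite _)
  intro x hx
  have e0 : x0 • Q = A := by rw [← hx0.2]; exact smul_smul_of_sq (conjs_sq ht.sq hx0.1) A
  have e1 : x • Q = A := by rw [← hx.2]; exact smul_smul_of_sq (conjs_sq ht.sq hx.1) A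
  refine ⟨?_, ?_⟩
  · change (x0⁻¹ * x) • A = A
    rw [mul_smul, hx.2, inv_smul_eq_iff, hx0.2]
  · change (x0⁻¹ * x) • Q = Q
    rw [mul_smul, e1, inv_smul_eq_iff, e0]

theorem ncard_swappers_smul {g : G} (hg : g ∈ stabilizer G A) (Q : X) :
    (swappers t A (g • Q)).ncard = (swappers t A Q).ncard := by
  rw [← Set.ncard_image_of_injective (swappers t A Q) (MulAut.conj g).injective]
  have hgA : g • A = A := hg
  have hgA' : g⁻¹ • A = A := inv_mem hg
  congr 1
  ext u
  simp only [swappers, Set.mem_image, Set.mem_ofPred_eq, MulAut.conj_apply]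
  refine ⟨fun h => ⟨g⁻¹ * u * g, ⟨by simpa using conj_mem_conjs g⁻¹ h.1, ?_⟩, by group⟩, ?_⟩
  · rw [mul_smul, mul_smul, hgA, h.2, inv_smul_smul]
  · rintro ⟨z, hz, rfl⟩
    exact ⟨conj_mem_conjs g hz.1, by rw [mul_smul, mul_smul, hgA', hz.2]⟩

theorem ncard_swappers_nbr :
    {u : G | u ∈ conjs t ∧ u • A ≠ A ∧ Adj G A B A (u • A)}.ncard =
      Nat.card S.kern * (swappers t A B).ncard := by
  classical
  letI := Fintype.ofFinite G
  letI := Fintype.ofFinite X
  rw [Set.ncard_eq_toFinset_card', Finset.card_eq_sum_card_fiberwise (t := (nbr G A B A).toFinset)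
    (f := fun u : G => u • A) (fun u hu => by
      simp only [Finset.mem_coe, Set.mem_toFinset, Set.mem_ofPred_eq] at hu ⊢
      exact hu.2.2), Finset.sum_congr rfl (g := fun _ => (swappers t A B).ncard) fun Q hQ => ?_,
    Finset.sum_const, smul_eq_mul, ← Set.ncard_eq_toFinset_card', S.ncard_nbr]
  rw [Set.mem_toFinset] at hQ
  obtain ⟨g, hg, rfl⟩ := adj_A_iff.mp hQ
  rw [← S.ncard_swappers_smul ht hg B, ← Set.ncard_coe_finset]
  congr 1
  ext u
  simp only [Finset.coe_filter, Set.mem_toFinset, Set.mem_ofPred_eq, swappers]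
  refine ⟨fun h => ⟨h.1.1, h.2⟩, fun h => ⟨⟨h.1, ?_, by rw [h.2]; exact hQ⟩, h.2⟩⟩
  rw [h.2]
  exact fun e => S.adj_irrefl A (show Adj G A B A A by
    have := hQ; rw [nbr, Set.mem_ofPred_eq, e] at this; exact this)

theorem ncard_swappers_far {C : X} (hC : C ∈ far G A B) :
    {u : G | u ∈ conjs t ∧ u • A ≠ A ∧ ¬ Adj G A B A (u • A)}.ncard =
      (far G A B).ncard * (swappers t A C).ncard := by
  classical
  letI := Fintype.ofFinite G
  letI := Fintype.ofFinite X
  rw [Set.ncard_eq_toFinset_card', Finset.card_eq_sum_card_fiberwise (t := (far G A B).toFinset)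
    (f := fun u : G => u • A) (fun u hu => by
      simp only [Finset.mem_coe, Set.mem_toFinset, Set.mem_ofPred_eq] at hu ⊢
      exact hu.2), Finset.sum_congr rfl (g := fun _ => (swappers t A C).ncard) fun Q hQ => ?_,
    Finset.sum_const, smul_eq_mul, ← Set.ncard_eq_toFinset_card']
  rw [Set.mem_toFinset] at hQ
  obtain ⟨g, hg, rfl⟩ := S.far_transitive hC hQ
  rw [← S.ncard_swappers_smul ht hg C, ← Set.ncard_coe_finset]
  congr 1
  ext u
  simp only [Finset.coe_filter, Set.mem_toFinset, Set.mem_ofPred_eq, swappers]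
  exact ⟨fun h => ⟨h.1.1, h.2⟩, fun h => ⟨⟨h.1, by rw [h.2]; exact hQ.1, by rw [h.2]; exact hQ.2⟩, h.2⟩⟩

/-- The points moved to a neighbour by `t`. -/
theorem ncard_moved_adj :
    {y : X | t • y ≠ y ∧ Adj G A B y (t • y)}.ncard =
      {y : X | t • y = y}.ncard * (swappers t A B).ncard := by
  haveI := S.trans
  have h := conjs_double_count t (fun u y => u • y ≠ y ∧ Adj G A B y (u • y))
    (fun g u y h => by
      rw [mul_smul, mul_smul, inv_smul_smul]
      exact ⟨fun e => h.1 (MulAction.injective g e), adj_smul g h.2⟩) A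
  rw [S.ncard_swappers_nbr ht] at h
  have h1 := S.conjs_mul_fix ht
  have hpos : 0 < (conjs t).ncard := (Set.ncard_pos (Set.toFinite _)).mpr ⟨t, self_mem_conjs t⟩
  refine Nat.eq_of_mul_eq_mul_left hpos ?_
  rw [h, ← mul_assoc, ← h1]
  ring

theorem kern_mul_moved_far {C : X} (hC : C ∈ far G A B) :
    Nat.card S.kern * {y : X | t • y ≠ y ∧ ¬ Adj G A B y (t • y)}.ncard =
      {y : X | t • y = y}.ncard * ((far G A B).ncard * (swappers t A C).ncard) := by
  haveI := S.trans
  have h := conjs_double_count t (fun u y => u • y ≠ y ∧ ¬ Adj G A B y (u • y))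
    (fun g u y h => by
      rw [mul_smul, mul_smul, inv_smul_smul]
      exact ⟨fun e => h.1 (MulAction.injective g e), fun e => h.2 ((adj_smul_iff g).mp e)⟩) A
  rw [S.ncard_swappers_far ht hC] at h
  have h1 := S.conjs_mul_fix ht
  haveI : Nonempty X := ⟨A⟩
  refine Nat.eq_of_mul_eq_mul_left (Nat.card_pos (α := X)) ?_
  rw [← mul_assoc, ← h1, mul_comm (conjs t).ncard, mul_assoc, h]
  ring

omit S ht in
theorem ncard_split (t : G) :
    Nat.card X = {y : X | t • y = y}.ncard + {y : X | t • y ≠ y ∧ Adj G A B y (t • y)}.ncard +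
      {y : X | t • y ≠ y ∧ ¬ Adj G A B y (t • y)}.ncard := by
  rw [← Set.ncard_union_eq (by rw [Set.disjoint_left]; exact fun y h1 h2 => h2.1 h1),
    ← Set.ncard_union_eq (by
      rw [Set.disjoint_left]
      rintro y (h1 | h1) h2
      · exact h2.1 h1
      · exact h2.2 h1.2), ← Set.ncard_univ]
  congr 1
  ext y
  by_cases h1 : t • y = y <;> by_cases h2 : Adj G A B y (t • y) <;> simp [h1, h2]

end Setup

end Cfsg.Agent.Lib.RankThreeFrob
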