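import Cfsg.Agent.Lib.RankThreeFrob.Orbits

/-!
# Rank three groups with a Frobenius group on a suborbit: the fixed points of `K ∩ G_C`
-/

set_option autoImplicit false
set_option linter.unusedSectionVars false
set_option linter.style.haveILetI false

open MulAction

namespace Cfsg.Agent.Lib.RankThreeFrob

universe u v

variable {G : Type u} [Group G] [Finite G] {X : Type v} [MulAction G X] [Finite X] {A B : X}

/-- An involution without fixed points on a finite set. -/
theorem even_ncard_of_invol {Y : Type*} [Finite Y] (U : Set Y) (φ : Y → Y) (hU : ∀ y ∈ U, φ y ∈ U)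
    (h2 : ∀ y ∈ U, φ (φ y) = y) (h1 : ∀ y ∈ U, φ y ≠ y) : Even U.ncard := by
  refine even_ncard_of_mate U (Set.toFinite _) (fun x y => x ≠ y ∧ ((x ∈ U ∧ φ x = y) ∨ (y ∈ U ∧ φ y = x)))
    (fun x y h => ⟨h.1.symm, h.2.symm⟩) (fun x h => h.1 rfl) fun x hx => ?_
  refine ⟨φ x, ⟨hU x hx, fun e => h1 x hx e.symm, Or.inl ⟨hx, rfl⟩⟩, ?_⟩
  rintro y ⟨hy, -, ⟨-, e⟩ | ⟨-, e⟩⟩
  · exact e.symm
  · rw [← e, h2 y hy]

namespace Setup

variable (S : Setup G A B) {t : G} (ht : Invol G A B t)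
include S ht

/-- The count of fixed points in a union of orbits of the kernel. -/
theorem kern_mul_ncard_fix_of {C : X} (hC : C ∈ far G A B) (htC : t • C = C) (U : Set X)
    (hUfar : U ⊆ far G A B) (hU : ∀ z ∈ S.kern, ∀ y ∈ U, z • y ∈ U) :
    Nat.card S.kern * ({D : X | t • D = D} ∩ U).ncard = U.ncard * Nat.card (S.kernAt C) := by
  classical
  letI := Fintype.ofFinite G
  letI := Fintype.ofFinite X
  set P : Finset (G × X) := ((S.kern : Set G).toFinset) ×ˢ (({D : X | t • D = D} ∩ U).toFinset) with hP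
  have h := Finset.card_eq_sum_card_fiberwise (s := P) (t := U.toFinset)
    (f := fun p => p.1 • p.2) (fun p hp => by
      simp only [hP, Finset.mem_coe, Finset.mem_product, Set.mem_toFinset] at hp ⊢
      exact hU _ hp.1 _ hp.2.2)
  have hfib : ∀ D ∈ U.toFinset, (P.filter fun p => p.1 • p.2 = D).card = Nat.card (S.kernAt C) := by
    intro D hD
    rw [Set.mem_toFinset] at hD
    obtain ⟨z, hz, E, hE, hEt, rfl⟩ := S.exists_fixed_in_orbit ht hC htC (hUfar hD)
    have hEU : E ∈ U := by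
      have := hU _ (inv_mem hz) _ hD
      rwa [inv_smul_smul] at this
    rw [← S.card_kernAt_eq hC hE, ← SetLike.coe_sort_coe, Nat.card_coe_set_eq, ← Set.ncard_coe_finset]
    refine (Set.ncard_congr (fun x _ => (z * x, E)) (fun x hx => ?_)
      (fun a b _ _ e => mul_left_cancel (congrArg Prod.fst e)) fun p hp => ?_).symm
    · simp only [hP, Finset.coe_filter, Set.mem_ofPred_eq, Finset.mem_product, Set.mem_toFinset]
      exact ⟨⟨mul_mem hz hx.1, hEt, hEU⟩, by rw [mul_smul, (S.mem_kernAt.mp hx).2]⟩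
    · simp only [hP, Finset.coe_filter, Set.mem_ofPred_eq, Finset.mem_product, Set.mem_toFinset] at hp
      obtain ⟨⟨hp1, hp2, -⟩, hpe⟩ := hp
      have he : (z⁻¹ * p.1) • p.2 = E := by rw [mul_smul, hpe, inv_smul_smul]
      have hEeq := S.fixed_orbit_eq ht (mul_mem (inv_mem hz) hp1) hp2 hEt he
      refine ⟨z⁻¹ * p.1, S.mem_kernAt.mpr ⟨mul_mem (inv_mem hz) hp1, ?_⟩,
        Prod.ext (by group) hEeq⟩
      rw [← hEeq] at he
      exact he
  rw [Finset.sum_congr rfl hfib, Finset.sum_const, smul_eq_mul, hP, Finset.card_product,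
    ← Set.ncard_eq_toFinset_card', ← Set.ncard_eq_toFinset_card', ← Set.ncard_eq_toFinset_card',
    ← Nat.card_coe_set_eq, SetLike.coe_sort_coe] at h
  exact h

omit ht in
theorem kernAt_swap {D : X} {σ x : G} (hσA : σ • A = D) (hσD : σ • D = A) (hx : x ∈ S.kernAt D) :
    σ * x * σ⁻¹ ∈ S.kernAt D := by
  obtain ⟨hxK, hxD⟩ := S.mem_kernAt.mp hx
  have hxA : x • A = A := S.kern_fix hxK
  have h1 : (σ * x * σ⁻¹) • A = A := by
    rw [mul_smul, mul_smul, inv_smul_eq_iff.mpr hσD.symm, hxD, hσD]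
  have h2 : (σ * x * σ⁻¹) • D = D := by
    rw [mul_smul, mul_smul, inv_smul_eq_iff.mpr hσA.symm, hxA, hσA]
  refine S.mem_kernAt.mpr ⟨S.mem_kern_of_orderOf h1 ?_, h2⟩
  have e : orderOf (σ * x * σ⁻¹) = orderOf x := by
    have := (MulAut.conj σ : G ≃* G).orderOf_eq x
    rwa [MulAut.conj_apply] at this
  rw [e]
  exact S.coprime.coprime_dvd_left (Subgroup.orderOf_dvd_natCard _ hxK)

/-- The bounds when `K ∩ G_C` is non-trivial. -/
theorem kernAt_bounds {C : X} (hC : C ∈ far G A B) (htC : t • C = C) {m2 : ℕ}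
    (hm : Nat.card (pairStab G A C) = Nat.card (S.kernAt C) * m2) (hm2 : 2 ≤ m2)
    (h1 : Nat.card (S.kernAt C) ≠ 1) : (orbit S.kern C).ncard = 3 ∧ m2 = 2 := by
  classical
  letI := Fintype.ofFinite G
  letI := Fintype.ofFinite X
  set M1 := S.kernAt C with hM1
  have hM1K : M1 ≤ S.kern := inf_le_left
  obtain ⟨x0, hx0, hx01⟩ : ∃ x ∈ M1, x ≠ 1 :=
    (Subgroup.bot_or_exists_ne_one M1).resolve_left fun e => h1 (by rw [e, Subgroup.card_bot])
  set q := (orbit S.kern C).ncard with hq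
  have hqk : q * Nat.card M1 = Nat.card S.kern := S.orbit_mul_kernAt C
  set F : Set X := {P | ∀ x ∈ M1, x • P = P} with hF
  have hAF : A ∈ F := fun x hx => S.kern_fix (hM1K hx)
  have hCF : C ∈ F := fun x hx => (S.mem_kernAt.mp hx).2
  have hCA : C ≠ A := hC.1
  have hFfar : ∀ P ∈ F, P ≠ A → P ∈ far G A B ∧ S.kernAt P = M1 := by
    intro P hP hPA
    have hfar : P ∈ far G A B := ⟨hPA, fun h => hx01 (S.kern_free (hM1K hx0) h (hP x0 hx0))⟩
    refine ⟨hfar, (Subgroup.eq_of_le_of_card_ge (fun x hx => S.mem_kernAt.mpr ⟨hM1K hx, hP x hx⟩) ?_).symm⟩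
    exact (S.card_kernAt_eq hC hfar).le
  set N : Subgroup G := Subgroup.normalizer (M1 : Set G) with hN
  have hconj : ∀ g ∈ N, ∀ x ∈ M1, g * x * g⁻¹ ∈ M1 := fun g hg x hx =>
    (Subgroup.mem_normalizer_iff.mp hg x).mp hx
  have hNF : ∀ g ∈ N, ∀ P ∈ F, g • P ∈ F := by
    intro g hg P hP x hx
    have h := hP _ (hconj g⁻¹ (inv_mem hg) x hx)
    rw [inv_inv, mul_smul, mul_smul, inv_smul_eq_iff] at h
    exact h
  have hmemN : ∀ g : G, M1.map (MulAut.conj g).toMonoidHom = M1 → g ∈ N := by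
    intro g hg
    refine Subgroup.mem_normalizer_iff.mpr fun x => ?_
    conv_rhs => rw [← hg]
    exact ⟨fun h => ⟨x, h, rfl⟩, fun ⟨y, hy, e⟩ => by
      rw [MulEquiv.coe_toMonoidHom, MulAut.conj_apply] at e
      rwa [← mul_left_cancel (mul_right_cancel e)]⟩
  -- elements fixing `A`
  have hHN : ∀ D ∈ F, D ≠ A → ∀ g ∈ stabilizer G A, g • C = D → g ∈ N := by
    intro D hD hDA g hg e
    refine hmemN g ?_
    rw [hM1, ← S.kernAt_smul hg, e, (hFfar D hD hDA).2]
  have hswapN : ∀ D ∈ F, D ≠ A → ∃ σ ∈ N, σ • A = D ∧ σ • D = A := by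
    intro D hD hDA
    obtain ⟨hDfar, hDk⟩ := hFfar D hD hDA
    obtain ⟨σ, hσA, hσD⟩ := S.exists_swap_far hDfar
    refine ⟨σ, hmemN σ ?_, hσA, hσD⟩
    refine Subgroup.eq_of_le_of_card_ge ?_ (Subgroup.card_map_of_injective (MulAut.conj σ).injective).ge
    rintro _ ⟨x, hx, rfl⟩
    rw [← hDk] at hx ⊢
    exact S.kernAt_swap hσA hσD hx
  have hNtrans : ∀ D ∈ F, ∃ g ∈ N, g • A = D := by
    intro D hD
    by_cases hDA : D = A
    · exact ⟨1, one_mem _, by rw [one_smul, hDA]⟩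
    · obtain ⟨σ, h1, h2, -⟩ := hswapN D hD hDA
      exact ⟨σ, h1, h2⟩
  -- the centraliser
  set Z : Subgroup G := Subgroup.centralizer (M1 : Set G) with hZ
  have hZN : Z ≤ N := by
    intro g hg
    refine hmemN g (Subgroup.eq_of_le_of_card_ge ?_
      (Subgroup.card_map_of_injective (MulAut.conj g).injective).ge)
    rintro _ ⟨x, hx, rfl⟩
    rw [MulEquiv.coe_toMonoidHom, MulAut.conj_apply, (Subgroup.mem_centralizer_iff.mp hg x hx).symm,
      mul_inv_cancel_right]
    exact hx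
  have hZconj : ∀ g ∈ N, ∀ c ∈ Z, g * c * g⁻¹ ∈ Z := by
    intro g hg c hc
    refine Subgroup.mem_centralizer_iff.mpr fun x hx => ?_
    have h := Subgroup.mem_centralizer_iff.mp hc _ (hconj g⁻¹ (inv_mem hg) x hx)
    rw [inv_inv] at h
    calc x * (g * c * g⁻¹) = g * ((g⁻¹ * x * g) * c) * g⁻¹ := by group
      _ = g * (c * (g⁻¹ * x * g)) * g⁻¹ := by rw [h]
      _ = g * c * g⁻¹ * x := by group
  have hKZ : S.kern ≤ Z := fun z hz => Subgroup.mem_centralizer_iff.mpr fun x hx =>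
    S.kern_comm ht (hM1K hx) hz
  have hKN : S.kern ≤ N := hKZ.trans hZN
  have hZA : ∀ g ∈ Z, g • A = A → g ∈ S.kern := by
    intro g hg hgA
    obtain ⟨z, hz, y, hy, rfl⟩ := S.decomp hgA
    have h : x0 * (z * y) = z * y * x0 := Subgroup.mem_centralizer_iff.mp hg x0 hx0
    rw [← mul_assoc, S.kern_comm ht (hM1K hx0) hz, mul_assoc, mul_assoc, mul_right_inj] at h
    have hy1 : y = 1 := by
      by_contra hy1
      exact hx01 (S.eq_one_of_commute hy hy1 (hM1K hx0) h.symm)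
    rw [hy1, mul_one]
    exact hz
  have hKfix : ∀ D ∈ F, D ≠ A → ∀ z ∈ S.kern, z • D = D → z ∈ M1 := fun D hD hDA z hz hzD =>
    (hFfar D hD hDA).2 ▸ S.mem_kernAt.mpr ⟨hz, hzD⟩
  -- transitivity
  have hZtrans : ∀ D ∈ F, ∃ c ∈ Z, c • A = D := by
    by_contra hne
    push Not at hne
    obtain ⟨D, hD, hDno⟩ := hne
    have hst : ∀ U : Set X, U ⊆ F → A ∉ U → (∀ z ∈ S.kern, ∀ y ∈ U, z • y ∈ U) → q ∣ U.ncard := by
      intro U hUF hUA hUK
      refine dvd_ncard_of_stab S.kern U hUK (Nat.card M1) q (by rw [← hqk, mul_comm]) fun y hy => ?_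
      have hyA : y ≠ A := fun e => hUA (e ▸ hy)
      rw [← (hFfar y (hUF hy) hyA).2]
      exact Nat.card_congr ⟨fun x => ⟨x.1, S.mem_kernAt.mpr ⟨x.2.1, x.2.2⟩⟩,
        fun x => ⟨x.1, x.2.1, (S.mem_kernAt.mp x.2).2⟩, fun x => rfl, fun x => rfl⟩
    set O : Set X := orbit Z A with hO
    have hOF : O ⊆ F := by
      rintro _ ⟨⟨c, hc⟩, rfl⟩
      exact hNF c (hZN hc) A hAF
    obtain ⟨σ, hσ, hσA, -⟩ := hswapN D hD (fun e => hDno 1 (one_mem _) (by rw [one_smul, e]))
    have h1 : q ∣ (O \ {A}).ncard := by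
      refine hst _ (fun y hy => hOF hy.1) (fun h => h.2 rfl) fun z hz y hy => ⟨?_, fun e => hy.2 ?_⟩
      · obtain ⟨⟨c, hc⟩, rfl⟩ := hy.1
        exact ⟨⟨z * c, mul_mem (hKZ hz) hc⟩, mul_smul z c A⟩
      · rw [Set.mem_singleton_iff] at e ⊢
        exact MulAction.injective z (e.trans (S.kern_fix hz).symm)
    have h2 : q ∣ ((fun y : X => σ • y) '' O).ncard := by
      refine hst _ ?_ ?_ ?_
      · rintro _ ⟨y, hy, rfl⟩
        exact hNF σ hσ y (hOF hy)
      · rintro ⟨_, ⟨⟨c, hc⟩, rfl⟩, e⟩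
        refine hDno (σ * c⁻¹ * σ⁻¹) (hZconj σ hσ _ (inv_mem hc)) ?_
        change σ • c • A = A at e
        calc (σ * c⁻¹ * σ⁻¹) • A = (σ * c⁻¹ * σ⁻¹) • σ • c • A := by rw [e]
          _ = σ • A := by simp [mul_smul]
          _ = D := hσA
      · rintro z hz _ ⟨_, ⟨⟨c, hc⟩, rfl⟩, rfl⟩
        refine ⟨(σ⁻¹ * z * σ * c) • A, ⟨⟨_, mul_mem ?_ hc⟩, rfl⟩, ?_⟩
        · have := hZconj σ⁻¹ (inv_mem hσ) z (hKZ hz)
          rwa [inv_inv] at this
        · change σ • (σ⁻¹ * z * σ * c) • A = z • σ • c • A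
          simp [mul_smul]
    rw [Set.ncard_image_of_injective _ (MulAction.injective σ)] at h2
    rw [Set.ncard_sdiff_singleton_of_mem (show A ∈ O from mem_orbit_self A)] at h1
    have hOpos : 0 < O.ncard := (Set.ncard_pos (Set.toFinite _)).mpr ⟨A, mem_orbit_self A⟩
    have h3 : q ∣ 1 := by
      have := Nat.dvd_sub h2 h1
      rwa [show O.ncard - (O.ncard - 1) = 1 by omega] at this
    have h4 : 1 < q := S.one_lt_orbit hC
    exact absurd (Nat.le_of_dvd one_pos h3) (by omega)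
  -- the number of points
  set n := F.ncard with hn
  set R := ({D : X | t • D = D} ∩ F).ncard with hR
  have hR2 : 2 ≤ R := by
    refine le_trans (le_of_eq (Set.ncard_pair hCA).symm) (Set.ncard_le_ncard ?_ (Set.toFinite _))
    rintro y (rfl | rfl)
    · exact ⟨htC, hCF⟩
    · exact ⟨S.invol_smul_A ht, hAF⟩
  have hn1 : n - 1 = q * (R - 1) := by
    have h := S.kern_mul_ncard_fix_of ht hC htC (F \ {A}) (fun y hy => (hFfar y hy.1 hy.2).1)
      fun z hz y hy => ⟨hNF z (hKN hz) y hy.1, fun e => hy.2 (by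
        rw [Set.mem_singleton_iff] at e ⊢
        exact MulAction.injective z (e.trans (S.kern_fix hz).symm))⟩
    rw [Set.ncard_sdiff_singleton_of_mem hAF,
      show {D : X | t • D = D} ∩ (F \ {A}) = ({D : X | t • D = D} ∩ F) \ {A} from Set.inter_sdiff_assoc .. |>.symm,
      Set.ncard_sdiff_singleton_of_mem (show A ∈ {D : X | t • D = D} ∩ F from ⟨S.invol_smul_A ht, hAF⟩),
      ← hqk] at h
    refine Nat.eq_of_mul_eq_mul_right (Nat.card_pos (α := M1)) ?_
    rw [← h]
    ring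
  have htN : t ∈ N := hHN C hCF hCA t ht.mem.1 htC
  -- an involution exchanging two points commutes with one fixing them
  have hReven : Even R := by
    by_contra hRodd
    obtain ⟨z0, hz0, hz0M⟩ : ∃ z ∈ S.kern, z ∉ M1 := by
      refine SetLike.not_le_iff_exists.mp fun hle => ?_
      have h4 := S.one_lt_orbit hC
      have h5 := Subgroup.card_dvd_of_le hle
      rw [← hqk, ← hq] at *
      have h6 := Nat.le_of_dvd Nat.card_pos h5
      have : Nat.card M1 < q * Nat.card M1 := lt_mul_of_one_lt_left Nat.card_pos h4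
      omega
    have hPQ : t • z0 • C ≠ z0 • C := fun e => hz0M
      (S.mem_kernAt.mpr ⟨hz0, S.fixed_orbit_eq ht hz0 htC e rfl⟩)
    have hPF : z0 • C ∈ F := hNF z0 (hKN hz0) C hCF
    obtain ⟨c, hc, hcA⟩ := hZtrans _ hPF
    set u := c⁻¹ * t * c with hu
    have huN : u ∈ N := mul_mem (mul_mem (inv_mem (hZN hc)) htN) (hZN hc)
    have huT : u ∈ conjs t := ⟨c⁻¹, by rw [hu, inv_inv]⟩
    have huA : u • A ≠ A := by
      rw [hu, mul_smul, mul_smul, hcA]
      intro e
      rw [inv_smul_eq_iff, hcA] at e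
      exact hPQ e
    obtain ⟨g, hg, hgD⟩ := S.far_transitive hC (hFfar _ (hNF u huN A hAF) huA).1
    have hgN : g ∈ N := hHN _ (hNF u huN A hAF) huA g hg hgD
    set u' := g⁻¹ * u * g with hu'
    have hgA : g • A = A := hg
    have hu'A : u' • A = C := by rw [hu', mul_smul, mul_smul, hgA, ← hgD, inv_smul_smul]
    have hu'N : u' ∈ N := mul_mem (mul_mem (inv_mem hgN) huN) hgN
    have hu'T : u' ∈ conjs t := by simpa [hu'] using conj_mem_conjs g⁻¹ huT
    have hu'2 : u' * u' = 1 := conjs_sq ht.sq hu'T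
    have hu'C : u' • C = A := by rw [← hu'A]; exact smul_smul_of_sq hu'2 A
    have hu'i : u'⁻¹ = u' := inv_eq_of_mul_eq_one_right hu'2
    -- the conjugate of `t` by `u'`
    obtain ⟨z, hz, hzt⟩ := S.invol_stab ht (u := u' * t * u'⁻¹)
      (show (u' * t * u'⁻¹) • A = A by rw [mul_smul, mul_smul, hu'i, hu'A, htC, hu'C])
      (conjs_ne ht.ne ⟨u', rfl⟩) (conjs_sq ht.sq ⟨u', rfl⟩)
    have hzC : z • C = C := by
      have h : (u' * t * u'⁻¹) • C = C := by
        rw [mul_smul, mul_smul, hu'i, hu'C, S.invol_smul_A ht, hu'A]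
      rw [hzt, mul_smul, htC] at h
      exact h
    have hzM : z ∈ M1 := S.mem_kernAt.mpr ⟨hz, hzC⟩
    have hφ : u' * z * u'⁻¹ = z⁻¹ := by
      have h : u' * (z * t) * u'⁻¹ = t := by
        rw [← hzt, show u' * (u' * t * u'⁻¹) * u'⁻¹ = (u' * u') * t * (u' * u')⁻¹ by group, hu'2]
        group
      rw [show u' * (z * t) * u'⁻¹ = (u' * z * u'⁻¹) * (u' * t * u'⁻¹) by group, hzt, ← mul_assoc] at h
      exact eq_inv_of_mul_eq_one_left (by
        calc u' * z * u'⁻¹ * z = u' * z * u'⁻¹ * z * t * t⁻¹ := by group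
          _ = t * t⁻¹ := by rw [h]
          _ = 1 := mul_inv_cancel t)
    obtain ⟨d, hd⟩ := S.odd_kern
    set w := z ^ (d + 1) with hw
    have hwM : w ∈ M1 := pow_mem hzM _
    have hww : w * w = z := by
      rw [hw, ← pow_add, show d + 1 + (d + 1) = Nat.card S.kern + 1 by omega, pow_succ,
        show z ^ Nat.card S.kern = 1 from congrArg Subtype.val (pow_card_eq_one' (x := (⟨z, hz⟩ : S.kern))),
        one_mul]
    have hφw : u' * w * u'⁻¹ = w⁻¹ := by rw [hw, ← conj_pow, hφ, inv_pow]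
    set v := w ^ (d + 1) with hv
    have hvM : v ∈ M1 := pow_mem hwM _
    have hvv : v * v = w := by
      rw [hv, ← pow_add, show d + 1 + (d + 1) = Nat.card S.kern + 1 by omega, pow_succ,
        show w ^ Nat.card S.kern = 1 from congrArg Subtype.val
          (pow_card_eq_one' (x := (⟨w, hM1K hwM⟩ : S.kern))), one_mul]
    have hvt : v * t * v⁻¹ = w * t := by
      rw [mul_assoc v t, S.invol_mul ht (inv_mem (hM1K hvM)), inv_inv, ← mul_assoc, hvv]
    have hcom : u' * (w * t) * u'⁻¹ = w * t := by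
      rw [show u' * (w * t) * u'⁻¹ = (u' * w * u'⁻¹) * (u' * t * u'⁻¹) by group, hφw, hzt, ← mul_assoc]
      congr 1
      rw [← hww]; group
    set u'' := v⁻¹ * u' * v with hu''
    have hu''T : u'' ∈ conjs t := by simpa [hu''] using conj_mem_conjs v⁻¹ hu'T
    have hvA : v • A = A := S.kern_fix (hM1K hvM)
    have hu''A : u'' • A = C := by
      rw [hu'', mul_smul, mul_smul, hvA, hu'A, inv_smul_eq_iff]
      exact ((S.mem_kernAt.mp hvM).2).symm
    have hu''t : u'' * t = t * u'' := by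
      have h : u' * (v * t * v⁻¹) = (v * t * v⁻¹) * u' := by
        rw [hvt]
        exact mul_inv_eq_iff_eq_mul.mp hcom
      calc u'' * t = v⁻¹ * (u' * (v * t * v⁻¹)) * v := by rw [hu'']; group
        _ = v⁻¹ * ((v * t * v⁻¹) * u') * v := by rw [h]
        _ = t * u'' := by rw [hu'']; group
    have hu''N : u'' ∈ N := mul_mem (mul_mem (inv_mem (hZN (hKZ (hM1K hvM)))) hu'N) (hZN (hKZ (hM1K hvM)))
    refine hRodd (even_ncard_of_invol _ (fun y => u'' • y) ?_ ?_ ?_)
    · rintro y ⟨hy1, hy2⟩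
      refine ⟨?_, hNF u'' hu''N y hy2⟩
      change t • u'' • y = u'' • y
      rw [← mul_smul, ← hu''t, mul_smul, show t • y = y from hy1]
    · exact fun y _ => smul_smul_of_sq (conjs_sq ht.sq hu''T) y
    · rintro y ⟨hy1, -⟩ e
      have := S.commute_invol_eq ht (conjs_ne ht.ne hu''T) (conjs_sq ht.sq hu''T) ht.ne ht.sq e hy1 hu''t
      rw [this, S.invol_smul_A ht] at hu''A
      exact hCA hu''A.symm
  have hqodd : Odd q := S.odd_kern.of_dvd_nat ⟨_, hqk.symm⟩
  have hneven : Even n := by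
    have hnpos : 0 < n := (Set.ncard_pos (Set.toFinite _)).mpr ⟨A, hAF⟩
    obtain ⟨a, ha⟩ := hqodd
    obtain ⟨b, hb⟩ := hReven
    rw [ha, show R - 1 = 2 * (b - 1) + 1 by omega] at hn1
    refine ⟨2 * a * (b - 1) + a + (b - 1) + 1, ?_⟩
    have e : (2 * a + 1) * (2 * (b - 1) + 1) = 2 * (2 * a * (b - 1) + a + (b - 1)) + 1 := by ring
    omega
  -- derangements
  let Der : G → Prop := fun x => ∀ P ∈ F, x • P ≠ P
  have htwo : ∀ x ∈ Z, ∀ P ∈ F, ∀ Q ∈ F, P ≠ Q → x • P = P → x • Q = Q → x ∈ M1 := by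
    intro x hx P hP Q hQ hPQ hxP hxQ
    obtain ⟨c, hc, rfl⟩ := hZtrans P hP
    have h1 : c⁻¹ * x * c ∈ S.kern := hZA _ (mul_mem (mul_mem (inv_mem hc) hx) hc) (by
      rw [mul_smul, mul_smul, hxP, inv_smul_smul])
    have h2 : c⁻¹ * x * c ∈ M1 := hKfix (c⁻¹ • Q) (hNF _ (inv_mem (hZN hc)) Q hQ)
      (fun e => hPQ (inv_smul_eq_iff.mp e).symm) _ h1 (by rw [mul_smul, mul_smul, smul_inv_smul, hxQ])
    have h3 := Subgroup.mem_centralizer_iff.mp hc _ h2
    have e : x = c⁻¹ * x * c := by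
      calc x = c * (c⁻¹ * x * c) * c⁻¹ := by group
        _ = (c⁻¹ * x * c) * c * c⁻¹ := by rw [h3]
        _ = c⁻¹ * x * c := by group
    rw [e]; exact h2
  have hcardZ : Nat.card Z = n * Nat.card S.kern := by
    have h := Subgroup.card_eq_card_quotient_mul_card_subgroup (stabilizer Z A)
    rw [← Nat.card_congr (orbitEquivQuotientStabilizer Z A), Nat.card_coe_set_eq] at h
    rw [h, show orbit Z A = F from ?_, show Nat.card (stabilizer Z A) = Nat.card S.kern from ?_]
    · exact Nat.card_congr ⟨fun g => ⟨g.1.1, hZA g.1 g.1.2 g.2⟩,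
        fun g => ⟨⟨g.1, hKZ g.2⟩, S.kern_fix g.2⟩, fun g => rfl, fun g => rfl⟩
    · ext P
      refine ⟨?_, fun hP => ?_⟩
      · rintro ⟨⟨c, hc⟩, rfl⟩
        exact hNF c (hZN hc) A hAF
      · obtain ⟨c, hc, e⟩ := hZtrans P hP
        exact ⟨⟨c, hc⟩, e⟩
  obtain ⟨j0, hj0Z, hj01, hj02⟩ : ∃ j ∈ Z, j ≠ 1 ∧ j * j = 1 := by
    haveI : Fact (Nat.Prime 2) := ⟨Nat.prime_two⟩
    obtain ⟨j, hj⟩ := exists_prime_orderOf_dvd_card' (G := Z) 2
      (hcardZ ▸ (even_iff_two_dvd.mp hneven).mul_right _)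
    refine ⟨j, j.2, fun e => ?_, ?_⟩
    · rw [show j = 1 from Subtype.ext e, orderOf_one] at hj
      exact absurd hj (by norm_num)
    · have h := pow_orderOf_eq_one j
      rw [hj, pow_two] at h
      exact congrArg Subtype.val h
  have hstabZ : ∀ x ∈ Z, ∀ P ∈ F, x • P = P → x * x = 1 → x = 1 := by
    intro x hx P hP hxP hx2
    obtain ⟨c, hc, rfl⟩ := hZtrans P hP
    have h1 : c⁻¹ * x * c ∈ S.kern := hZA _ (mul_mem (mul_mem (inv_mem hc) hx) hc) (by
      rw [mul_smul, mul_smul, hxP, inv_smul_smul])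
    have h2 := S.eq_one_of_sq h1 (by
      rw [show c⁻¹ * x * c * (c⁻¹ * x * c) = c⁻¹ * (x * x) * c by group, hx2]; group)
    calc x = c * (c⁻¹ * x * c) * c⁻¹ := by group
      _ = 1 := by rw [h2]; group
  have hj : ∀ D ∈ F, D ≠ A → ∃ j ∈ Z, j * j = 1 ∧ j • A = D := by
    intro D hD hDA
    have hD0 : j0 • A ∈ F := hNF j0 (hZN hj0Z) A hAF
    have hD0A : j0 • A ≠ A := fun e => hj01 (hstabZ j0 hj0Z A hAF e hj02)
    obtain ⟨g0, hg0, e0⟩ := S.far_transitive hC (hFfar _ hD0 hD0A).1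
    obtain ⟨g1, hg1, e1⟩ := S.far_transitive hC (hFfar D hD hDA).1
    have hgN : g1 * g0⁻¹ ∈ N :=
      mul_mem (hHN D hD hDA g1 hg1 e1) (inv_mem (hHN _ hD0 hD0A g0 hg0 e0))
    refine ⟨(g1 * g0⁻¹) * j0 * (g1 * g0⁻¹)⁻¹, hZconj _ hgN _ hj0Z, ?_, ?_⟩
    · rw [show g1 * g0⁻¹ * j0 * (g1 * g0⁻¹)⁻¹ * (g1 * g0⁻¹ * j0 * (g1 * g0⁻¹)⁻¹) =
        g1 * g0⁻¹ * (j0 * j0) * (g1 * g0⁻¹)⁻¹ by group, hj02]
      group
    · have hA' : (g1 * g0⁻¹)⁻¹ • A = A :=
        inv_mem (mul_mem hg1 (inv_mem hg0) : g1 * g0⁻¹ ∈ stabilizer G A)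
      rw [mul_smul, mul_smul, hA', mul_smul, ← e0, inv_smul_smul, e1]
  choose j hjZ hj2 hjA using hj
  have hjDer : ∀ D (hD : D ∈ F) (hDA : D ≠ A), ∀ m ∈ M1, Der (j D hD hDA * m) := by
    intro D hD hDA m hm P hP e
    rw [mul_smul, hP m hm] at e
    have := hstabZ _ (hjZ D hD hDA) P hP e (hj2 D hD hDA)
    have h := hjA D hD hDA
    rw [this, one_smul] at h
    exact hDA h.symm
  -- counting derangements
  set DS : Finset G := (Z : Set G).toFinset.filter Der with hDS
  have hcount : DS.card = (n - 1) * Nat.card M1 := by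
    have hpt : ∀ x ∈ (Z : Set G).toFinset, (F.toFinset.filter fun P => x • P = P).card +
        (if Der x then 1 else 0) = 1 + (if x ∈ M1 then n - 1 else 0) := by
      intro x hx
      rw [Set.mem_toFinset] at hx
      have hnpos : 0 < n := (Set.ncard_pos (Set.toFinite _)).mpr ⟨A, hAF⟩
      by_cases hxM : x ∈ M1
      · rw [if_pos hxM, if_neg (fun h => h A hAF (hAF x hxM)), Finset.filter_true_of_mem (fun P hP =>
          (Set.mem_toFinset.mp hP : P ∈ F) x hxM), ← Set.ncard_eq_toFinset_card', ← hn]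
        omega
      · rw [if_neg hxM]
        by_cases hder : Der x
        · rw [if_pos hder, Finset.filter_false_of_mem (fun P hP => hder P (Set.mem_toFinset.mp hP))]
          rfl
        · rw [if_neg hder]
          obtain ⟨P, hP, hxP⟩ : ∃ P ∈ F, x • P = P := by
            by_contra hno
            exact hder fun P hP e => hno ⟨P, hP, e⟩
          rw [show (F.toFinset.filter fun Q => x • Q = Q) = {P} from ?_, Finset.card_singleton]
          refine Finset.eq_singleton_iff_unique_mem.mpr ⟨by simp [hP, hxP], fun Q hQ => ?_⟩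
          rw [Finset.mem_filter, Set.mem_toFinset] at hQ
          by_contra hne
          exact hxM (htwo x hx Q hQ.1 P hP hne hQ.2 hxP)
    have h := Finset.sum_congr rfl hpt
    rw [Finset.sum_add_distrib, Finset.sum_add_distrib, ← Finset.sum_filter, Finset.sum_const,
      smul_eq_mul, mul_one, Finset.sum_const, smul_eq_mul, mul_one, ← Finset.sum_filter,
      Finset.sum_const, smul_eq_mul, ← Set.ncard_eq_toFinset_card', ← Nat.card_coe_set_eq] at h
    have hsum : ∑ x ∈ (Z : Set G).toFinset, (F.toFinset.filter fun P => x • P = P).card =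
        n * Nat.card S.kern := by
      have hh := Finset.sum_card_bipartiteAbove_eq_sum_card_bipartiteBelow
        (s := (Z : Set G).toFinset) (t := F.toFinset) (fun (x : G) (P : X) => x • P = P)
      refine hh.trans ?_
      rw [Finset.sum_congr rfl (g := fun _ => Nat.card S.kern) fun P hP => ?_, Finset.sum_const,
        smul_eq_mul, ← Set.ncard_eq_toFinset_card']
      rw [Set.mem_toFinset] at hP
      obtain ⟨c, hc, rfl⟩ := hZtrans P hP
      rw [← SetLike.coe_sort_coe S.kern, Nat.card_coe_set_eq, ← Set.ncard_coe_finset]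
      refine (Set.ncard_congr (fun x _ => c * x * c⁻¹) (fun x hx => ?_)
        (fun a b _ _ e => mul_left_cancel (mul_right_cancel e)) fun y hy => ?_).symm
      · simp only [Finset.bipartiteBelow, Finset.coe_filter, Set.mem_toFinset, Set.mem_ofPred_eq]
        refine ⟨mul_mem (mul_mem hc (hKZ hx)) (inv_mem hc), ?_⟩
        rw [mul_smul, mul_smul, inv_smul_smul, S.kern_fix hx]
      · simp only [Finset.bipartiteBelow, Finset.coe_filter, Set.mem_toFinset, Set.mem_ofPred_eq] at hy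
        exact ⟨c⁻¹ * y * c, hZA _ (mul_mem (mul_mem (inv_mem hc) hy.1) hc)
          (by rw [mul_smul, mul_smul, hy.2, inv_smul_smul]), by group⟩
    have hM1Z : ((Z : Set G).toFinset.filter fun x => x ∈ M1).card = Nat.card M1 := by
      rw [← SetLike.coe_sort_coe M1, Nat.card_coe_set_eq, ← Set.ncard_coe_finset]
      congr 1
      ext x
      simp only [Finset.coe_filter, Set.mem_toFinset, Set.mem_ofPred_eq]
      exact ⟨fun h => h.2, fun h => ⟨hKZ (hM1K h), h⟩⟩
    rw [hsum, SetLike.coe_sort_coe, hcardZ, hM1Z, ← hDS] at h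
    rw [mul_comm (n - 1)]
    omega
  have hderj : ∀ x (hx : x ∈ Z) (hd : Der x), ∀ P ∈ F,
      x • P = j (x • A) (hNF x (hZN hx) A hAF) (hd A hAF) • P := by
    intro x hx hxd P hP
    let f : {D : X // D ∈ F ∧ D ≠ A} × M1 → DS := fun p =>
      ⟨j p.1.1 p.1.2.1 p.1.2.2 * p.2, by
        rw [hDS, Finset.mem_filter, Set.mem_toFinset]
        exact ⟨mul_mem (hjZ _ _ _) (hKZ (hM1K p.2.2)), hjDer _ _ _ _ p.2.2⟩⟩
    have hfinj : Function.Injective f := by
      rintro ⟨⟨D, hD⟩, m⟩ ⟨⟨E, hE⟩, m'⟩ e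
      have e' : j D hD.1 hD.2 * (m : G) = j E hE.1 hE.2 * (m' : G) := congrArg Subtype.val e
      have hDE : D = E := by
        have h := congrArg (fun g : G => g • A) e'
        rwa [mul_smul, mul_smul, hAF m m.2, hAF m' m'.2, hjA, hjA] at h
      subst hDE
      exact Prod.ext rfl (Subtype.ext (mul_left_cancel e'))
    have hcard : Nat.card DS ≤ Nat.card ({D : X // D ∈ F ∧ D ≠ A} × M1) := by
      rw [Nat.card_prod, Nat.card_eq_fintype_card (α := DS), Fintype.card_coe, hcount,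
        show Nat.card {D : X // D ∈ F ∧ D ≠ A} = n - 1 from
          (Nat.card_coe_set_eq (F \ {A})).trans (Set.ncard_sdiff_singleton_of_mem hAF)]
    obtain ⟨⟨⟨D, hD⟩, m⟩, e⟩ := (hfinj.bijective_of_nat_card_le hcard).2
      ⟨x, by rw [hDS, Finset.mem_filter, Set.mem_toFinset]; exact ⟨hx, hxd⟩⟩
    have e' : j D hD.1 hD.2 * (m : G) = x := congrArg Subtype.val e
    have hDx : x • A = D := by rw [← e', mul_smul, hAF m m.2, hjA]
    subst hDx
    conv_lhs => rw [← e']
    rw [mul_smul, hP m m.2]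
  -- the elementary abelian group
  let W : G → Prop := fun x => x ∈ Z ∧ (x ∈ M1 ∨ Der x)
  have hagree : ∀ x y, W x → W y → x • A = y • A → ∀ P ∈ F, x • P = y • P := by
    rintro x y ⟨hx, hx'⟩ ⟨hy, hy'⟩ e P hP
    rcases hx' with hx' | hx' <;> rcases hy' with hy' | hy'
    · rw [hP x hx', hP y hy']
    · exact absurd ((e.symm.trans (hAF x hx'))) (hy' A hAF)
    · exact absurd (e.trans (hAF y hy')) (hx' A hAF)
    · rw [hderj x hx hx' P hP, hderj y hy hy' P hP]
      congr 2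
  have hWinv : ∀ x, W x → ∀ P ∈ F, x • x • P = P := by
    rintro x ⟨hx, hx'⟩ P hP
    rcases hx' with hx' | hx'
    · rw [hP x hx', hP x hx']
    · have hxP : x • P ∈ F := hNF x (hZN hx) P hP
      rw [hderj x hx hx' _ hxP, hderj x hx hx' P hP]
      exact smul_smul_of_sq (hj2 _ _ _) P
  have hWsq : ∀ x, W x → x * x ∈ M1 := fun x hx => htwo _ (mul_mem hx.1 hx.1) A hAF C hCF hCA.symm
    (by rw [mul_smul]; exact hWinv x hx A hAF) (by rw [mul_smul]; exact hWinv x hx C hCF)
  have hWmul : ∀ x y, W x → W y → W (x * y) := by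
    rintro x y hx hy
    refine ⟨mul_mem hx.1 hy.1, ?_⟩
    by_cases hd : Der (x * y)
    · exact Or.inr hd
    left
    simp only [Der, not_forall, not_not] at hd
    obtain ⟨P, hP, e⟩ := hd
    rcases hx.2 with hx' | hx'
    · rcases hy.2 with hy' | hy'
      · exact mul_mem hx' hy'
      · rw [mul_smul, (hNF y (hZN hy.1) P hP) x hx'] at e
        exact absurd e (hy' P hP)
    have hQ : y • P ∈ F := hNF y (hZN hy.1) P hP
    rw [mul_smul] at e
    have hxP : x • P = y • P := by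
      conv_lhs => rw [← e]
      exact hWinv x hx _ hQ
    have hne : P ≠ y • P := fun h => hx' P hP (hxP.trans h.symm)
    have h1 : (x⁻¹ * y) • P = P := by rw [mul_smul, inv_smul_eq_iff, hxP]
    have h2 : (x⁻¹ * y) • (y • P) = y • P := by
      rw [mul_smul, hWinv y hy P hP, inv_smul_eq_iff, e]
    have h3 := htwo _ (mul_mem (inv_mem hx.1) hy.1) P hP _ hQ hne h1 h2
    rw [show x * y = (x * x) * (x⁻¹ * y) by group]
    exact mul_mem (hWsq x hx) h3
  have hWcomm : ∀ x y, W x → W y → ∀ P ∈ F, x • y • P = y • x • P := by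
    intro x y hx hy P hP
    have hxP := hNF x (hZN hx.1) P hP
    have hyxP := hNF y (hZN hy.1) _ hxP
    have h := hWinv (x * y) (hWmul x y hx hy) (y • x • P) hyxP
    rw [mul_smul, mul_smul, hWinv y hy _ hxP, hWinv x hx _ hP] at h
    exact h
  have hWt : ∀ x, W x → W (t * x * t⁻¹) := by
    rintro x ⟨hx, hx'⟩
    refine ⟨hZconj t htN x hx, hx'.imp (hconj t htN x) fun hd P hP e => ?_⟩
    rw [mul_smul, mul_smul] at e
    refine hd (t⁻¹ • P) (hNF _ (inv_mem htN) P hP) ?_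
    rw [eq_inv_smul_iff]
    exact e
  -- representatives
  have hrep : ∀ D ∈ F, ∃ w, W w ∧ w • A = D := by
    intro D hD
    by_cases hDA : D = A
    · exact ⟨1, ⟨one_mem _, Or.inl (one_mem _)⟩, by rw [one_smul, hDA]⟩
    · refine ⟨j D hD hDA, ⟨hjZ _ _ _, Or.inr ?_⟩, hjA _ _ _⟩
      have h := hjDer D hD hDA 1 (one_mem _)
      rwa [mul_one] at h
  choose w hw hwA using hrep
  have htF : ∀ D ∈ F, t • D ∈ F := fun D hD => hNF t htN D hD
  have htA : t • A = A := S.invol_smul_A ht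
  have hti : t⁻¹ = t := S.invol_inv ht
  have hwt : ∀ D (hD : D ∈ F), ∀ P ∈ F, t • w D hD • P = w (t • D) (htF D hD) • t • P := by
    intro D hD P hP
    have h := hagree _ _ (hWt _ (hw D hD)) (hw (t • D) (htF D hD))
      (by rw [mul_smul, mul_smul, hti, htA, hwA, hwA]) (t • P) (htF P hP)
    rw [mul_smul, mul_smul, inv_smul_smul] at h
    exact h
  have hFmem : ∀ D (hD : D ∈ F), ∀ P ∈ F, w D hD • P ∈ F := fun D hD P hP => hNF _ (hZN (hw D hD).1) P hP
  have hsym : ∀ D (hD : D ∈ F) E (hE : E ∈ F), w D hD • E = w E hE • D := by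
    intro D hD E hE
    calc w D hD • E = w D hD • w E hE • A := by rw [hwA]
      _ = w E hE • w D hD • A := hWcomm _ _ (hw D hD) (hw E hE) A hAF
      _ = w E hE • D := by rw [hwA]
  -- the bound
  have hnR : n ≤ R * R := by
    let ψ : F → ({D : X | t • D = D} ∩ F : Set X) := fun D => ⟨w D.1 D.2 • t • (D : X), by
      change t • w D.1 D.2 • t • (D : X) = _
      rw [hwt D.1 D.2 _ (htF _ D.2), smul_smul_of_sq ht.sq, ← hsym D.1 D.2 _ (htF _ D.2)],
      hFmem _ _ _ (htF _ D.2)⟩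
    let s : ({D : X | t • D = D} ∩ F : Set X) → F := fun a =>
      if h : ∃ D, ψ D = a then Classical.choose h else ⟨A, hAF⟩
    have hs : ∀ D : F, ψ (s (ψ D)) = ψ D := fun D => by
      have h : ∃ D', ψ D' = ψ D := ⟨D, rfl⟩
      simp only [s, dif_pos h]
      exact Classical.choose_spec h
    let Φ : F → ({D : X | t • D = D} ∩ F : Set X) × ({D : X | t • D = D} ∩ F : Set X) :=
      fun D => (ψ D, ⟨w (s (ψ D)).1 (s (ψ D)).2 • (D : X), by
        set E := s (ψ D) with hE
        have hψ : w E.1 E.2 • t • (E : X) = w D.1 D.2 • t • (D : X) := congrArg Subtype.val (hs D)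
        change t • w E.1 E.2 • (D : X) = _
        rw [hwt E.1 E.2 _ D.2]
        -- `w_{tE} (tD) = w_E D`
        have h := congrArg (fun P => w E.1 E.2 • w (t • D) (htF _ D.2) • P) hψ
        rw [hWcomm _ _ (hw E.1 E.2) (hw _ (htF _ D.2)) _ (hFmem _ _ _ (htF _ E.2)),
          hWinv _ (hw E.1 E.2) _ (htF _ E.2)] at h
        rw [hsym (t • (E : X)) (htF _ E.2) (t • (D : X)) (htF _ D.2), h,
          hsym (D : X) D.2 (t • (D : X)) (htF _ D.2), hWinv _ (hw _ (htF _ D.2)) _ D.2],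
        hFmem _ _ _ D.2⟩)
    have hΦ : Function.Injective Φ := by
      intro D E e
      have e1 : ψ D = ψ E := congrArg Prod.fst e
      have e2 : w (s (ψ D)).1 (s (ψ D)).2 • (D : X) = w (s (ψ E)).1 (s (ψ E)).2 • (E : X) :=
        congrArg (fun p => (p.2 : X)) e
      refine Subtype.ext ?_
      rw [e1] at e2
      exact MulAction.injective _ e2
    have := Nat.card_le_card_of_injective Φ hΦ
    rwa [Nat.card_prod, Nat.card_coe_set_eq, Nat.card_coe_set_eq] at this
  -- the complement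
  have hL0 : m2 * (R - 1) + 1 ≤ q := by
    set L0 : Subgroup G := two G A B ⊓ N with hL0
    have h1 : Nat.card (stabilizer G A ⊓ N : Subgroup G) = (F \ {A}).ncard * Nat.card (pairStab G A C) := by
      rw [Subgroup.card_eq_card_quotient_mul_card_subgroup (stabilizer (stabilizer G A ⊓ N : Subgroup G) C),
        ← Nat.card_congr (orbitEquivQuotientStabilizer (stabilizer G A ⊓ N : Subgroup G) C),
        Nat.card_coe_set_eq]
      congr 1
      · congr 1
        ext P
        refine ⟨?_, fun hP => ?_⟩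
        · rintro ⟨⟨g, hgA, hgN⟩, rfl⟩
          refine ⟨hNF g hgN C hCF, fun e => hCA ?_⟩
          rw [Set.mem_singleton_iff] at e
          exact MulAction.injective g (e.trans hgA.symm)
        · obtain ⟨g, hg, e⟩ := S.far_transitive hC (hFfar P hP.1 hP.2).1
          exact ⟨⟨g, hg, hHN P hP.1 hP.2 g hg e⟩, e⟩
      · exact Nat.card_congr ⟨fun g => ⟨g.1.1, g.1.2.1, g.2⟩,
          fun g => ⟨⟨g.1, g.2.1, hHN C hCF hCA g.1 g.2.1 g.2.2⟩, g.2.2⟩, fun g => rfl, fun g => rfl⟩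
    have h2 : Nat.card (stabilizer G A ⊓ N : Subgroup G) = Nat.card S.kern * Nat.card L0 := by
      rw [← Nat.card_prod]
      refine (Nat.card_congr (Equiv.ofBijective (fun p : S.kern × L0 =>
        (⟨(p.1 : G) * p.2, mul_mem (S.kern_le p.1.2) p.2.2.1.1, mul_mem (hKN p.1.2) p.2.2.2⟩ :
          (stabilizer G A ⊓ N : Subgroup G))) ⟨?_, ?_⟩)).symm
      · rintro ⟨z, y⟩ ⟨z', y'⟩ e
        have e' : (z : G) * y = z' * y' := congrArg Subtype.val e
        have e2 : (z' : G)⁻¹ * z = y' * (y : G)⁻¹ := by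
          rw [eq_mul_inv_iff_mul_eq, mul_assoc, e', inv_mul_cancel_left]
        have h3 : (z' : G)⁻¹ * z = 1 := S.kern_free (mul_mem (inv_mem z'.2) z.2) adj_AB
          (by rw [e2]; exact (mem_two.mp (mul_mem y'.2.1 (inv_mem y.2.1))).2)
        have hz : (z : G) = z' := (inv_mul_eq_one.mp h3).symm
        rw [hz, mul_right_inj] at e'
        exact Prod.ext (Subtype.ext hz) (Subtype.ext e')
      · rintro ⟨g, hgA, hgN⟩
        obtain ⟨z, hz, y, hy, rfl⟩ := S.decomp hgA
        refine ⟨⟨⟨z, hz⟩, ⟨y, hy, ?_⟩⟩, rfl⟩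
        have := mul_mem (inv_mem (hKN hz)) hgN
        rwa [inv_mul_cancel_left] at this
    have h3 : Nat.card L0 = m2 * (R - 1) := by
      refine Nat.eq_of_mul_eq_mul_left (Nat.card_pos (α := S.kern)) ?_
      rw [← h2, h1, Set.ncard_sdiff_singleton_of_mem hAF, ← hn, hn1, hm, ← hqk]
      ring
    obtain ⟨z0, hz0, hz0M⟩ : ∃ z ∈ S.kern, z ∉ M1 := by
      refine SetLike.not_le_iff_exists.mp fun hle => ?_
      have h4 : 1 < q := S.one_lt_orbit hC
      have h5 := Nat.le_of_dvd Nat.card_pos (Subgroup.card_dvd_of_le hle)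
      have : Nat.card M1 < q * Nat.card M1 := lt_mul_of_one_lt_left Nat.card_pos h4
      omega
    have hq' : Nat.card (S.kern ⧸ M1.subgroupOf S.kern) = q := by
      have h := Subgroup.card_eq_card_quotient_mul_card_subgroup (M1.subgroupOf S.kern)
      rw [Nat.card_congr (Subgroup.subgroupOfEquivOfLe hM1K).toEquiv, ← hqk] at h
      exact (Nat.eq_of_mul_eq_mul_right Nat.card_pos h).symm
    rw [← h3, ← hq', ← Finite.card_option]
    refine Nat.card_le_card_of_injective (fun o : Option L0 => QuotientGroup.mk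
      (o.elim (1 : S.kern) fun y => ⟨(y : G) * z0 * (y : G)⁻¹, S.kern_conj y.2.1.1 hz0⟩)) ?_
    have key : ∀ y : L0, (y : G) * z0 * (y : G)⁻¹ ∉ M1 := fun y h => hz0M (by
      have := hconj (y : G)⁻¹ (inv_mem y.2.2) _ h
      simpa [mul_assoc] using this)
    intro o o' e
    rw [QuotientGroup.eq] at e
    rcases o with _ | y <;> rcases o' with _ | y'
    · rfl
    · simp only [Option.elim, inv_one, one_mul, Subgroup.mem_subgroupOf] at e
      exact absurd e (key y')
    · simp only [Option.elim, mul_one, Subgroup.mem_subgroupOf, Subgroup.coe_inv] at e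
      exact absurd (inv_mem_iff.mp e) (key y)
    · simp only [Option.elim, Subgroup.mem_subgroupOf, Subgroup.coe_mul, Subgroup.coe_inv] at e
      refine congrArg some (Subtype.ext ?_)
      by_contra hne
      set x := (y : G)⁻¹ * y' with hx
      have hx1 : x ≠ 1 := fun h => hne (inv_mul_eq_one.mp h)
      have hxL : x ∈ two G A B := mul_mem (inv_mem y.2.1) y'.2.1
      have hxN : x ∈ N := mul_mem (inv_mem y.2.2) y'.2.2
      have h4 : z0⁻¹ * (x * z0 * x⁻¹) ∈ M1 := by
        have := hconj (y : G)⁻¹ (inv_mem y.2.2) _ e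
        rw [hx]
        simpa [mul_assoc] using this
      let ψ : M1 → M1 := fun c => ⟨(c : G)⁻¹ * (x * c * x⁻¹), mul_mem (inv_mem c.2) (hconj x hxN c c.2)⟩
      have hinj : ∀ a b : G, a ∈ S.kern → b ∈ S.kern →
          a⁻¹ * (x * a * x⁻¹) = b⁻¹ * (x * b * x⁻¹) → a = b := by
        intro a b ha hb h
        have h5 : x * (b * a⁻¹) = (b * a⁻¹) * x := by
          calc x * (b * a⁻¹) = b * (b⁻¹ * (x * b * x⁻¹)) * x * a⁻¹ := by group
            _ = b * (a⁻¹ * (x * a * x⁻¹)) * x * a⁻¹ := by rw [h]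
            _ = (b * a⁻¹) * x := by group
        exact (mul_inv_eq_one.mp (S.eq_one_of_commute hxL hx1 (mul_mem hb (inv_mem ha)) h5)).symm
      have hψ : Function.Surjective ψ := Finite.injective_iff_surjective.mp fun a b h =>
        Subtype.ext (hinj a b (hM1K a.2) (hM1K b.2) (congrArg Subtype.val h))
      obtain ⟨c, hc⟩ := hψ ⟨_, h4⟩
      exact hz0M (hinj c z0 (hM1K c.2) hz0 (congrArg Subtype.val hc) ▸ c.2)
  -- arithmetic
  have h2q : 2 * (R - 1) + 1 ≤ q := le_trans (by have := Nat.mul_le_mul_right (R - 1) hm2; omega) hL0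
  have hq3 : 2 * 1 + 1 ≤ q := le_trans (by omega) h2q
  have hnpos : 0 < n := (Set.ncard_pos (Set.toFinite _)).mpr ⟨A, hAF⟩
  obtain ⟨r, hr⟩ : ∃ r, R = r + 1 := ⟨R - 1, by omega⟩
  rw [hr, Nat.add_sub_cancel] at hn1 hL0 h2q
  have hnR' : q * r + 1 ≤ (r + 1) * (r + 1) := by rw [← hr]; omega
  have hr1 : r = 1 := by
    rcases Nat.lt_or_ge r 2 with h | h
    · omega
    · exfalso
      have : (2 * r + 1) * r ≤ q * r := Nat.mul_le_mul_right r h2q
      nlinarith
  subst hr1
  omega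

end Setup

end Cfsg.Agent.Lib.RankThreeFrob
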