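import Cfsg.Agent.Lib.RankThreeFrob.Orbits

/-!
# Rank three groups with a Frobenius group on a suborbit: many involutions exchanging two points
-/

set_option autoImplicit false
set_option linter.unusedSectionVars false
set_option linter.style.haveILetI false

open MulAction

namespace Cfsg.Agent.Lib.RankThreeFrob

universe u v

theorem eq_top_of_half_lt {M : Type*} [Group M] [Finite M] (H : Subgroup M)
    (h : Nat.card M < 2 * Nat.card H) : H = ⊤ := by
  rw [← Subgroup.index_eq_one]
  have h1 := H.card_mul_index
  have h2 : 0 < H.index := Nat.pos_of_ne_zero Subgroup.FiniteIndex.index_ne_zero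
  by_contra hne
  have : Nat.card H * 2 ≤ Nat.card H * H.index := Nat.mul_le_mul_left _ (by omega)
  omega

/-- An automorphism inverting more than three quarters of a group inverts all of it. -/
theorem inverted_of_three_quarters {M : Type*} [Group M] [Finite M] (φ : M ≃* M)
    (h : 3 * Nat.card M < 4 * {x : M | φ x = x⁻¹}.ncard) : ∀ x, φ x = x⁻¹ := by
  set T : Set M := {x : M | φ x = x⁻¹} with hT
  have hcen : ∀ x ∈ T, x ∈ Subgroup.center M := by
    intro x hx
    set T' : Set M := T ∩ (fun y => x * y) ⁻¹' T with hT'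
    have hsub : T' ⊆ Subgroup.centralizer ({x} : Set M) := by
      rintro y ⟨hy, hxy⟩
      rw [SetLike.mem_coe, Subgroup.mem_centralizer_singleton_iff]
      have e : φ (x * y) = (x * y)⁻¹ := hxy
      rw [map_mul, hx, hy, ← mul_inv_rev, inv_inj] at e
      exact e
    have hcard : ((fun y => x * y) ⁻¹' T).ncard = T.ncard :=
      Set.ncard_preimage_of_injective_subset_range (mul_right_injective x)
        (fun y _ => ⟨x⁻¹ * y, mul_inv_cancel_left x y⟩)
    have h1 := Set.ncard_union_add_ncard_inter T ((fun y => x * y) ⁻¹' T)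
    have h2 : (T ∪ (fun y => x * y) ⁻¹' T).ncard ≤ Nat.card M := Set.ncard_le_card _
    have h3 := Set.ncard_le_ncard hsub (Set.toFinite _)
    rw [hcard, ← hT'] at h1
    rw [← Nat.card_coe_set_eq (Subgroup.centralizer ({x} : Set M) : Set M), SetLike.coe_sort_coe] at h3
    have htop := eq_top_of_half_lt (Subgroup.centralizer ({x} : Set M)) (by omega)
    rw [Subgroup.mem_center_iff]
    intro g
    have hg : g ∈ Subgroup.centralizer ({x} : Set M) := htop ▸ Subgroup.mem_top g
    exact Subgroup.mem_centralizer_singleton_iff.mp hg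
  have hc := eq_top_of_half_lt (Subgroup.center M) (by
    have h3 := Set.ncard_le_ncard (show T ⊆ Subgroup.center M from hcen) (Set.toFinite _)
    rw [← Nat.card_coe_set_eq (Subgroup.center M : Set M), SetLike.coe_sort_coe] at h3
    omega)
  have hcomm : ∀ a b : M, a * b = b * a := fun a b =>
    (Subgroup.mem_center_iff.mp (hc ▸ Subgroup.mem_top a : a ∈ Subgroup.center M) b).symm
  let H : Subgroup M :=
    { carrier := T
      mul_mem' := fun {a b} ha hb => by
        change φ (a * b) = (a * b)⁻¹
        rw [map_mul, show φ a = a⁻¹ from ha, show φ b = b⁻¹ from hb, mul_inv_rev]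
        exact hcomm _ _
      one_mem' := by change φ 1 = 1⁻¹; simp
      inv_mem' := fun {a} ha => by
        change φ a⁻¹ = a⁻¹⁻¹
        rw [map_inv, show φ a = a⁻¹ from ha] }
  have hH := eq_top_of_half_lt H (by
    rw [show Nat.card H = T.ncard from Nat.card_coe_set_eq T]
    omega)
  intro x
  exact (hH ▸ Subgroup.mem_top x : x ∈ H)

variable {G : Type u} [Group G] [Finite G] {X : Type v} [MulAction G X] [Finite X] {A B : X}

namespace Setup

variable (S : Setup G A B) {t : G} (ht : Invol G A B t)
include S ht

theorem swappers_full {C : X} (hC : C ∈ far G A B) (htC : t • C = C)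
    (h1 : Nat.card (S.kernAt C) = 1)
    (h : 3 * Nat.card (pairStab G A C) < 4 * (swappers t A C).ncard) :
    (swappers t A C).ncard = Nat.card (pairStab G A C) := by
  classical
  set M := pairStab G A C with hM
  have hle := S.ncard_swappers_le ht (Q := C)
  obtain ⟨u, hu⟩ : (swappers t A C).Nonempty := by
    rw [← Set.ncard_pos (Set.toFinite _)]; omega
  obtain ⟨huT, huA⟩ := hu
  have hu2 : u * u = 1 := conjs_sq ht.sq huT
  have hui : u⁻¹ = u := inv_eq_of_mul_eq_one_right hu2
  have huC : u • C = A := by rw [← huA]; exact smul_smul_of_sq hu2 A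
  have hconj : ∀ x ∈ M, u * x * u ∈ M := by
    intro x hx
    have hxA : x • A = A := hx.1
    have hxC : x • C = C := hx.2
    refine ⟨?_, ?_⟩
    · change (u * x * u) • A = A
      rw [mul_smul, mul_smul, huA, hxC, huC]
    · change (u * x * u) • C = C
      rw [mul_smul, mul_smul, huC, hxA, huA]
  let φ : M ≃* M :=
    { toFun := fun x => ⟨u * x * u, hconj x x.2⟩
      invFun := fun x => ⟨u * x * u, hconj x x.2⟩
      left_inv := fun x => Subtype.ext (by
        change u * (u * (x : G) * u) * u = x
        rw [show u * (u * (x : G) * u) * u = (u * u) * x * (u * u) by group, hu2, one_mul, mul_one])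
      right_inv := fun x => Subtype.ext (by
        change u * (u * (x : G) * u) * u = x
        rw [show u * (u * (x : G) * u) * u = (u * u) * x * (u * u) by group, hu2, one_mul, mul_one])
      map_mul' := fun x y => Subtype.ext (by
        change u * ((x : G) * y) * u = u * x * u * (u * y * u)
        rw [show u * (x : G) * u * (u * y * u) = u * x * (u * u) * y * u by group, hu2]
        group) }
  set T : Set M := {x : M | u * (x : G) ∈ conjs t} with hT
  have hcard : T.ncard = (swappers t A C).ncard := by
    refine Set.ncard_congr (fun x _ => u * (x : G)) (fun x hx => ⟨hx, ?_⟩)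
      (fun a b _ _ e => Subtype.ext (mul_left_cancel e)) fun y hy => ?_
    · rw [mul_smul, show (x : G) • A = A from x.2.1, huA]
    · obtain ⟨hyT, hyA⟩ := hy
      have hyC : y • C = A := by rw [← hyA]; exact smul_smul_of_sq (conjs_sq ht.sq hyT) A
      have hmem : u⁻¹ * y ∈ M := ⟨(by
        change (u⁻¹ * y) • A = A
        rw [mul_smul, hyA, inv_smul_eq_iff, huA]), (by
        change (u⁻¹ * y) • C = C
        rw [mul_smul, hyC, inv_smul_eq_iff, huC])⟩
      exact ⟨⟨u⁻¹ * y, hmem⟩, by rw [hT, Set.mem_ofPred_eq, mul_inv_cancel_left]; exact hyT,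
        mul_inv_cancel_left _ _⟩
  have hsub : T ⊆ {x : M | φ x = x⁻¹} := fun x hx => Subtype.ext (by
    change u * (x : G) * u = (x : G)⁻¹
    exact eq_inv_of_mul_eq_one_left (by
      calc u * (x : G) * u * x = (u * x) * (u * x) := by group
        _ = 1 := conjs_sq ht.sq hx))
  have hinv := inverted_of_three_quarters φ (by
    have := Set.ncard_le_ncard hsub (Set.toFinite _)
    omega)
  have hinv' : ∀ x : M, u * (x : G) * u = (x : G)⁻¹ := fun x => congrArg Subtype.val (hinv x)
  have hab : ∀ x y : M, x * y = y * x := fun x y => by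
    have e := hinv (x * y)
    rw [map_mul, hinv x, hinv y, ← mul_inv_rev, inv_inj] at e
    exact e.symm
  -- the squares
  let sq : M →* M := MonoidHom.mk' (fun x => x * x) fun x y => by
    rw [mul_assoc x y, ← mul_assoc y x, hab y x, mul_assoc x y, ← mul_assoc]
  have hker : Nat.card sq.ker = 2 := by
    have ht' : (⟨t, ht.mem.1, htC⟩ : M) ∈ sq.ker := Subtype.ext ht.sq
    refine (Nat.card_eq_two_iff' (1 : sq.ker)).mpr ⟨⟨_, ht'⟩, fun e => ht.ne ?_, fun x hx => ?_⟩
    · exact congrArg (fun z : sq.ker => ((z : M) : G)) e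
    · have hx2 : ((x : M) : G) * (x : M) = 1 := congrArg Subtype.val x.2
      obtain ⟨z, hz, e⟩ := S.invol_stab ht (x : M).2.1 (fun e => hx (Subtype.ext (Subtype.ext e))) hx2
      have hzC : z • C = C := by
        have h' : ((x : M) : G) • C = C := (x : M).2.2
        rw [e, mul_smul, htC] at h'
        exact h'
      have hz1 : z = 1 := Subgroup.mem_bot.mp
        (Subgroup.eq_bot_of_card_eq (S.kernAt C) h1 ▸ S.mem_kernAt.mpr ⟨hz, hzC⟩)
      rw [hz1, one_mul] at e
      exact Subtype.ext (Subtype.ext e)
  have hQ : Nat.card sq.range * 2 = Nat.card M := by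
    have h' := sq.ker.card_mul_index
    rw [hker, Subgroup.index_ker] at h'
    rw [mul_comm]
    exact h'
  have hdvd : Nat.card sq.range ∣ T.ncard := by
    refine card_dvd_of_free sq.range T (fun g hg y hy => ?_) fun g _ y _ e => ?_
    · obtain ⟨x, rfl⟩ := hg
      change u * (((x * x) * y : M) : G) ∈ conjs t
      have hy' : u * (y : G) ∈ conjs t := hy
      have he : u * (((x * x) * y : M) : G) = (x : G)⁻¹ * (u * y) * x := by
        rw [show ((x * x) * y : M) = x * y * x by rw [mul_assoc x y, hab y x, ← mul_assoc],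
          Subgroup.coe_mul, Subgroup.coe_mul, ← hinv' x,
          show u * (x : G) * u * (u * y) * x = u * (x : G) * (u * u) * y * x by group, hu2]
        group
      rw [he]
      simpa using conj_mem_conjs (x : G)⁻¹ hy'
    · exact mul_eq_right.mp e
  obtain ⟨c, hc⟩ := hdvd
  rw [hcard] at hc
  rw [← hM] at hle
  rcases c with _ | _ | _ | c
  · omega
  · omega
  · omega
  · have : Nat.card sq.range * 3 ≤ Nat.card sq.range * (c + 1 + 1 + 1) := Nat.mul_le_mul_left _ (by omega)
    omega

end Setup

end Cfsg.Agent.Lib.RankThreeFrob
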