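import Cfsg.Agent.Lib.RankThreeFrob.Trace
import Cfsg.Agent.Lib.RankThreeFrob.FixKern
import Cfsg.Agent.Lib.RankThreeFrob.Invert
import Cfsg.Agent.Lib.RankThreeFrob.Arith
import Cfsg.Agent.Lib.DicksonId.Small
import Cfsg.Agent.Lib.Hall.Converse

/-!
# Rank three groups with a Frobenius group on a suborbit: conclusion
-/

set_option autoImplicit false
set_option linter.unusedSectionVars false
set_option linter.style.haveILetI false

open MulAction

namespace Cfsg.Agent.Lib.RankThreeFrob

universe u v

variable {G : Type u} [Group G] [Finite G] {X : Type v} [MulAction G X] [Finite X] {A B : X}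

namespace Setup

variable (S : Setup G A B)
include S

theorem card_group : Nat.card G = Nat.card X * (Nat.card S.kern * Nat.card (two G A B)) := by
  haveI := S.trans
  rw [← S.card_stab, ← Subgroup.card_mul_index (stabilizer G A), index_stabilizer_of_transitive G A, mul_comm]

theorem card_cases :
    (Nat.card X = 10 ∧ Nat.card G = 60) ∨
      (Nat.card X = 16 ∧ (Nat.card G = 320 ∨ Nat.card G = 576)) := by
  classical
  letI := Fintype.ofFinite X
  obtain ⟨t, ht⟩ := S.exists_invol
  obtain ⟨C, hC, m2, e, hm, hh, hl, hqm, he, halt⟩ := S.exists_data ht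
  obtain ⟨a, b, ha, hμ, hlam, hk⟩ := S.exists_params hC
  have hμk := S.common_lt hC
  have hq := S.orbit_mul_kernAt C
  have hX := S.card_points
  have hG := S.card_group
  have hroots := S.exists_roots hC
  have hsplit := ncard_split (A := A) (B := B) t
  have hTr := S.ncard_moved_adj ht
  have hTf := S.kern_mul_moved_far ht hC
  have hN : (swappers t A B).ncard ≤ Nat.card (two G A B) :=
    (S.ncard_swappers_le ht).trans (S.card_pairStab_adj adj_AB).le
  have hN' := S.ncard_swappers_le ht (Q := C)
  have hh2 := S.two_le_two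
  have hkpos : 0 < Nat.card S.kern := Nat.card_pos
  have hkk : ∀ z : X, ¬ (t • z = z ∧ Adj G A B z (t • z)) := fun z h => S.adj_irrefl z (by
    have h2 := h.2
    rwa [h.1] at h2)
  have hTset : {y : X | Adj G A B y (t • y)} = {y : X | t • y ≠ y ∧ Adj G A B y (t • y)} := by
    ext y
    exact ⟨fun h => ⟨fun e => hkk y ⟨e, h⟩, h⟩, fun h => h.2⟩
  have hmult := @exists_mult G _ X _ _ A B _ S C hC
  have htrace := fun htC => @exists_trace G _ X _ _ A B _ S C hC t ht htC
  rw [hTset] at htrace
  rw [hl] at hX hTf
  rw [hm] at hN' hμ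
  rw [hμ, hlam, hX] at hroots hmult htrace
  rw [hμ] at hμk
  rw [hX] at hsplit hG ⊢
  set k := Nat.card S.kern with hkdef
  set h := Nat.card (two G A B) with hhdef
  set m1 := Nat.card (S.kernAt C) with hm1
  set q := (orbit S.kern C).ncard with hqdef
  set f := {y : X | t • y = y}.ncard with hf
  set Tr := {y : X | t • y ≠ y ∧ Adj G A B y (t • y)}.ncard with hTrdef
  set Tf := {y : X | t • y ≠ y ∧ ¬ Adj G A B y (t • y)}.ncard with hTfdef
  set N := (swappers t A B).ncard with hNdef
  set N' := (swappers t A C).ncard with hN'def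
  have hq1 : 1 < q := S.one_lt_orbit hC
  have hv : (((1 + k + q * e : ℕ) : ℤ) - 1) = ((k + q * e : ℕ) : ℤ) := by push_cast; ring
  rw [hv] at hroots
  push_cast at hroots
  rcases halt with ⟨htC, hm2, hfeq⟩ | ⟨hm2, hfeq⟩
  · by_cases h1 : m1 = 1
    · -- the kernel is semiregular on the far points
      simp only [h1, one_mul, Nat.cast_one] at hm hN' hμ hμk hroots hmult htrace
      rw [h1, mul_one] at hq
      have hinv : 3 * m2 < 4 * N' → N' = m2 := fun h' => by
        have := S.swappers_full ht hC htC h1 (by rw [hm]; exact h')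
        rwa [hm] at this
      obtain ⟨j, hj⟩ := S.two_dvd_moved_adj ht hC htC h1
      rw [← hTrdef, ← hhdef] at hj
      rw [hfeq] at hsplit hTr hTf
      rw [hq] at hsplit hTf hX hroots hmult htrace hG ⊢
      have hTf' : Tf = (2 + e) * (e * N') := Nat.eq_of_mul_eq_mul_left hkpos (by rw [hTf]; ring)
      have hcount : (e + 1) * (h * (a + b)) = (e + 2) * (N + e * N') := by
        have h2 : 2 + e + (2 + e) * N + (2 + e) * (e * N') = 1 + k + k * e := by
          rw [← hTr, ← hTf']; exact hsplit.symm
        rw [hk] at h2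
        linarith
      have hjN : (e + 2) * N = h * j := by rw [← hj, hTr]; ring
      have key := Arith.case_one k h m2 e a b N N' j hk ha hh he hm2 hh2 hcount hN hN' hinv hjN hμk
        (by push_cast; exact hroots) (by
          intro r s h1r h2r h3r
          obtain ⟨g, B1, hg1, hg2, -⟩ := htrace htC (x := r) (y := s) h3r.ne' (by push_cast; exact h1r)
            (by push_cast; exact h2r)
          obtain ⟨g', B2, -, -, hB2⟩ := htrace htC (x := s) (y := r) h3r.ne
            (by rw [add_comm]; push_cast; exact h1r) (by rw [mul_comm]; push_cast; exact h2r)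
          rw [hj, hfeq] at hg2 hB2
          rw [hfeq] at hg1
          push_cast at hg2 hB2
          refine ⟨g, B2, by omega, by linarith, ?_⟩
          have h4 : (k : ℤ) = h * (a + b) + 1 := by exact_mod_cast hk
          rw [h4] at hB2
          linarith)
      obtain ⟨hk5, hh4, hke⟩ := key
      right
      have he2 : e = 2 := by rw [hk5] at hke; omega
      simp only [he2, hk5, hh4] at hG ⊢
      norm_num at hG ⊢
      exact Or.inl hG
    · -- a non-trivial intersection with the kernel
      have hm22 : 2 ≤ m2 := by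
        obtain ⟨c, hc⟩ := hm2
        rcases Nat.eq_zero_or_pos c with h0 | h0
        · rw [hc, h0, add_zero, zero_mul] at hh; omega
        · omega
      obtain ⟨hq3, hm2eq⟩ := S.kernAt_bounds ht hC htC hm hm22 h1
      rw [← hqdef] at hq3
      subst hm2eq
      obtain ⟨hk9, hh4, hqe⟩ := Arith.case_big k h m1 q e a b hk ha hh he hh2 hq hq3
        (S.odd_kernAt C S.odd_kern) h1 (S.kernAt_sq_le hC) hμk (by push_cast; exact hroots)
      right
      simp only [hqe, hk9, hh4] at hG ⊢
      norm_num at hG ⊢
      exact Or.inr hG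
  · -- no far point is fixed
    have hbound : k + q * e ≤ 4 * h + 1 := by
      have h1 : Tf ≤ 2 * h := by
        refine Nat.le_of_mul_le_mul_left ?_ hkpos
        rw [hTf, hfeq]
        have h2 : q * e * N' ≤ q * e * (m1 * m2) := Nat.mul_le_mul_left _ hN'
        have h3 : q * e * (m1 * m2) = k * h := by rw [← hq, hh]; ring
        linarith
      rw [hTr, hfeq] at hsplit
      omega
    obtain ⟨hk3, hh2', hqe⟩ := Arith.case_two k h m1 m2 q e a b hk ha hh he hh2 hq hq1 hm2 hqm hbound hμk
      (by push_cast; exact hroots) (by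
        intro r s h1r h2r h3r
        obtain ⟨g, hg⟩ := hmult (x := (s : ℝ)) (y := (r : ℝ)) (by exact_mod_cast h3r.ne)
          (by rw [add_comm]; exact_mod_cast h1r) (by rw [mul_comm]; exact_mod_cast h2r)
        refine ⟨g, ?_⟩
        have h5 : (g : ℝ) * ((r : ℝ) - s) = ((k + q * e : ℕ) : ℝ) * r + k := by
          push_cast at hg ⊢
          linarith
        exact_mod_cast h5)
    left
    simp only [hqe, hk3, hh2'] at hG ⊢
    norm_num at hG ⊢
    exact hG

theorem normal_transitive {N : Subgroup G} (hN : N.Normal) (h1 : N ≠ ⊥) : IsPretransitive N X := by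
  haveI := hN
  haveI := S.prim
  refine IsQuasiPreprimitive.isPretransitive_of_normal fun htop => h1 ((Subgroup.eq_bot_iff_forall _).mpr
    fun n hn => S.eq_one fun x => ?_)
  have : x ∈ fixedPoints N X := by rw [htop]; exact Set.mem_univ x
  exact this ⟨n, hn⟩

theorem conclusion :
    (Nonempty (G ≃* ↥(alternatingGroup (Fin 5))) ∧ Nat.card X = 10) ∨
      (Group.IsSolvable G ∧ ∃ N : Subgroup G, N.Normal ∧ Nat.card N = 16 ∧
        ∀ x y : X, ∃! n : ↥N, (n : G) • x = y) := by
  haveI : Nonempty X := ⟨A⟩
  rcases S.card_cases with ⟨hX, hG⟩ | ⟨hX, hG⟩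
  · left
    refine ⟨DicksonId.nonempty_alt_five hG ?_ ?_, hX⟩ <;>
    · intro N hN hc
      haveI := S.normal_transitive hN (fun e => by rw [e, Subgroup.card_bot] at hc; omega)
      have h := (stabilizer N A).index_dvd_card
      rw [index_stabilizer_of_transitive N A, hX, hc] at h
      exact absurd (Nat.le_of_dvd (by norm_num) h) (by norm_num)
  · right
    have hs : Group.IsSolvable G := by
      apply Cfsg.Agent.Lib.Hall.Converse.isSolvable_of_card_primeFactors_le_two
      rcases hG with h | h <;> rw [h]
      · rw [show (320 : ℕ) = 2 ^ 6 * 5 by norm_num,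
          Nat.primeFactors_mul (by norm_num) (by norm_num), Nat.primeFactors_pow _ (by norm_num),
          Nat.Prime.primeFactors Nat.prime_two, Nat.Prime.primeFactors (by norm_num)]
        exact le_trans (Finset.card_union_le _ _) (by simp)
      · rw [show (576 : ℕ) = 2 ^ 6 * 3 ^ 2 by norm_num,
          Nat.primeFactors_mul (by norm_num) (by norm_num), Nat.primeFactors_pow _ (by norm_num),
          Nat.primeFactors_pow _ (by norm_num), Nat.Prime.primeFactors Nat.prime_two,
          Nat.Prime.primeFactors Nat.prime_three]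
        exact le_trans (Finset.card_union_le _ _) (by simp)
    refine ⟨hs, ?_⟩
    classical
    -- the last non-trivial term of the derived series
    have hex : ∃ n, derivedSeries G n = ⊥ := hs.solvable
    have hn0 : Nat.find hex ≠ 0 := fun e => by
      have h := Nat.find_spec hex
      rw [e, derivedSeries_zero] at h
      have h1 : Nat.card G = 1 := by rw [← Subgroup.card_top, h, Subgroup.card_bot]
      omega
    obtain ⟨d, hd⟩ := Nat.exists_eq_succ_of_ne_zero hn0
    set N := derivedSeries G d with hN
    have hNbot : N ≠ ⊥ := Nat.find_min hex (by omega)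
    have hab : ∀ x ∈ N, ∀ y ∈ N, x * y = y * x := by
      have h := Nat.find_spec hex
      rw [hd, derivedSeries_succ, Subgroup.commutator_eq_bot_iff_le_centralizer] at h
      exact fun x hx y hy => Subgroup.mem_centralizer_iff.mp (h hy) x hx
    haveI := S.normal_transitive (derivedSeries_normal G d) hNbot
    have hreg : ∀ x y : X, ∃! n : ↥N, (n : G) • x = y := by
      intro x y
      obtain ⟨n, hn⟩ := exists_smul_eq N x y
      refine ⟨n, hn, fun n' hn' => Subtype.ext ?_⟩
      have hfix : ((n : G)⁻¹ * n') • x = x := by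
        rw [mul_smul, hn', ← hn, Subgroup.smul_def, inv_smul_smul]
      have h1 : (n : G)⁻¹ * n' = 1 := S.eq_one fun z => by
        obtain ⟨p, rfl⟩ := exists_smul_eq N x z
        rw [Subgroup.smul_def, ← mul_smul,
          hab _ (mul_mem (inv_mem n.2) n'.2) (p : G) p.2, mul_smul, hfix]
      exact (inv_mul_eq_one.mp h1).symm
    refine ⟨N, derivedSeries_normal G d, ?_, hreg⟩
    rw [← hX]
    refine Nat.card_congr (Equiv.ofBijective (fun n : N => (n : G) • A) ⟨fun n n' e => ?_, fun y => ?_⟩)
    · exact (hreg A ((n : G) • A)).unique rfl e.symm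
    · exact (hreg A y).exists

end Setup

end Cfsg.Agent.Lib.RankThreeFrob
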