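import Cfsg.Agent.Lib.RankThreeFrob.Params
import Cfsg.Agent.Lib.Frobenius.Nilpotent

/-!
# Rank three groups with a Frobenius group on a suborbit: the complement has even order
-/

set_option autoImplicit false
set_option linter.unusedSectionVars false
set_option linter.style.haveILetI false

open MulAction

namespace Cfsg.Agent.Lib.RankThreeFrob

universe u v

variable {G : Type u} [Group G] [Finite G] {X : Type v} [MulAction G X] [Finite X] {A B : X}

/-- Two subgroups of small index in a group of order more than four meet. -/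
theorem exists_mem_inf {Z P Q : Subgroup G} (hP : P ≤ Z) (hQ : Q ≤ Z) (h1 : P.relIndex Z ≤ 2)
    (h2 : Q.relIndex Z ≤ 2) (h4 : 4 < Nat.card Z) : ∃ z ∈ P ⊓ Q, z ≠ 1 := by
  have e1 := Subgroup.card_eq_card_quotient_mul_card_subgroup (P.subgroupOf Z)
  have h3 : P.relIndex Z * Nat.card (P.subgroupOf Z) = Nat.card Z := e1.symm
  have h5 : Q.relIndex Z * Nat.card (Q.subgroupOf Z) = Nat.card Z :=
    (Subgroup.card_eq_card_quotient_mul_card_subgroup (Q.subgroupOf Z)).symm
  have hc : ((P ⊓ Q).subgroupOf Z).index ≤ 4 := by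
    calc ((P ⊓ Q).subgroupOf Z).index = (P ⊓ Q).relIndex Z := rfl
      _ ≤ P.relIndex Z * Q.relIndex Z := Subgroup.relIndex_inf_le
      _ ≤ 2 * 2 := Nat.mul_le_mul h1 h2
  have h6 := (Subgroup.card_eq_card_quotient_mul_card_subgroup ((P ⊓ Q).subgroupOf Z))
  by_contra hno
  have hbot : (P ⊓ Q).subgroupOf Z = ⊥ := by
    rw [Subgroup.eq_bot_iff_forall]
    intro z hz
    by_contra hz1
    exact hno ⟨z, hz, fun e => hz1 (Subtype.ext e)⟩
  rw [hbot, Subgroup.card_bot, mul_one] at h6
  rw [hbot, Subgroup.index] at hc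
  omega

/-- Double counting of the edges between two sets. -/
theorem sum_count {Y : Type*} [Fintype Y] [DecidableEq Y] (R : Y → Y → Prop)
    (hR : ∀ x y, R x y → R y x) (S T : Finset Y) :
    ∑ x ∈ S, ({y | R x y} ∩ (T : Set Y)).ncard = ∑ y ∈ T, ({x | R y x} ∩ (S : Set Y)).ncard := by
  classical
  have e : ∀ (x : Y) (U : Finset Y), ({y | R x y} ∩ (U : Set Y)).ncard = (U.filter (R x)).card := by
    intro x U
    rw [← Set.ncard_coe_finset]
    congr 1
    ext y
    simp [and_comm]
  simp only [e]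
  rw [show ∑ y ∈ T, (S.filter (R y)).card = ∑ y ∈ T, (Finset.bipartiteBelow R S y).card from
    Finset.sum_congr rfl fun y _ => congrArg Finset.card
      (Finset.filter_congr fun x _ => ⟨hR _ _, hR _ _⟩)]
  exact Finset.sum_card_bipartiteAbove_eq_sum_card_bipartiteBelow R

namespace Setup

variable (S : Setup G A B)
include S

theorem eq_one_of_commute {y z : G} (hy : y ∈ two G A B) (hy1 : y ≠ 1) (hz : z ∈ S.kern)
    (hc : y * z = z * y) : z = 1 := by
  obtain ⟨hA, hB⟩ := mem_two.mp hy
  have hzB : Adj G A B A (z • B) := ⟨z, S.kern_fix hz, rfl⟩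
  have h1 : y • z • B = z • B := by rw [← mul_smul, hc, mul_smul, hB]
  exact S.kern_free hz adj_AB (S.nbr_unique hy1 hA hzB adj_AB h1 hB)

/-- If the complement has odd order, the point stabiliser of two far points lies in the kernel. -/
theorem pairStab_le_kern (hodd : Odd (Nat.card (two G A B))) {C : X} (hC : C ∈ far G A B) :
    pairStab G A C ≤ S.kern := by
  classical
  by_contra hle
  obtain ⟨x, hx, hxK⟩ := SetLike.not_le_iff_exists.mp hle
  -- some prime dividing both orders
  have hnc : ¬ (Nat.card (pairStab G A C)).Coprime (Nat.card (two G A B)) := fun h =>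
    hxK (S.mem_kern_of_orderOf hx.1 (h.coprime_dvd_left (Subgroup.orderOf_dvd_natCard _ hx)))
  obtain ⟨p, hp, hpM, hph⟩ := Nat.Prime.not_coprime_iff_dvd.mp hnc
  haveI : Fact p.Prime := ⟨hp⟩
  obtain ⟨P⟩ : Nonempty (Sylow p (pairStab G A C)) := inferInstance
  set Y : Subgroup G := (P : Subgroup _).map (pairStab G A C).subtype with hY
  have hYle : Y ≤ pairStab G A C := Subgroup.map_subtype_le _
  have hYp : IsPGroup p Y := P.2.map _
  have hpk : ¬ p ∣ Nat.card S.kern := fun h => hp.one_lt.ne' (Nat.eq_one_of_dvd_coprimes S.coprime h hph)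
  have hYne : Y ≠ ⊥ := by
    intro e
    have h1 := P.ne_bot_of_dvd_card hpM
    exact h1 ((Subgroup.map_eq_bot_iff_of_injective _ (Subgroup.subtype_injective _)).mp e)
  obtain ⟨y0, hy01⟩ := (Subgroup.ne_bot_iff_exists_ne_one.mp hYne)
  have hy01' : (y0 : G) ≠ 1 := fun e => hy01 (Subtype.ext e)
  clear hy01
  -- the fixed points of `Y`
  set F : Set X := {Q | ∀ g ∈ Y, g • Q = Q} with hF
  have hmate : ∀ Q ∈ F, ∃! R, R ∈ F ∧ Adj G A B Q R := by
    intro Q hQ
    letI : MulAction Y (nbr G A B Q) :=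
      { smul := fun g R => ⟨(g : G) • (R : X), by
          have := adj_smul (g : G) R.2
          rwa [hQ g g.2] at this⟩
        one_smul := fun R => Subtype.ext (one_smul G (R : X))
        mul_smul := fun g h R => Subtype.ext (mul_smul (g : G) (h : G) (R : X)) }
    have hn : ¬ p ∣ Nat.card (nbr G A B Q) := by
      rw [Nat.card_coe_set_eq, S.ncard_nbr]; exact hpk
    obtain ⟨R, hR⟩ := hYp.nonempty_fixed_point_of_prime_not_dvd_card (nbr G A B Q) hn
    have hRF : (R : X) ∈ F := fun g hg => congrArg Subtype.val (hR ⟨g, hg⟩)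
    refine ⟨R, ⟨hRF, R.2⟩, fun T hT => ?_⟩
    exact S.nbr_unique hy01' (hQ _ y0.2) hT.2 R.2 (hT.1 _ y0.2) (hRF _ y0.2)
  have heven := even_ncard_of_mate F (Set.toFinite _) (Adj G A B) (fun _ _ h => S.adj_symm h)
    S.adj_irrefl hmate
  -- the fixed points of `Y`, by suborbits
  have hAF : A ∈ F := fun g hg => (hYle hg).1
  have hCF : C ∈ F := fun g hg => (hYle hg).2
  obtain ⟨R, ⟨hRF, hRA⟩, hRu⟩ := hmate A hAF
  set N : Subgroup G := stabilizer G A ⊓ Subgroup.normalizer (Y : Set G) with hN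
  have horb : F ∩ far G A B = orbit N C := by
    ext Q
    constructor
    · rintro ⟨hQ, hQfar⟩
      obtain ⟨g, hg, rfl⟩ := S.far_transitive hC hQfar
      -- `Y` and its conjugate are Sylow subgroups of the stabiliser of `A` and `C`
      set Y' : Subgroup G := Y.map (MulAut.conj g⁻¹).toMonoidHom with hY'
      have hY'le : Y' ≤ pairStab G A C := by
        rintro _ ⟨w, hw, rfl⟩
        have h1 := hYle hw
        have hgA : g • A = A := hg
        refine ⟨?_, ?_⟩ <;> simp only [MulEquiv.coe_toMonoidHom, MulAut.conj_apply, inv_inv]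
        · change (g⁻¹ * w * g) • A = A
          rw [mul_smul, mul_smul, hgA, mem_stabilizer_iff.mp h1.1, inv_smul_eq_iff, hgA]
        · have h2 : w • g • C = g • C := hQ w hw
          change (g⁻¹ * w * g) • C = C
          rw [mul_smul, mul_smul, h2, inv_smul_smul]
      have hcardY : Nat.card Y' = Nat.card Y :=
        Subgroup.card_map_of_injective (MulAut.conj g⁻¹).injective
      have hp' : IsPGroup p (Y'.subgroupOf (pairStab G A C)) :=
        IsPGroup.of_equiv (hYp.map _) (Subgroup.subgroupOfEquivOfLe hY'le).symm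
      obtain ⟨P', hP'⟩ := hp'.exists_le_sylow
      have hP'eq : Y'.subgroupOf (pairStab G A C) = (P' : Subgroup _) := by
        refine Subgroup.eq_of_le_of_card_ge hP' ?_
        rw [Nat.card_congr (Subgroup.subgroupOfEquivOfLe hY'le).toEquiv, hcardY, hY,
          Subgroup.card_map_of_injective (Subgroup.subtype_injective _)]
        exact le_of_eq (by rw [P.card_eq_multiplicity, P'.card_eq_multiplicity])
      obtain ⟨⟨m, hm⟩, hmP⟩ := exists_smul_eq (pairStab G A C) P P'
      refine ⟨⟨g * m, mul_mem hg hm.1, ?_⟩, ?_⟩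
      · change g * m ∈ Subgroup.normalizer (Y : Set G)
        rw [Subgroup.mem_normalizer_iff]
        have hmap : Y.map (MulAut.conj m).toMonoidHom = Y' := by
          have e1 : Y' = (Y'.subgroupOf (pairStab G A C)).map (pairStab G A C).subtype := by
            rw [Subgroup.subgroupOf_map_subtype, inf_eq_left.mpr hY'le]
          rw [e1, hP'eq, ← hmP, hY, Sylow.coe_subgroup_smul]
          ext w
          simp only [Subgroup.mem_map, Subgroup.mem_pointwise_smul_iff_inv_smul_mem]
          constructor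
          · rintro ⟨_, ⟨w', hw', rfl⟩, rfl⟩
            exact ⟨MulAut.conj ⟨m, hm⟩ w', by simpa [mul_assoc] using hw', by simp [mul_assoc]⟩
          · rintro ⟨w', hw', rfl⟩
            exact ⟨_, ⟨_, hw', rfl⟩, by simp [mul_assoc]⟩
        intro w
        have key : w ∈ Y ↔ (g * m) * w * (g * m)⁻¹ ∈ Y := by
          constructor
          · intro hw
            have h1 : m * w * m⁻¹ ∈ Y' := hmap ▸ ⟨w, hw, by simp⟩
            obtain ⟨w', hw', e⟩ := h1
            simp only [MulEquiv.coe_toMonoidHom, MulAut.conj_apply, inv_inv] at e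
            rw [show (g * m) * w * (g * m)⁻¹ = g * (m * w * m⁻¹) * g⁻¹ by group, ← e,
              show g * (g⁻¹ * w' * g) * g⁻¹ = w' by group]
            exact hw'
          · intro hw
            have h1 : g⁻¹ * ((g * m) * w * (g * m)⁻¹) * g ∈ Y' := ⟨_, hw, by simp⟩
            rw [← hmap] at h1
            obtain ⟨w', hw', e⟩ := h1
            simp only [MulEquiv.coe_toMonoidHom, MulAut.conj_apply] at e
            have : w' = w := by
              have e' : m * w' * m⁻¹ = m * w * m⁻¹ := by rw [e]; group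
              simpa using e'
            exact this ▸ hw'
        exact key
      · change (g * m) • C = g • C
        rw [mul_smul, mem_stabilizer_iff.mp hm.2]
    · rintro ⟨⟨n, hnA, hnY⟩, rfl⟩
      refine ⟨fun w hw => ?_, S.far_smul hnA hC⟩
      have h1 : n⁻¹ * w * n ∈ Y := by
        have := (Subgroup.mem_normalizer_iff.mp (inv_mem hnY) w).mp hw
        simpa using this
      have h2 : (n⁻¹ * w * n) • C = C := (hYle h1).2
      rw [mul_smul, mul_smul, inv_smul_eq_iff] at h2
      exact h2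
  have hNtwo : ∀ n ∈ N, n • R = R := by
    rintro n ⟨hnA, hnY⟩
    have hnA' : n • A = A := hnA
    refine hRu (n • R) ⟨fun w hw => ?_, ?_⟩
    · have h1 : n⁻¹ * w * n ∈ Y := by
        have := (Subgroup.mem_normalizer_iff.mp (inv_mem hnY) w).mp hw
        simpa using this
      have h2 := hRF _ h1
      rw [mul_smul, mul_smul, inv_smul_eq_iff] at h2
      exact h2
    · have := adj_smul n hRA
      rwa [hnA'] at this
  have hNodd : Odd (Nat.card N) := by
    obtain ⟨z, hz, hzR⟩ := S.exists_kern_smul hRA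
    have hle : N ≤ (two G A B).map (MulAut.conj z).toMonoidHom := by
      intro n hn
      refine ⟨z⁻¹ * n * z, mem_two.mpr ⟨?_, ?_⟩, by simp [mul_assoc]⟩
      · rw [mul_smul, mul_smul, S.kern_fix hz, mem_stabilizer_iff.mp hn.1, inv_smul_eq_iff, S.kern_fix hz]
      · rw [mul_smul, mul_smul, hzR, hNtwo n hn, ← hzR, inv_smul_smul]
    have h1 := Subgroup.card_dvd_of_le hle
    rw [Subgroup.card_map_of_injective (MulAut.conj z).injective] at h1
    exact hodd.of_dvd_nat h1
  have horbodd : Odd (F ∩ far G A B).ncard := by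
    rw [horb, ← Nat.card_coe_set_eq, Nat.card_congr (orbitEquivQuotientStabilizer N C)]
    exact hNodd.of_dvd_nat ⟨_, Subgroup.card_eq_card_quotient_mul_card_subgroup _⟩
  have hsplit : F = insert A (insert R (F ∩ far G A B)) := by
    ext Q
    constructor
    · intro hQ
      by_cases h1 : Q = A
      · exact Or.inl h1
      by_cases h2 : Adj G A B A Q
      · exact Or.inr (Or.inl (hRu Q ⟨hQ, h2⟩))
      · exact Or.inr (Or.inr ⟨hQ, h1, h2⟩)
    · rintro (rfl | rfl | h)
      · exact hAF
      · exact hRF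
      · exact h.1
  have hAR : A ≠ R := fun e => S.adj_irrefl A (by rw [← e] at hRA; exact hRA)
  rw [hsplit, Set.ncard_insert_of_notMem, Set.ncard_insert_of_notMem] at heven
  · rw [Nat.even_add_one, Nat.not_even_iff_odd] at heven
    exact (Nat.not_odd_iff_even.mpr (Odd.add_one horbodd)) heven
  · exact fun h => h.2.2 hRA
  · rintro (h | h)
    · exact hAR h
    · exact h.2.1 rfl

theorem kern_nilpotent : Group.IsNilpotent S.kern := by
  classical
  obtain ⟨r, hr, hrh⟩ := Nat.exists_prime_and_dvd (n := Nat.card (two G A B))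
    (by have := S.two_le_two; omega)
  haveI : Fact r.Prime := ⟨hr⟩
  obtain ⟨y, hy⟩ := exists_prime_orderOf_dvd_card' r hrh
  have hyr : orderOf (y : G) = r := by rw [Subgroup.orderOf_coe, hy]
  have hy1 : (y : G) ≠ 1 := fun e => by rw [e, orderOf_one] at hyr; exact hr.one_lt.ne hyr
  have hyH : (y : G) ∈ stabilizer G A := y.2.1
  let φ : S.kern ≃* S.kern :=
    { toFun := fun z => ⟨(y : G) * z * (y : G)⁻¹, S.kern_conj hyH z.2⟩
      invFun := fun z => ⟨(y : G)⁻¹ * z * y, by simpa using S.kern_conj (inv_mem hyH) z.2⟩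
      left_inv := fun z => Subtype.ext (by simp [mul_assoc])
      right_inv := fun z => Subtype.ext (by simp [mul_assoc])
      map_mul' := fun a b => Subtype.ext (by simp [mul_assoc]) }
  refine Frobenius.Nilpotent.isNilpotent_of_fixedPointFree hr φ ?_ fun z => ?_
  · intro z hz
    have h : (y : G) * z * (y : G)⁻¹ = z := congrArg Subtype.val hz
    exact Subtype.ext (S.eq_one_of_commute y.2 hy1 z.2 (mul_inv_eq_iff_eq_mul.mp h))
  · have h : ∀ n, (((⇑φ)^[n] z : S.kern) : G) = (y : G) ^ n * z * ((y : G) ^ n)⁻¹ := by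
      intro n
      induction n with
      | zero => simp
      | succ n ih =>
        rw [Function.iterate_succ_apply']
        change (y : G) * _ * (y : G)⁻¹ = _
        rw [ih, pow_succ']
        group
    refine Subtype.ext ?_
    rw [h, ← hyr, pow_orderOf_eq_one]
    simp

/-- The central elements of square one of the kernel. -/
def omega : Subgroup G where
  carrier := {z | z ∈ S.kern ∧ z * z = 1 ∧ ∀ w ∈ S.kern, w * z = z * w}
  mul_mem' := fun {a b} ha hb => ⟨mul_mem ha.1 hb.1, by
    rw [show a * b * (a * b) = a * (b * a) * b by group, ha.2.2 b hb.1,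
      show a * (a * b) * b = (a * a) * (b * b) by group, ha.2.1, hb.2.1, one_mul],
    fun w hw => by rw [← mul_assoc, ha.2.2 w hw, mul_assoc, hb.2.2 w hw, mul_assoc]⟩
  one_mem' := ⟨one_mem _, one_mul _, fun w _ => by simp⟩
  inv_mem' := fun {a} ha => by
    have e : a⁻¹ = a := inv_eq_of_mul_eq_one_right ha.2.1
    rw [Set.mem_setOf_eq, e]
    exact ha

theorem omega_le : S.omega ≤ S.kern := fun _ hz => hz.1

theorem omega_conj {g z : G} (hg : g ∈ stabilizer G A) (hz : z ∈ S.omega) : g * z * g⁻¹ ∈ S.omega := by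
  refine ⟨S.kern_conj hg hz.1, ?_, fun w hw => ?_⟩
  · rw [show g * z * g⁻¹ * (g * z * g⁻¹) = g * (z * z) * g⁻¹ by group, hz.2.1]
    group
  · have h := hz.2.2 (g⁻¹ * w * g) (by simpa using S.kern_conj (inv_mem hg) hw)
    calc w * (g * z * g⁻¹) = g * ((g⁻¹ * w * g) * z) * g⁻¹ := by group
      _ = g * (z * (g⁻¹ * w * g)) * g⁻¹ := by rw [h]
      _ = g * z * g⁻¹ * w := by group

theorem not_omega_le {C : X} (hC : C ∈ far G A B) (hne : S.omega ≠ ⊥) :
    ¬ S.omega ≤ pairStab G A C := by
  intro hle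
  obtain ⟨z, hz, hz1⟩ := (Subgroup.bot_or_exists_ne_one S.omega).resolve_left hne
  obtain ⟨D, hD, hCD⟩ := S.exists_far_nbr hC
  obtain ⟨g, hg, rfl⟩ := S.far_transitive hC hD
  refine hz1 (S.kern_eq_one_of_adj hz.1 hCD (hle hz).2 ?_)
  have h2 := (hle (by simpa using S.omega_conj (inv_mem hg) hz) : g⁻¹ * z * g ∈ pairStab G A C).2
  have h2' : (g⁻¹ * z * g) • C = C := h2
  rw [mul_smul, mul_smul, inv_smul_eq_iff] at h2'
  exact h2'

theorem odd_kern_or_omega_ne (heven : Even (Nat.card S.kern)) : S.omega ≠ ⊥ := by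
  classical
  haveI : Fact (Nat.Prime 2) := ⟨Nat.prime_two⟩
  haveI := S.kern_nilpotent
  obtain ⟨P⟩ : Nonempty (Sylow 2 S.kern) := inferInstance
  haveI hPn : (P : Subgroup S.kern).Normal :=
    P.normal_of_normalizerCondition Group.normalizerCondition_of_isNilpotent
  have hP1 : (P : Subgroup S.kern) ≠ ⊥ := P.ne_bot_of_dvd_card (even_iff_two_dvd.mp heven)
  haveI : Nontrivial (P : Subgroup S.kern) := (Subgroup.nontrivial_iff_ne_bot _).mpr hP1
  obtain ⟨c, hc⟩ : ∃ c : Subgroup.center (P : Subgroup S.kern), orderOf c = 2 := by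
    haveI := P.2.center_nontrivial
    refine exists_prime_orderOf_dvd_card' 2 ?_
    obtain ⟨n, hn, hcard⟩ := (P.2.to_subgroup (Subgroup.center _)).nontrivial_iff_card.mp inferInstance
    exact hcard ▸ dvd_pow_self 2 (by omega)
  set w : S.kern := ((c : (P : Subgroup S.kern)) : S.kern) with hw
  have hwP : w ∈ (P : Subgroup S.kern) := (c : (P : Subgroup S.kern)).2
  have hord : orderOf w = 2 := by rw [hw, Subgroup.orderOf_coe, Subgroup.orderOf_coe, hc]
  intro hbot
  have hmem : (w : G) ∈ S.omega := by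
    refine ⟨w.2, ?_, fun g hg => ?_⟩
    · rw [← Subgroup.coe_mul, ← pow_two, ← hord, pow_orderOf_eq_one, Subgroup.coe_one]
    · -- a power decomposition into a two-part and an odd part
      have hcen : ∀ u : S.kern, u * w = w * u := by
        intro u
        obtain ⟨e, d, hd, he⟩ := Nat.exists_eq_pow_mul_and_not_dvd (orderOf_pos u).ne' 2 (by norm_num)
        have h1 : u ^ d ∈ (P : Subgroup S.kern) := by
          have hp : IsPGroup 2 (Subgroup.zpowers (u ^ d)) := by
            refine IsPGroup.of_card (n := e) ?_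
            rw [Nat.card_zpowers, orderOf_pow, he, Nat.gcd_mul_left_left]
            exact Nat.mul_div_cancel _ (Nat.pos_of_ne_zero fun h => by simp [h] at hd)
          obtain ⟨Q, hQ⟩ := hp.exists_le_sylow
          haveI := P.unique_of_normal hPn
          rw [Subsingleton.elim P Q]
          exact hQ (Subgroup.mem_zpowers _)
        have h2 : Commute (u ^ d) w := by
          have := congrArg Subtype.val (Subgroup.mem_center_iff.mp c.2 ⟨u ^ d, h1⟩)
          exact this
        have h3 : Commute (u ^ 2 ^ e) w := by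
          have hco : (orderOf (u ^ 2 ^ e)).Coprime 2 := by
            rw [orderOf_pow, he, Nat.gcd_mul_right_left, Nat.mul_div_cancel_left _ (by positivity)]
            exact ((Nat.prime_two.coprime_iff_not_dvd).mpr hd).symm
          exact Cfsg.Agent.Lib.Transfer.Frobenius.commute_of_coprime_of_isNilpotent (hord.symm ▸ hco)
        have h4 : Commute (u ^ Nat.gcd d (2 ^ e)) w := by
          have hz : u ^ (Nat.gcd d (2 ^ e) : ℤ) = (u ^ d) ^ (Nat.gcdA d (2 ^ e)) * (u ^ (2 ^ e)) ^ (Nat.gcdB d (2 ^ e)) := by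
            rw [Nat.gcd_eq_gcd_ab, zpow_add, zpow_mul, zpow_mul, zpow_natCast, zpow_natCast]
          rw [← zpow_natCast, hz]
          exact ((h2.zpow_left _).mul_left (h3.zpow_left _))
        have hg1 : Nat.gcd d (2 ^ e) = 1 :=
          Nat.Coprime.pow_right e ((Nat.prime_two.coprime_iff_not_dvd).mpr hd).symm
        rw [hg1, pow_one] at h4
        exact h4
      exact congrArg Subtype.val (hcen ⟨g, hg⟩)
  have h1 := (Subgroup.eq_bot_iff_forall _).mp hbot _ hmem
  have h2 : w = 1 := Subtype.ext h1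
  rw [h2, orderOf_one] at hord
  exact absurd hord (by norm_num)

theorem exists_swap_far {C : X} (hC : C ∈ far G A B) : ∃ σ : G, σ • A = C ∧ σ • C = A := by
  obtain ⟨g, rfl⟩ := S.smul_eq C
  have hQ : g⁻¹ • A ∈ far G A B := by
    refine ⟨fun e => hC.1 ?_, fun h => hC.2 (S.adj_symm ?_)⟩
    · rw [inv_smul_eq_iff] at e
      exact e.symm
    · have := adj_smul g h
      rwa [smul_inv_smul] at this
  obtain ⟨x, hx, e⟩ := S.far_transitive hC hQ
  exact ⟨g * x, by rw [mul_smul, mem_stabilizer_iff.mp hx], by rw [mul_smul, e, smul_inv_smul]⟩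

theorem card_pairStab_adj {Q : X} (hQ : Adj G A B A Q) :
    Nat.card (pairStab G A Q) = Nat.card (two G A B) := by
  obtain ⟨g, hg, rfl⟩ := adj_A_iff.mp hQ
  have hgA : g • A = A := hg
  have hgA' : g⁻¹ • A = A := inv_mem hg
  refine Nat.card_congr ⟨fun x => ⟨g⁻¹ * x * g, mem_two.mpr ⟨?_, ?_⟩⟩,
    fun y => ⟨g * y * g⁻¹, ?_, ?_⟩, fun x => Subtype.ext (by group), fun y => Subtype.ext (by group)⟩
  · have h : (x : G) • A = A := x.2.1
    rw [mul_smul, mul_smul, hgA, h, hgA']
  · have h : (x : G) • g • B = g • B := x.2.2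
    rw [mul_smul, mul_smul, h, inv_smul_smul]
  · change (g * (y : G) * g⁻¹) • A = A
    rw [mul_smul, mul_smul, hgA', (mem_two.mp y.2).1, hgA]
  · change (g * (y : G) * g⁻¹) • g • B = g • B
    rw [mul_smul, mul_smul, inv_smul_smul, (mem_two.mp y.2).2]

theorem ncard_common_nonadj {C P Q : X} (hC : C ∈ far G A B) (hne : Q ≠ P) (hadj : ¬ Adj G A B P Q) :
    (common G A B P Q).ncard = (common G A B A C).ncard := by
  obtain ⟨g, rfl⟩ := S.smul_eq P
  have hQ : g⁻¹ • Q ∈ far G A B := by
    refine ⟨fun e => hne (inv_smul_eq_iff.mp e), fun h => hadj ?_⟩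
    have := adj_smul g h
    rwa [smul_inv_smul] at this
  rw [S.ncard_common_far hC hQ, ← S.ncard_common_smul g A (g⁻¹ • Q), smul_inv_smul]

/-- Two involutions of the centre of the kernel outside the stabiliser differ by an element of it. -/
theorem omega_mul_mem (hodd : Odd (Nat.card (two G A B))) {C : X} (hC : C ∈ far G A B) {z z' : G}
    (hz : z ∈ S.omega) (hz' : z' ∈ S.omega) (hzM : z ∉ pairStab G A C) (hzM' : z' ∉ pairStab G A C) :
    z⁻¹ * z' ∈ pairStab G A C := by
  classical
  by_contra hne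
  set M := pairStab G A C with hM
  have hMK : M ≤ S.kern := S.pairStab_le_kern hodd hC
  set N : Subgroup G := Subgroup.normalizer (M : Set G) with hN
  have hconj : ∀ n ∈ N, ∀ x ∈ M, n * x * n⁻¹ ∈ M := fun n hn x hx =>
    (Subgroup.mem_normalizer_iff.mp hn x).mp hx
  have hfixO : ∀ n ∈ N, ∀ x ∈ M, x • n • A = n • A := by
    intro n hn x hx
    have h1 : (n⁻¹ * x * n) • A = A := by
      have := (hconj n⁻¹ (inv_mem hn) x hx).1
      rw [inv_inv] at this
      exact this
    rwa [mul_smul, mul_smul, inv_smul_eq_iff] at h1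
  have hcenN : ∀ u ∈ S.omega, u ∈ N := by
    intro u hu
    refine Subgroup.mem_normalizer_iff.mpr fun x => ⟨fun hx => ?_, fun hx => ?_⟩
    · rw [← hu.2.2 x (hMK hx), mul_assoc, mul_inv_cancel, mul_one]
      exact hx
    · have h := hu.2.2 _ (hMK hx)
      rw [show u * x * u⁻¹ * u = u * x by group] at h
      have e : u * x * u⁻¹ = x := (mul_left_cancel h.symm)
      rwa [e] at hx
  have huniq : ∀ u ∈ S.omega, u ∉ M → ∀ n ∈ N, u • n • A = n • A → n • A = A := by
    intro u hu huM n hn hf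
    by_contra hP
    by_cases h1 : Adj G A B A (n • A)
    · exact huM ((S.kern_free hu.1 h1 hf) ▸ one_mem M)
    have hle : M ≤ pairStab G A (n • A) := fun x hx => ⟨hx.1, hfixO n hn x hx⟩
    have heq := Subgroup.eq_of_le_of_card_ge hle (le_of_eq (S.card_pairStab_eq ⟨hP, h1⟩ hC))
    exact huM (heq ▸ (⟨S.kern_le hu.1, hf⟩ : u ∈ pairStab G A (n • A)))
  obtain ⟨σ, hσA, hσC⟩ := S.exists_swap_far hC
  have hσA' : σ⁻¹ • A = C := by rw [inv_smul_eq_iff, hσC]
  have hσC' : σ⁻¹ • C = A := by rw [inv_smul_eq_iff, hσA]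
  have hσN : σ ∈ N := by
    refine Subgroup.mem_normalizer_iff.mpr fun x => ⟨fun hx => ⟨?_, ?_⟩, fun hx => ⟨?_, ?_⟩⟩
    · have h : x • C = C := hx.2
      change (σ * x * σ⁻¹) • A = A
      rw [mul_smul, mul_smul, hσA', h, hσC]
    · have h : x • A = A := hx.1
      change (σ * x * σ⁻¹) • C = C
      rw [mul_smul, mul_smul, hσC', h, hσA]
    · have h : (σ * x * σ⁻¹) • C = C := hx.2
      rw [mul_smul, mul_smul, hσC'] at h
      change x • A = A
      rw [← hσA] at h
      exact MulAction.injective σ h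
    · have h : (σ * x * σ⁻¹) • A = A := hx.1
      rw [mul_smul, mul_smul, hσA'] at h
      change x • C = C
      conv_rhs at h => rw [← hσC]
      exact MulAction.injective σ h
  let O : Type v := {P : X // P ≠ A ∧ ∃ n ∈ N, n • A = P}
  choose g hgN hgA using fun P : O => P.2.2
  have hO : Nonempty O := ⟨⟨C, hC.1, σ, hσN, hσA⟩⟩
  let u : Bool → G := fun b => cond b z z'
  have hu : ∀ b, u b ∈ S.omega := fun b => by cases b <;> assumption
  have huM : ∀ b, u b ∉ M := fun b => by cases b <;> assumption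
  let τ : O × Bool → G := fun p => g p.1 * u p.2 * (g p.1)⁻¹
  have hτN : ∀ p, τ p ∈ N := fun p => mul_mem (mul_mem (hgN _) (hcenN _ (hu _))) (inv_mem (hgN _))
  have hτinv : ∀ p, τ p * τ p = 1 := fun p => by
    change g p.1 * u p.2 * (g p.1)⁻¹ * (g p.1 * u p.2 * (g p.1)⁻¹) = 1
    rw [show g p.1 * u p.2 * (g p.1)⁻¹ * (g p.1 * u p.2 * (g p.1)⁻¹)
      = g p.1 * (u p.2 * u p.2) * (g p.1)⁻¹ by group, (hu p.2).2.1]
    group
  have hτP : ∀ p : O × Bool, τ p • (p.1 : X) = p.1 := fun p => by
    change (g p.1 * u p.2 * (g p.1)⁻¹) • (p.1 : X) = p.1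
    rw [← hgA p.1, mul_smul, mul_smul, inv_smul_smul,
      show u p.2 • A = A from S.kern_fix (hu p.2).1]
  have hτuniq : ∀ p : O × Bool, ∀ n ∈ N, τ p • n • A = n • A → n • A = (p.1 : X) := by
    intro p n hn hf
    have hf' : u p.2 • ((g p.1)⁻¹ * n) • A = ((g p.1)⁻¹ * n) • A := by
      change (g p.1 * u p.2 * (g p.1)⁻¹) • n • A = n • A at hf
      rw [mul_smul, mul_smul] at hf
      rw [mul_smul, ← inv_smul_smul (g p.1) (u p.2 • (g p.1)⁻¹ • n • A), hf]
    have := huniq _ (hu p.2) (huM p.2) _ (mul_mem (inv_mem (hgN _)) hn) hf'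
    rw [mul_smul, inv_smul_eq_iff, hgA] at this
    exact this
  have hτA : ∀ p, τ p • A ≠ A := fun p e => by
    have := hτuniq p 1 (one_mem _) (by simpa using e)
    rw [one_smul] at this
    exact p.1.2.1 this.symm
  have hττA : ∀ p, τ p • τ p • A = A := fun p => by rw [← mul_smul, hτinv, one_smul]
  have hinj : ∀ p q, (τ p)⁻¹ * τ q ∈ M → p = q := by
    intro p q hm
    obtain ⟨n, hn, hnA⟩ := p.1.2.2
    have h1 := hfixO n hn _ hm
    rw [hnA, mul_smul, inv_smul_eq_iff, hτP, ← hnA] at h1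
    have hPQ : p.1 = q.1 := Subtype.ext (hnA ▸ hτuniq q n hn h1)
    refine Prod.ext hPQ ?_
    have h2 : (u p.2)⁻¹ * u q.2 ∈ M := by
      have h3 := hconj (g p.1)⁻¹ (inv_mem (hgN _)) _ hm
      change (g p.1)⁻¹ * ((g p.1 * u p.2 * (g p.1)⁻¹)⁻¹ * (g q.1 * u q.2 * (g q.1)⁻¹)) * ((g p.1)⁻¹)⁻¹ ∈ M at h3
      rw [← hPQ] at h3
      simpa [mul_assoc] using h3
    rcases p with ⟨P, _ | _⟩ <;> rcases q with ⟨Q, _ | _⟩ <;>
      simp only [u, cond_true, cond_false] at h2 ⊢
    · exact absurd (by simpa using inv_mem h2) hne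
    · exact absurd h2 hne
  by_cases hM1 : M = ⊥
  · -- everything moves
    have hNtop : ∀ x : G, x ∈ N := fun x => Subgroup.mem_normalizer_iff.mpr fun y => by
      simp [hM1, Subgroup.mem_bot]
    have hm1 : ∀ Q ∈ far G A B, Nat.card (pairStab G A Q) = 1 := fun Q hQ => by
      rw [S.card_pairStab_eq hQ hC, ← hM, hM1, Subgroup.card_bot]
    have hOcard : Nat.card O + 1 = Nat.card X := by
      letI := Fintype.ofFinite X
      have e : Nat.card O = ({A}ᶜ : Set X).ncard := by
        rw [← Nat.card_coe_set_eq]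
        refine Nat.card_congr (Equiv.subtypeEquivRight fun P => ?_)
        exact ⟨fun h => h.1, fun h => ⟨h, (S.smul_eq P).choose, hNtop _, (S.smul_eq P).choose_spec⟩⟩
      rw [e, ← Set.ncard_add_ncard_compl ({A} : Set X), Set.ncard_singleton, add_comm]
    letI := Fintype.ofFinite X
    letI := Fintype.ofFinite G
    letI := Fintype.ofFinite O
    set T : Finset G := Finset.univ.filter (fun x => x • A ≠ A ∧ x • x • A = A) with hT
    have h1 : 2 * Nat.card O ≤ T.card := by
      have := Finset.card_le_card_of_injOn (s := (Finset.univ : Finset (O × Bool))) τ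
        (fun p _ => by simp [hT, hτA p, hττA p]) (t := T) (fun p _ q _ e => hinj p q (by simp [e]))
      rw [Finset.card_univ, Fintype.card_prod, Fintype.card_bool, ← Nat.card_eq_fintype_card] at this
      omega
    have h2 : ∀ Q : X, Q ≠ A → (T.filter (fun x => x • A = Q)).card ≤ Nat.card (pairStab G A Q) := by
      intro Q hQ
      rcases (T.filter (fun x => x • A = Q)).eq_empty_or_nonempty with he | ⟨x0, hx0⟩
      · simp [he]
      simp only [hT, Finset.mem_filter, Finset.mem_univ, true_and] at hx0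
      rw [← Set.ncard_coe_finset, ← SetLike.coe_sort_coe, Nat.card_coe_set_eq]
      refine Set.ncard_le_ncard_of_injOn (fun x => x0⁻¹ * x) ?_
        (fun a _ b _ e => mul_left_cancel e) (Set.toFinite _)
      intro x hx
      simp only [hT, Finset.coe_filter, Finset.mem_filter, Finset.mem_univ, true_and, Set.mem_setOf_eq] at hx
      refine ⟨?_, ?_⟩
      · change (x0⁻¹ * x) • A = A
        rw [mul_smul, hx.2, inv_smul_eq_iff, hx0.2]
      · change (x0⁻¹ * x) • Q = Q
        have e1 : x • Q = A := by rw [← hx.2]; exact hx.1.2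
        rw [mul_smul, e1, inv_smul_eq_iff]
        rw [← hx0.2]
        exact hx0.1.2.symm
    have h3 : T.card ≤ Nat.card S.kern * Nat.card (two G A B) + (far G A B).ncard := by
      rw [Finset.card_eq_sum_card_fiberwise (t := (nbr G A B A).toFinset ∪ (far G A B).toFinset)
        (f := fun x : G => x • A) (fun x hx => by
          simp only [hT, Finset.coe_filter, Finset.mem_univ, true_and, Set.mem_setOf_eq] at hx
          simp only [Finset.coe_union, Set.coe_toFinset, Set.mem_union]
          by_cases h : Adj G A B A (x • A)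
          · exact Or.inl h
          · exact Or.inr ⟨hx.1, h⟩),
        Finset.sum_union (by
          rw [Finset.disjoint_left]
          intro Q hQ hQ'
          rw [Set.mem_toFinset] at hQ hQ'
          exact hQ'.2 hQ)]
      refine add_le_add ?_ ?_
      · refine le_trans (Finset.sum_le_card_nsmul _ _ (Nat.card (two G A B)) fun Q hQ => ?_) ?_
        · rw [Set.mem_toFinset] at hQ
          rw [← S.card_pairStab_adj hQ]
          exact h2 Q fun e => S.adj_irrefl A (e ▸ hQ)
        · rw [← Set.ncard_eq_toFinset_card', S.ncard_nbr, smul_eq_mul]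
      · refine le_trans (Finset.sum_le_card_nsmul _ _ 1 fun Q hQ => ?_) ?_
        · rw [Set.mem_toFinset] at hQ
          rw [← hm1 Q hQ]
          exact h2 Q hQ.1
        · rw [← Set.ncard_eq_toFinset_card', smul_eq_mul, mul_one]
    have h4 := S.ncard_far_mul hC
    rw [← hM, hM1, Subgroup.card_bot, mul_one, S.card_stab] at h4
    have h5 := S.card_points
    have h6 : 0 < Nat.card S.kern := Nat.card_pos
    omega
  · -- no two points of the orbit are adjacent
    have hbound : Nat.card (O × Bool) ≤ Nat.card O := by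
      refine Nat.card_le_card_of_injective
        (fun p => (⟨τ p • A, hτA p, τ p, hτN p, rfl⟩ : O)) ?_
      intro p q e
      have e' : τ p • A = τ q • A := congrArg Subtype.val e
      have hfar : τ p • A ∈ far G A B := by
        refine ⟨hτA p, fun h => hM1 ((Subgroup.eq_bot_iff_forall _).mpr fun x hx => ?_)⟩
        exact S.kern_eq_one_of_adj (hMK hx) h hx.1 (hfixO _ (hτN p) x hx)
      have heq := Subgroup.eq_of_le_of_card_ge
        (show M ≤ pairStab G A (τ p • A) from fun x hx => ⟨hx.1, hfixO _ (hτN p) x hx⟩)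
        (le_of_eq (S.card_pairStab_eq hfar hC))
      refine hinj p q ?_
      rw [heq]
      refine ⟨?_, ?_⟩
      · change ((τ p)⁻¹ * τ q) • A = A
        rw [mul_smul, ← e', inv_smul_smul]
      · change ((τ p)⁻¹ * τ q) • τ p • A = τ p • A
        rw [mul_smul, e', hττA q, inv_smul_eq_iff, ← e', hττA p]
    rw [Nat.card_prod, Nat.card_eq_fintype_card (α := Bool), Fintype.card_bool] at hbound
    have : 0 < Nat.card O := Nat.card_pos
    omega

theorem omega_relIndex (hodd : Odd (Nat.card (two G A B))) {C : X} (hC : C ∈ far G A B) :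
    (pairStab G A C ⊓ S.omega).relIndex S.omega ≤ 2 := by
  classical
  by_cases hle : S.omega ≤ pairStab G A C
  · rw [Subgroup.relIndex_eq_one.mpr (le_inf hle le_rfl)]
    norm_num
  obtain ⟨z0, hz0, hz0M⟩ := SetLike.not_le_iff_exists.mp hle
  have hsurj : Function.Surjective (fun b : Bool =>
      (QuotientGroup.mk (cond b (1 : S.omega) ⟨z0, hz0⟩) : S.omega ⧸ (pairStab G A C ⊓ S.omega).subgroupOf S.omega)) := by
    intro ω
    induction ω using QuotientGroup.induction_on with
    | H z =>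
      by_cases hz : (z : G) ∈ pairStab G A C
      · refine ⟨true, QuotientGroup.eq.mpr ?_⟩
        simpa [Subgroup.mem_subgroupOf] using hz
      · refine ⟨false, QuotientGroup.eq.mpr ?_⟩
        rw [Subgroup.mem_subgroupOf, Subgroup.mem_inf]
        exact ⟨by simpa using S.omega_mul_mem hodd hC hz0 z.2 hz0M hz, SetLike.coe_mem _⟩
  have := Nat.card_le_card_of_surjective _ hsurj
  rwa [Nat.card_eq_fintype_card (α := Bool), Fintype.card_bool] at this

theorem two_dvd_omega_sub_one : Nat.card (two G A B) ∣ Nat.card S.omega - 1 := by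
  classical
  letI : MulAction (two G A B) G :=
    MulAction.compHom G ((MulAut.conj : G →* MulAut G).comp (two G A B).subtype)
  have h := card_dvd_of_free (⊤ : Subgroup (two G A B)) ((S.omega : Set G) \ {1})
    (fun y _ z hz => ⟨S.omega_conj y.2.1 hz.1, fun e => hz.2 ?_⟩) fun y _ z hz hf => ?_
  · rwa [Subgroup.card_top, Set.ncard_sdiff_singleton_of_mem (one_mem S.omega), ← Nat.card_coe_set_eq] at h
  · have e' : (y : G) * z * (y : G)⁻¹ = 1 := e
    rw [Set.mem_singleton_iff]
    simpa using e'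
  · by_contra hy
    have e' : (y : G) * z * (y : G)⁻¹ = z := hf
    exact hz.2 (S.eq_one_of_commute y.2 (fun e => hy (Subtype.ext e)) (S.omega_le hz.1)
      (mul_inv_eq_iff_eq_mul.mp e'))

set_option maxHeartbeats 1000000 in
theorem even_two : Even (Nat.card (two G A B)) := by
  classical
  rcases Nat.even_or_odd (Nat.card (two G A B)) with hev | hodd
  · exact hev
  exfalso
  obtain ⟨C, hC⟩ := S.exists_far
  obtain ⟨a, b, ha, hμ, hlam, hk⟩ := S.exists_params hC
  -- the kernel has even order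
  have hkev : Even (Nat.card S.kern) := by
    by_contra hkodd
    rw [Nat.not_even_iff_odd] at hkodd
    have h1 : Odd (Nat.card (stabilizer G A)) := by rw [S.card_stab]; exact hkodd.mul hodd
    have h2 : Odd (far G A B).ncard := h1.of_dvd_nat ⟨_, (S.ncard_far_mul hC).symm⟩
    have h3 : Odd (Nat.card X) := by
      rw [S.card_points, add_assoc]
      exact (odd_one.add_even (hkodd.add_odd h2))
    have h4 : Odd (Nat.card G) := by
      haveI := S.trans
      rw [← Subgroup.card_mul_index (stabilizer G A), index_stabilizer_of_transitive G A]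
      exact h1.mul h3
    exact Nat.not_even_iff_odd.mpr h4 S.even
  have hne : S.omega ≠ ⊥ := S.odd_kern_or_omega_ne hkev
  have hbound : Nat.card S.omega ≤ 4 := by
    by_contra hbig
    obtain ⟨D, hD, hCD⟩ := S.exists_far_nbr hC
    obtain ⟨z, hz, hz1⟩ := exists_mem_inf (Z := S.omega) inf_le_right inf_le_right
      (S.omega_relIndex hodd hC) (S.omega_relIndex hodd hD) (by omega)
    exact hz1 (S.kern_eq_one_of_adj hz.1.2.1 hCD hz.1.1.2 hz.2.1.2)
  obtain ⟨e0, he0⟩ := S.two_dvd_omega_sub_one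
  have h2h := S.two_le_two
  have hZ2 : 1 < Nat.card S.omega := (Subgroup.one_lt_card_iff_ne_bot _).mpr hne
  have hh3 : Nat.card (two G A B) = 3 ∧ Nat.card S.omega = 4 := by
    obtain ⟨r, hr⟩ := hodd
    rcases e0 with _ | _ | e0
    · omega
    · omega
    · have : Nat.card (two G A B) * 2 ≤ Nat.card (two G A B) * (e0 + 1 + 1) :=
        Nat.mul_le_mul_left _ (by omega)
      omega
  obtain ⟨hh, hZ⟩ := hh3
  -- the three classes
  set M := pairStab G A C with hM
  have hMK : M ≤ S.kern := S.pairStab_le_kern hodd hC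
  have hMZ : Nat.card (M ⊓ S.omega : Subgroup G) = 2 := by
    have h1 := S.omega_relIndex hodd hC
    have h2 : (M ⊓ S.omega).relIndex S.omega ≠ 1 := fun e =>
      S.not_omega_le hC hne ((Subgroup.relIndex_eq_one.mp e).trans inf_le_left)
    have h3 : (M ⊓ S.omega).relIndex S.omega * Nat.card (M ⊓ S.omega : Subgroup G) = 4 := by
      rw [← hZ, ← Nat.card_congr (Subgroup.subgroupOfEquivOfLe (inf_le_right : M ⊓ S.omega ≤ S.omega)).toEquiv]
      exact (Subgroup.card_eq_card_quotient_mul_card_subgroup _).symm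
    have h4 : (M ⊓ S.omega).relIndex S.omega ≠ 0 := fun e => by rw [e, zero_mul] at h3; omega
    rw [← hM] at h1
    have h5 : (M ⊓ S.omega).relIndex S.omega = 2 := by omega
    rw [h5] at h3
    omega
  obtain ⟨⟨w, hwM, hwZ⟩, hw1'⟩ : ∃ x : (M ⊓ S.omega : Subgroup G), x ≠ 1 :=
    Subgroup.ne_bot_iff_exists_ne_one.mp (fun e => by rw [e, Subgroup.card_bot] at hMZ; omega)
  have hw1 : w ≠ 1 := fun e => hw1' (Subtype.ext e)
  have hMuniq : ∀ x ∈ S.omega, x ∈ M → x ≠ 1 → x = w := by
    intro x hxZ hxM hx1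
    by_contra hxw
    have : 3 ≤ Nat.card (M ⊓ S.omega : Subgroup G) := by
      rw [← SetLike.coe_sort_coe, Nat.card_coe_set_eq]
      calc 3 = ({1, w, x} : Set G).ncard := by
            rw [Set.ncard_eq_three.mpr ⟨1, w, x, Ne.symm hw1, Ne.symm hx1, Ne.symm hxw, rfl⟩]
        _ ≤ _ := Set.ncard_le_ncard (by
            rintro y (rfl | rfl | rfl)
            · exact ⟨one_mem _, one_mem _⟩
            · exact ⟨hwM, hwZ⟩
            · exact ⟨hxM, hxZ⟩) (Set.toFinite _)
    omega
  obtain ⟨y, hy, hy1⟩ : ∃ y ∈ two G A B, y ≠ 1 := by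
    obtain ⟨y, hy⟩ := Subgroup.ne_bot_iff_exists_ne_one.mp
      (show two G A B ≠ ⊥ from fun e => by rw [e, Subgroup.card_bot] at hh; omega)
    exact ⟨y, y.2, fun e => hy (Subtype.ext e)⟩
  have hyy : y * y ≠ 1 := by
    intro e
    have h1 : orderOf y ∣ 2 := orderOf_dvd_of_pow_eq_one (by rwa [pow_two])
    have h2 : orderOf y ∣ 3 := hh ▸ Subgroup.orderOf_dvd_natCard _ hy
    exact hy1 (orderOf_eq_one_iff.mp (Nat.eq_one_of_dvd_coprimes (by norm_num) h1 h2))
  set w' := y * w * y⁻¹ with hw'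
  set w'' := y⁻¹ * w * y with hw''
  have hw'Z : w' ∈ S.omega := S.omega_conj hy.1 hwZ
  have hw''Z : w'' ∈ S.omega := by simpa using S.omega_conj (inv_mem hy.1) hwZ
  have nw' : w' ≠ w := fun e =>
    hw1 (S.eq_one_of_commute hy hy1 (S.omega_le hwZ) (mul_inv_eq_iff_eq_mul.mp e))
  have nw'' : w'' ≠ w := fun e => hw1 (S.eq_one_of_commute hy hy1 (S.omega_le hwZ) (by
    rw [hw'', mul_assoc, inv_mul_eq_iff_eq_mul] at e
    exact e.symm))
  have nww : w'' ≠ w' := fun e => hw1 (S.eq_one_of_commute (mul_mem hy hy) hyy (S.omega_le hwZ) (by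
    have h := congrArg (fun t => y * t * y) e
    simp only [hw', hw''] at h
    calc y * y * w = y * (y * w * y⁻¹) * y := by group
      _ = y * (y⁻¹ * w * y) * y := h.symm
      _ = w * (y * y) := by group))
  have n1' : w' ≠ 1 := fun e => hw1 (by simpa [hw'] using e)
  have n1'' : w'' ≠ 1 := fun e => hw1 (by
    have h := congrArg (fun t => y * t * y⁻¹) e
    simpa [hw'', mul_assoc] using h)
  have hall : ∀ x ∈ S.omega, x ≠ 1 → x = w ∨ x = w' ∨ x = w'' := by
    intro x hxZ hx1
    by_contra hx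
    simp only [not_or] at hx
    have hsub : ({1, w, w', w'', x} : Set G) ⊆ S.omega := by
      rintro t (rfl | rfl | rfl | rfl | rfl)
      exacts [one_mem _, hwZ, hw'Z, hw''Z, hxZ]
    have h5 : ({1, w, w', w'', x} : Set G).ncard = 5 := by
      rw [Set.ncard_insert_of_notMem (by simp [Ne.symm hw1, Ne.symm n1', Ne.symm n1'', Ne.symm hx1]),
        Set.ncard_insert_of_notMem (by simp [Ne.symm nw', Ne.symm nw'', Ne.symm hx.1]),
        Set.ncard_insert_of_notMem (by simp [Ne.symm nww, Ne.symm hx.2.1]),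
        Set.ncard_insert_of_notMem (by simp [Ne.symm hx.2.2]), Set.ncard_singleton]
    have := Set.ncard_le_ncard hsub (Set.toFinite _)
    rw [h5, ← Nat.card_coe_set_eq] at this
    change 5 ≤ Nat.card S.omega at this
    omega
  let F : G → Set X := fun x => {D | D ∈ far G A B ∧ x • D = D}
  have hCw : C ∈ F w := ⟨hC, hwM.2⟩
  -- each far point lies in one class
  have hF1 : ∀ g ∈ stabilizer G A, ∀ x ∈ S.omega, x ≠ 1 → (g • C ∈ F x ↔ g⁻¹ * x * g = w) := by
    intro g hg x hxZ hx1
    constructor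
    · intro h
      refine hMuniq _ (by simpa using S.omega_conj (inv_mem hg) hxZ) ⟨?_, ?_⟩ (fun e => hx1 ?_)
      · exact S.kern_le (S.omega_le (by simpa using S.omega_conj (inv_mem hg) hxZ))
      · change (g⁻¹ * x * g) • C = C
        rw [mul_smul, mul_smul, h.2, inv_smul_smul]
      · calc x = g * (g⁻¹ * x * g) * g⁻¹ := by group
          _ = 1 := by rw [e]; group
    · intro h
      refine ⟨S.far_smul hg hC, ?_⟩
      rw [show x = g * w * g⁻¹ by rw [← h]; group, mul_smul, mul_smul, inv_smul_smul,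
        show w • C = C from hwM.2]
  have hFK : F w = orbit S.kern C := by
    ext D
    constructor
    · rintro ⟨hD, hwD⟩
      obtain ⟨g, hg, rfl⟩ := S.far_transitive hC hD
      have h1 := (hF1 g hg w hwZ hw1).mp ⟨hD, hwD⟩
      obtain ⟨z, hz, u, hu, rfl⟩ := S.decomp hg
      have h2 : u⁻¹ * w * u = w := by
        have h3 := hwZ.2.2 z hz
        calc u⁻¹ * w * u = u⁻¹ * (z⁻¹ * (z * w)) * u := by group
          _ = u⁻¹ * (z⁻¹ * (w * z)) * u := by rw [h3]
          _ = (z * u)⁻¹ * w * (z * u) := by group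
          _ = w := h1
      have hu1 : u = 1 := by
        by_contra hu1
        refine hw1 (S.eq_one_of_commute hu hu1 (S.omega_le hwZ) ?_)
        rw [mul_assoc, inv_mul_eq_iff_eq_mul] at h2
        exact h2.symm
      exact ⟨⟨z, hz⟩, by rw [hu1, mul_one]; rfl⟩
    · rintro ⟨⟨z, hz⟩, rfl⟩
      refine (hF1 z (S.kern_le hz) w hwZ hw1).mpr ?_
      rw [mul_assoc, ← hwZ.2.2 z hz]
      group
  -- transport of the counts
  have himg : ∀ g ∈ stabilizer G A, ∀ x, F (g * x * g⁻¹) = (fun Q : X => g • Q) '' F x := by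
    intro g hg x
    ext D
    constructor
    · rintro ⟨hD, hf⟩
      refine ⟨g⁻¹ • D, ⟨S.far_smul (inv_mem hg) hD, ?_⟩, smul_inv_smul _ _⟩
      rw [mul_smul, mul_smul] at hf
      rw [← inv_smul_smul g (x • g⁻¹ • D), hf]
    · rintro ⟨E, ⟨hE, hf⟩, rfl⟩
      refine ⟨S.far_smul hg hE, ?_⟩
      change (g * x * g⁻¹) • g • E = g • E
      rw [mul_smul, mul_smul, inv_smul_smul, hf]
  have hnimg : ∀ g ∈ stabilizer G A, ∀ x (P : X),
      (nbr G A B (g • P) ∩ F (g * x * g⁻¹)).ncard = (nbr G A B P ∩ F x).ncard := by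
    intro g hg x P
    have e : nbr G A B (g • P) = (fun Q : X => g • Q) '' nbr G A B P := by
      ext T
      refine ⟨fun h => ⟨g⁻¹ • T, ?_, smul_inv_smul _ _⟩, ?_⟩
      · have := adj_smul g⁻¹ (show Adj G A B (g • P) T from h)
        rwa [inv_smul_smul] at this
      · rintro ⟨U, hU, rfl⟩; exact adj_smul g hU
    rw [himg g hg, e, ← Set.image_inter (MulAction.injective g),
      Set.ncard_image_of_injective _ (MulAction.injective g)]
  have hnimg' : ∀ g ∈ stabilizer G A, ∀ x (P : X),
      (nbr G A B (g • P) ∩ F x).ncard = (nbr G A B P ∩ F (g⁻¹ * x * g)).ncard := by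
    intro g hg x P
    rw [← hnimg g hg (g⁻¹ * x * g) P, show g * (g⁻¹ * x * g) * g⁻¹ = x by group]
  letI := Fintype.ofFinite X
  set L := (F w).ncard with hL
  have hFw' : (F w').ncard = L := by
    rw [hw', himg y hy.1, Set.ncard_image_of_injective _ (MulAction.injective y)]
  have hnone : nbr G A B C ∩ F w = ∅ := by
    rw [Set.eq_empty_iff_forall_notMem]
    rintro D ⟨hD1, hD2⟩
    exact hw1 (S.kern_eq_one_of_adj (S.omega_le hwZ) hD1 hwM.2 hD2.2)
  set n0 := (nbr G A B C ∩ F w').ncard with hn0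
  have hcls : ∀ D ∈ F w, ∀ x ∈ S.omega, (nbr G A B D ∩ F x).ncard = (nbr G A B C ∩ F x).ncard := by
    intro D hD x hx
    rw [hFK] at hD
    obtain ⟨⟨z, hz⟩, rfl⟩ := hD
    change (nbr G A B (z • C) ∩ F x).ncard = _
    rw [hnimg' z (S.kern_le hz), show z⁻¹ * x * z = x by
      rw [mul_assoc, ← hx.2.2 z hz]; group]
  have hn0'' : (nbr G A B C ∩ F w'').ncard = n0 := by
    have h := sum_count (Adj G A B) (fun _ _ h => S.adj_symm h) (F w).toFinset (F w').toFinset
    simp only [Set.coe_toFinset] at h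
    have e1 : ∀ D ∈ (F w).toFinset, ({Q | Adj G A B D Q} ∩ F w').ncard = n0 := fun D hD =>
      hcls D (Set.mem_toFinset.mp hD) w' hw'Z
    have e2 : ∀ D ∈ (F w').toFinset, ({Q | Adj G A B D Q} ∩ F w).ncard = (nbr G A B C ∩ F w'').ncard := by
      intro D hD
      rw [Set.mem_toFinset, hw', himg y hy.1] at hD
      obtain ⟨E, hE, rfl⟩ := hD
      change (nbr G A B (y • E) ∩ F w).ncard = _
      rw [hnimg' y hy.1, ← hw'']
      exact hcls E hE w'' hw''Z
    rw [Finset.sum_congr rfl e1, Finset.sum_congr rfl e2, Finset.sum_const, Finset.sum_const,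
      smul_eq_mul, smul_eq_mul, ← Set.ncard_eq_toFinset_card', ← Set.ncard_eq_toFinset_card', hFw'] at h
    have hLpos : 0 < L := (Set.ncard_pos (Set.toFinite _)).mpr ⟨C, hCw⟩
    exact (Nat.eq_of_mul_eq_mul_left hLpos h).symm
  have hsplit : ∀ P : X, (nbr G A B P ∩ far G A B).ncard =
      (nbr G A B P ∩ F w).ncard + (nbr G A B P ∩ F w').ncard + (nbr G A B P ∩ F w'').ncard := by
    intro P
    have e : nbr G A B P ∩ far G A B =
        (nbr G A B P ∩ F w) ∪ (nbr G A B P ∩ F w') ∪ (nbr G A B P ∩ F w'') := by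
      ext D
      constructor
      · rintro ⟨hD1, hD2⟩
        obtain ⟨g, hg, rfl⟩ := S.far_transitive hC hD2
        have h0 : g * w * g⁻¹ ∈ S.omega := S.omega_conj hg hwZ
        have h1 : g * w * g⁻¹ ≠ 1 := fun e => hw1 (by simpa using e)
        have h2 : g • C ∈ F (g * w * g⁻¹) := (hF1 g hg _ h0 h1).mpr (by group)
        rcases hall _ h0 h1 with e | e | e <;> rw [e] at h2
        · exact Or.inl (Or.inl ⟨hD1, h2⟩)
        · exact Or.inl (Or.inr ⟨hD1, h2⟩)
        · exact Or.inr ⟨hD1, h2⟩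
      · rintro ((h | h) | h) <;> exact ⟨h.1, h.2.1⟩
    have hdis : ∀ x ∈ S.omega, ∀ x' ∈ S.omega, x ≠ 1 → x' ≠ 1 → x ≠ x' →
        Disjoint (nbr G A B P ∩ F x) (nbr G A B P ∩ F x') := by
      intro x hx x' hx' h1 h1' hne'
      rw [Set.disjoint_left]
      rintro D ⟨-, hD⟩ ⟨-, hD'⟩
      obtain ⟨g, hg, rfl⟩ := S.far_transitive hC hD.1
      have e1 := (hF1 g hg x hx h1).mp hD
      have e2 := (hF1 g hg x' hx' h1').mp hD'
      exact hne' (mul_left_cancel (mul_right_cancel (e1.trans e2.symm)))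
    rw [e, Set.ncard_union_eq (Set.disjoint_union_left.mpr
      ⟨hdis w hwZ w'' hw''Z hw1 n1'' (Ne.symm nw''), hdis w' hw'Z w'' hw''Z n1' n1'' (Ne.symm nww)⟩),
      Set.ncard_union_eq (hdis w hwZ w' hw'Z hw1 n1' (Ne.symm nw'))]
  have hkμ : Nat.card S.kern = (common G A B A C).ncard + 2 * n0 := by
    have h1 := S.nbr_far_far hC
    have h2 := hsplit C
    rw [hnone, Set.ncard_empty, hn0'', ← hn0] at h2
    omega
  -- the general count from a class
  have hgen : ∀ x ∈ S.omega, x ≠ 1 → ∀ D ∈ F x, ∀ x' ∈ S.omega, x' ≠ 1 →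
      (nbr G A B D ∩ F x').ncard = if x' = x then 0 else n0 := by
    intro x hx hx1 D hD x' hx' hx'1
    obtain ⟨g, hg, rfl⟩ := S.far_transitive hC hD.1
    have e1 := (hF1 g hg x hx hx1).mp hD
    rw [hnimg' g hg]
    have h0 : g⁻¹ * x' * g ∈ S.omega := by simpa using S.omega_conj (inv_mem hg) hx'
    have h1 : g⁻¹ * x' * g ≠ 1 := fun e => hx'1 (by
      calc x' = g * (g⁻¹ * x' * g) * g⁻¹ := by group
        _ = 1 := by rw [e]; group)
    by_cases hxx : x' = x
    · rw [if_pos hxx, hxx, e1, hnone, Set.ncard_empty]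
    · rw [if_neg hxx]
      have h2 : g⁻¹ * x' * g ≠ w := fun e => hxx (mul_left_cancel (mul_right_cancel (e.trans e1.symm)))
      rcases hall _ h0 h1 with e | e | e
      · exact absurd e h2
      · rw [e]
      · rw [e, hn0'']
  have hc : ∀ P, Adj G A B A P → ∀ x ∈ S.omega, x ≠ 1 → (nbr G A B P ∩ F x).ncard = a := by
    intro P hP x hx hx1
    obtain ⟨z, hz, rfl⟩ := S.exists_kern_smul hP
    have hz' : ∀ t ∈ S.omega, z⁻¹ * t * z = t := fun t ht => by
      rw [mul_assoc, ← ht.2.2 z hz]; group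
    have hyB : y • B = B := (mem_two.mp hy).2
    have hB : ∀ t, (nbr G A B B ∩ F (y * t * y⁻¹)).ncard = (nbr G A B B ∩ F t).ncard := fun t => by
      have := hnimg y hy.1 t B
      rwa [hyB] at this
    have e1 : (nbr G A B B ∩ F w').ncard = (nbr G A B B ∩ F w).ncard := hB w
    have e2 : (nbr G A B B ∩ F w'').ncard = (nbr G A B B ∩ F w).ncard := by
      rw [← hB w'', hw'']; congr 3; group
    have h1 := S.nbr_far_count (P := B) adj_AB
    have h2 := hsplit B
    rw [hlam] at h1
    rw [hh] at h1 hk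
    rw [hnimg' z (S.kern_le hz), hz' x hx]
    rcases hall x hx hx1 with rfl | rfl | rfl <;> omega
  -- the two equations
  have hcnt : ∀ x ∈ S.omega, x ≠ 1 →
      ∑ D ∈ (F x).toFinset, (common G A B C D).ncard =
        (common G A B A C).ncard * a + (if x = w' then 0 else n0 * n0) + (if x = w'' then 0 else n0 * n0) := by
    intro x hx hx1
    have h := sum_count (Adj G A B) (fun _ _ h => S.adj_symm h) (F x).toFinset (nbr G A B C).toFinset
    simp only [Set.coe_toFinset] at h
    rw [show (∑ D ∈ (F x).toFinset, (common G A B C D).ncard) =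
        ∑ D ∈ (F x).toFinset, ({Q | Adj G A B D Q} ∩ nbr G A B C).ncard from
      Finset.sum_congr rfl fun D _ => congrArg Set.ncard (Set.inter_comm _ _), h]
    have hnb : (nbr G A B C).toFinset = (common G A B A C).toFinset ∪
        ((nbr G A B C ∩ F w').toFinset ∪ (nbr G A B C ∩ F w'').toFinset) := by
      ext Q
      simp only [Set.mem_toFinset, Finset.mem_union]
      constructor
      · intro hQ
        by_cases h1 : Adj G A B A Q
        · exact Or.inl ⟨h1, hQ⟩
        have hQA : Q ≠ A := by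
          rintro rfl
          exact hC.2 (S.adj_symm hQ)
        obtain ⟨g, hg, rfl⟩ := S.far_transitive hC ⟨hQA, h1⟩
        have h0 : g * w * g⁻¹ ∈ S.omega := S.omega_conj hg hwZ
        have h3 : g * w * g⁻¹ ≠ 1 := fun e => hw1 (by simpa using e)
        have h2 : g • C ∈ F (g * w * g⁻¹) := (hF1 g hg _ h0 h3).mpr (by group)
        rcases hall _ h0 h3 with e | e | e <;> rw [e] at h2
        · exact absurd (show g • C ∈ nbr G A B C ∩ F w from ⟨hQ, h2⟩) (by rw [hnone]; exact id)
        · exact Or.inr (Or.inl ⟨hQ, h2⟩)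
        · exact Or.inr (Or.inr ⟨hQ, h2⟩)
      · rintro (h | h | h)
        exacts [h.2, h.1, h.1]
    have hd1 : Disjoint (nbr G A B C ∩ F w').toFinset (nbr G A B C ∩ F w'').toFinset := by
      rw [Finset.disjoint_left]
      intro Q hQ hQ'
      rw [Set.mem_toFinset] at hQ hQ'
      obtain ⟨g, hg, rfl⟩ := S.far_transitive hC hQ.2.1
      have e1 := (hF1 g hg w' hw'Z n1').mp hQ.2
      have e2 := (hF1 g hg w'' hw''Z n1'').mp hQ'.2
      exact nww (mul_left_cancel (mul_right_cancel (e2.trans e1.symm)))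
    have hd2 : Disjoint (common G A B A C).toFinset
        ((nbr G A B C ∩ F w').toFinset ∪ (nbr G A B C ∩ F w'').toFinset) := by
      rw [Finset.disjoint_left]
      intro Q hQ hQ'
      simp only [Set.mem_toFinset, Finset.mem_union] at hQ hQ'
      rcases hQ' with h' | h' <;> exact h'.2.1.2 hQ.1
    rw [hnb, Finset.sum_union hd2, Finset.sum_union hd1, ← add_assoc]
    congr 1
    congr 1
    · refine (Finset.sum_congr rfl (g := fun _ => a) fun Q hQ => ?_).trans ?_
      · exact hc Q (Set.mem_toFinset.mp hQ).1 x hx hx1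
      · rw [Finset.sum_const, smul_eq_mul, ← Set.ncard_eq_toFinset_card']
    · refine (Finset.sum_congr rfl (g := fun _ => if x = w' then 0 else n0) fun Q hQ => ?_).trans ?_
      · exact hgen w' hw'Z n1' Q (Set.mem_toFinset.mp hQ).2 x hx hx1
      · rw [Finset.sum_const, smul_eq_mul, ← Set.ncard_eq_toFinset_card']
        split_ifs <;> simp [hn0]
    · refine (Finset.sum_congr rfl (g := fun _ => if x = w'' then 0 else n0) fun Q hQ => ?_).trans ?_
      · exact hgen w'' hw''Z n1'' Q (Set.mem_toFinset.mp hQ).2 x hx hx1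
      · rw [Finset.sum_const, smul_eq_mul, ← Set.ncard_eq_toFinset_card', hn0'']
        split_ifs <;> simp
  have eq1 := hcnt w hwZ hw1
  rw [if_neg (Ne.symm nw'), if_neg (Ne.symm nw''), ← Finset.add_sum_erase _ _ (Set.mem_toFinset.mpr hCw),
    show (common G A B C C).ncard = Nat.card S.kern by rw [common, Set.inter_self, S.ncard_nbr],
    Finset.sum_congr rfl (g := fun _ => (common G A B A C).ncard) (fun D hD => by
      rw [Finset.mem_erase, Set.mem_toFinset] at hD
      refine S.ncard_common_nonadj hC hD.1 fun hadj => ?_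
      exact Set.eq_empty_iff_forall_notMem.mp hnone D ⟨hadj, hD.2⟩),
    Finset.sum_const, smul_eq_mul, Finset.card_erase_of_mem (Set.mem_toFinset.mpr hCw),
    ← Set.ncard_eq_toFinset_card', ← hL] at eq1
  have eq2 := hcnt w' hw'Z n1'
  rw [if_pos rfl, if_neg (Ne.symm nww),
    ← Finset.sum_filter_add_sum_filter_not (F w').toFinset (fun D => Adj G A B C D)] at eq2
  have ea : ∀ D ∈ (F w').toFinset.filter (fun D => Adj G A B C D),
      (common G A B C D).ncard = (common G A B A B).ncard := fun D hD =>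
    S.ncard_common_adj (Finset.mem_filter.mp hD).2
  have eb : ∀ D ∈ (F w').toFinset.filter (fun D => ¬ Adj G A B C D),
      (common G A B C D).ncard = (common G A B A C).ncard := by
    intro D hD
    obtain ⟨hD1, hD2⟩ := Finset.mem_filter.mp hD
    refine S.ncard_common_nonadj hC ?_ hD2
    intro e
    have h3 : D ∈ F w' := Set.mem_toFinset.mp hD1
    rw [e] at h3
    exact nw' (hMuniq w' hw'Z ⟨S.kern_le (S.omega_le hw'Z), h3.2⟩ n1')
  rw [Finset.sum_congr rfl ea, Finset.sum_congr rfl eb,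
    Finset.sum_const, Finset.sum_const, smul_eq_mul, smul_eq_mul] at eq2
  have hf1 : ((F w').toFinset.filter (fun D => Adj G A B C D)).card = n0 := by
    rw [← Set.ncard_coe_finset, hn0]
    congr 1
    ext D
    simp [nbr, and_comm]
  have hf2 : n0 + ((F w').toFinset.filter (fun D => ¬ Adj G A B C D)).card = L := by
    rw [← hf1, Finset.card_filter_add_card_filter_not, ← Set.ncard_eq_toFinset_card', hFw']
  rw [hf1] at eq2
  set R := ((F w').toFinset.filter (fun D => ¬ Adj G A B C D)).card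
  set μ := (common G A B A C).ncard
  set lam := (common G A B A B).ncard
  have hLpos : 0 < L := (Set.ncard_pos (Set.toFinite _)).mpr ⟨C, hCw⟩
  obtain ⟨L', hL'⟩ : ∃ L', L = L' + 1 := ⟨L - 1, by omega⟩
  rw [hh] at hlam hk
  rw [hL', Nat.add_sub_cancel] at eq1
  have hn0pos : 0 < n0 := by have := S.common_lt hC; omega
  have key : (n0 : ℤ) * ((lam : ℤ) - μ - 2 + n0) = 0 := by
    have h1 : (Nat.card S.kern : ℤ) + L' * μ = μ * a + n0 * n0 + n0 * n0 := by exact_mod_cast eq1
    have h2 : (n0 : ℤ) * lam + R * μ = μ * a + 0 + n0 * n0 := by exact_mod_cast eq2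
    have h3 : (n0 : ℤ) + R = L' + 1 := by exact_mod_cast (hf2.trans hL')
    have h4 : (Nat.card S.kern : ℤ) = μ + 2 * n0 := by exact_mod_cast hkμ
    linear_combination (-1 : ℤ) * h1 + h2 - (μ : ℤ) * h3 + h4
  have key2 : (lam : ℤ) - μ - 2 + n0 = 0 :=
    (mul_eq_zero.mp key).resolve_left (by exact_mod_cast hn0pos.ne')
  have hn0a : n0 = a + 1 := by omega
  -- divisibility
  have hmn : Nat.card M ∣ n0 := by
    refine card_dvd_of_free M _ (fun g hg Q hQ => ?_) fun g hg Q hQ hf => ?_
    · have e1 : g • C = C := hg.2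
      refine ⟨?_, S.far_smul hg.1 hQ.2.1, ?_⟩
      · have := adj_smul g (show Adj G A B C Q from hQ.1)
        rwa [e1] at this
      · rw [← mul_smul, ← hw'Z.2.2 g (hMK hg), mul_smul, hQ.2.2]
    · exact S.kern_eq_one_of_adj (hMK hg) hQ.1 hg.2 hf
  have hm2 : 2 ∣ Nat.card M := by
    rw [← hMZ]
    exact Subgroup.card_dvd_of_le inf_le_left
  have horb : Nat.card M * (orbit S.kern C).ncard = Nat.card S.kern := by
    rw [← Nat.card_coe_set_eq, Nat.card_congr (orbitEquivQuotientStabilizer S.kern C), mul_comm,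
      Subgroup.card_eq_card_quotient_mul_card_subgroup (stabilizer S.kern C)]
    congr 1
    exact Nat.card_congr ⟨fun g => ⟨⟨g.1, hMK g.2⟩, g.2.2⟩,
      fun g => ⟨g.1.1, S.kern_le g.1.2, g.2⟩, fun g => rfl, fun g => rfl⟩
  have hqev : 2 ∣ (orbit S.kern C).ncard := by
    have h1 : orderOf w' = 2 := orderOf_eq_prime (by rw [pow_two]; exact hw'Z.2.1) n1'
    rw [← h1, ← Nat.card_zpowers]
    refine card_dvd_of_free _ _ (fun g hg Q hQ => ?_) fun g hg Q hQ hf => ?_
    · have hgZ : g ∈ S.omega := (Subgroup.zpowers_le.mpr hw'Z) hg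
      obtain ⟨⟨z, hz⟩, rfl⟩ := hQ
      exact ⟨⟨g * z, mul_mem hgZ.1 hz⟩, mul_smul g z C⟩
    · have hgZ : g ∈ S.omega := (Subgroup.zpowers_le.mpr hw'Z) hg
      by_contra hg1
      obtain ⟨⟨z, hz⟩, rfl⟩ := hQ
      have hgC : g • C = C := by
        change g • z • C = z • C at hf
        rw [← mul_smul, ← hgZ.2.2 z hz, mul_smul] at hf
        exact MulAction.injective z hf
      have hgw := hMuniq g hgZ ⟨S.kern_le hgZ.1, hgC⟩ hg1
      obtain ⟨n, hn⟩ := hg
      have : g = w' := by
        change w' ^ n = g at hn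
        rcases Int.even_or_odd n with ⟨r, hr⟩ | ⟨r, hr⟩
        · exfalso
          apply hg1
          rw [← hn, hr, ← two_mul, zpow_mul, zpow_two, hw'Z.2.1, one_zpow]
        · rw [← hn, hr, zpow_add, zpow_mul, zpow_two, hw'Z.2.1, one_zpow, one_mul, zpow_one]
      exact nw' (this.symm.trans hgw)
  obtain ⟨j, hj⟩ := hmn
  obtain ⟨qh, hqh⟩ := hqev
  obtain ⟨mh, hmh⟩ := hm2
  have hqa : 2 * qh = a + 2 * j := by
    refine Nat.eq_of_mul_eq_mul_left (Nat.card_pos (α := M)) ?_
    rw [← hqh, horb, hkμ, hμ, hj]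
    ring
  rw [hmh, mul_assoc] at hj
  omega

end Setup

end Cfsg.Agent.Lib.RankThreeFrob
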