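import Cfsg.Agent.Lib.RankThreeFrob.Even

/-!
# Rank three groups with a Frobenius group on a suborbit: the orbits of the kernel
-/

set_option autoImplicit false
set_option linter.unusedSectionVars false
set_option linter.style.haveILetI false

open MulAction

namespace Cfsg.Agent.Lib.RankThreeFrob

universe u v

variable {G : Type u} [Group G] [Finite G] {X : Type v} [MulAction G X] [Finite X] {A B : X}

namespace Setup

variable (S : Setup G A B)
include S

/-- The stabiliser of a point in the kernel. -/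
noncomputable def kernAt (D : X) : Subgroup G := S.kern ⊓ pairStab G A D

theorem mem_kernAt {D : X} {z : G} : z ∈ S.kernAt D ↔ z ∈ S.kern ∧ z • D = D :=
  ⟨fun h => ⟨h.1, h.2.2⟩, fun h => ⟨h.1, S.kern_le h.1, h.2⟩⟩

theorem orbit_mul_kernAt (D : X) :
    (orbit S.kern D).ncard * Nat.card (S.kernAt D) = Nat.card S.kern := by
  rw [← Nat.card_coe_set_eq, Nat.card_congr (orbitEquivQuotientStabilizer S.kern D),
    Subgroup.card_eq_card_quotient_mul_card_subgroup (stabilizer S.kern D)]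
  congr 1
  exact Nat.card_congr ⟨fun g => ⟨⟨g.1, g.2.1⟩, (S.mem_kernAt.mp g.2).2⟩,
    fun g => ⟨g.1.1, S.mem_kernAt.mpr ⟨g.1.2, g.2⟩⟩, fun g => rfl, fun g => rfl⟩

theorem kernAt_smul {g : G} (hg : g ∈ stabilizer G A) (D : X) :
    S.kernAt (g • D) = (S.kernAt D).map (MulAut.conj g).toMonoidHom := by
  ext x
  simp only [Subgroup.mem_map, MulEquiv.coe_toMonoidHom, MulAut.conj_apply, S.mem_kernAt]
  constructor
  · rintro ⟨h1, h2⟩
    refine ⟨g⁻¹ * x * g, ⟨by simpa using S.kern_conj (inv_mem hg) h1, ?_⟩, by group⟩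
    rw [mul_smul, mul_smul, h2, inv_smul_smul]
  · rintro ⟨z, ⟨h1, h2⟩, rfl⟩
    exact ⟨S.kern_conj hg h1, by rw [mul_smul, mul_smul, inv_smul_smul, h2]⟩

theorem card_kernAt_eq {C D : X} (hC : C ∈ far G A B) (hD : D ∈ far G A B) :
    Nat.card (S.kernAt D) = Nat.card (S.kernAt C) := by
  obtain ⟨g, hg, rfl⟩ := S.far_transitive hC hD
  rw [S.kernAt_smul hg]
  exact Subgroup.card_map_of_injective (MulAut.conj g).injective

theorem odd_kernAt (D : X) (hk : Odd (Nat.card S.kern)) : Odd (Nat.card (S.kernAt D)) :=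
  hk.of_dvd_nat (Subgroup.card_dvd_of_le inf_le_left)

theorem exists_split {C : X} (hC : C ∈ far G A B) : ∃ m2 e : ℕ,
    Nat.card (pairStab G A C) = Nat.card (S.kernAt C) * m2 ∧
    Nat.card (two G A B) = m2 * e ∧ (far G A B).ncard = (orbit S.kern C).ncard * e := by
  set H := stabilizer G A with hH
  haveI hKn : (S.kern.subgroupOf H).Normal :=
    ⟨fun z hz g => by
      rw [Subgroup.mem_subgroupOf] at hz ⊢
      exact S.kern_conj g.2 hz⟩
  set m2 := (S.kern.subgroupOf H).relIndex ((pairStab G A C).subgroupOf H) with hm2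
  have hidx : (S.kern.subgroupOf H).index = Nat.card (two G A B) := by
    have h1 := (S.kern.subgroupOf H).card_mul_index
    rw [Nat.card_congr (Subgroup.subgroupOfEquivOfLe S.kern_le).toEquiv, S.card_stab] at h1
    exact Nat.eq_of_mul_eq_mul_left Nat.card_pos h1
  obtain ⟨e, he⟩ : m2 ∣ Nat.card (two G A B) := hidx ▸ Subgroup.relIndex_dvd_index_of_normal _ _
  have hm : Nat.card (pairStab G A C) = Nat.card (S.kernAt C) * m2 := by
    have h1 : Nat.card ((S.kern.subgroupOf H).subgroupOf ((pairStab G A C).subgroupOf H)) * m2 =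
        Nat.card ((pairStab G A C).subgroupOf H) := Subgroup.card_mul_index _
    rw [Nat.card_congr (Subgroup.subgroupOfEquivOfLe (show pairStab G A C ≤ H from inf_le_left)).toEquiv] at h1
    rw [← h1]
    congr 1
    exact Nat.card_congr ⟨fun g => ⟨((g : (pairStab G A C).subgroupOf H) : H), g.2, g.1.2⟩,
      fun g => ⟨⟨⟨g.1, S.kern_le g.2.1⟩, g.2.2⟩, g.2.1⟩, fun g => rfl, fun g => rfl⟩
  refine ⟨m2, e, hm, he, ?_⟩
  have h2 := S.ncard_far_mul hC
  rw [hm, S.card_stab, ← S.orbit_mul_kernAt C, he] at h2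
  have hpos : 0 < Nat.card (S.kernAt C) * m2 := hm ▸ Nat.card_pos
  refine Nat.eq_of_mul_eq_mul_right hpos ?_
  rw [h2]
  ring

theorem one_lt_orbit {C : X} (hC : C ∈ far G A B) : 1 < (orbit S.kern C).ncard := by
  by_contra hle
  have hfix : ∀ z ∈ S.kern, z • C = C := by
    intro z hz
    have h1 : (orbit S.kern C).ncard = 1 := by
      have : 0 < (orbit S.kern C).ncard := (Set.ncard_pos (Set.toFinite _)).mpr ⟨C, mem_orbit_self C⟩
      omega
    obtain ⟨a, ha⟩ := Set.ncard_eq_one.mp h1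
    have e1 : C = a := ha.subset (mem_orbit_self C)
    have e2 : z • C = a := ha.subset ⟨⟨z, hz⟩, rfl⟩
    rw [e2]
    exact e1.symm
  have hall : ∀ D ∈ far G A B, ∀ z ∈ S.kern, z • D = D := by
    intro D hD z hz
    obtain ⟨g, hg, rfl⟩ := S.far_transitive hC hD
    have := hfix (g⁻¹ * z * g) (by simpa using S.kern_conj (inv_mem hg) hz)
    rw [mul_smul, mul_smul, inv_smul_eq_iff] at this
    exact this
  obtain ⟨D, hD, hCD⟩ := S.exists_far_nbr hC
  obtain ⟨z, hz, hzB⟩ : ∃ z ∈ S.kern, z ≠ 1 := by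
    refine (Subgroup.bot_or_exists_ne_one S.kern).resolve_left fun e => ?_
    have h1 := S.orbit_mul_kernAt C
    obtain ⟨a, b, ha, -, -, hk⟩ := S.exists_params hC
    rw [e, Subgroup.card_bot] at hk
    have : 0 < Nat.card (two G A B) * (a + b) := Nat.mul_pos Nat.card_pos (by omega)
    omega
  exact hzB (S.kern_eq_one_of_adj hz hCD (hfix z hz) (hall D hD z hz))

theorem kernAt_sq_le {C : X} (hC : C ∈ far G A B) :
    Nat.card (S.kernAt C) * Nat.card (S.kernAt C) ≤ Nat.card S.kern := by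
  obtain ⟨D, hD, hCD⟩ := S.exists_far_nbr hC
  have h : Nat.card (S.kernAt C × S.kernAt D) ≤ Nat.card S.kern := by
    refine Nat.card_le_card_of_injective
      (fun p => (⟨(p.1 : G) * p.2, mul_mem (S.mem_kernAt.mp p.1.2).1 (S.mem_kernAt.mp p.2.2).1⟩ :
        S.kern)) fun p q e => ?_
    have e' : (p.1 : G) * p.2 = q.1 * q.2 := congrArg Subtype.val e
    have e2 : (q.1 : G)⁻¹ * p.1 = q.2 * (p.2 : G)⁻¹ := by
      rw [eq_mul_inv_iff_mul_eq, mul_assoc, e', inv_mul_cancel_left]
    have h1 : (q.1 : G)⁻¹ * p.1 ∈ S.kernAt C := mul_mem (inv_mem q.1.2) p.1.2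
    have h2 : (q.1 : G)⁻¹ * p.1 ∈ S.kernAt D := e2 ▸ mul_mem q.2.2 (inv_mem p.2.2)
    have h3 := S.kern_eq_one_of_adj h1.1 hCD (S.mem_kernAt.mp h1).2 (S.mem_kernAt.mp h2).2
    have a1 : (p.1 : G) = q.1 := (inv_mul_eq_one.mp h3).symm
    rw [a1, mul_right_inj] at e'
    exact Prod.ext (Subtype.ext a1) (Subtype.ext e')
  rwa [Nat.card_prod, S.card_kernAt_eq hC hD] at h

variable {t : G} (ht : Invol G A B t)
include ht

/-- The kernel acts fixed point freely modulo `kernAt`: the orbit has size `1` modulo `m₂`. -/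
theorem dvd_orbit_sub_one {C : X} (hC : C ∈ far G A B) {m2 : ℕ}
    (hm : Nat.card (pairStab G A C) = Nat.card (S.kernAt C) * m2) :
    m2 ∣ (orbit S.kern C).ncard - 1 := by
  rw [← Set.ncard_sdiff_singleton_of_mem (mem_orbit_self (M := S.kern) C)]
  refine dvd_ncard_of_stab (pairStab G A C) (orbit S.kern C \ {C})
    (fun g hg D hD => ⟨?_, fun e => hD.2 ?_⟩)
    (Nat.card (S.kernAt C)) m2 hm fun D hD => ?_
  · obtain ⟨⟨z, hz⟩, rfl⟩ := hD.1
    refine ⟨⟨g * z * g⁻¹, S.kern_conj hg.1 hz⟩, ?_⟩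
    change (g * z * g⁻¹) • C = g • z • C
    rw [mul_smul, mul_smul, show g⁻¹ • C = C from (inv_mem hg : g⁻¹ ∈ pairStab G A C).2]
  · rw [Set.mem_singleton_iff] at e ⊢
    exact MulAction.injective g (e.trans hg.2.symm)
  · obtain ⟨⟨⟨z, hz⟩, rfl⟩, hne⟩ := hD
    change z • C ∉ ({C} : Set X) at hne
    change Nat.card ↥(pairStab G A C ⊓ stabilizer G (z • C)) = _
    suffices h : pairStab G A C ⊓ stabilizer G (z • C) = S.kernAt C by rw [h]
    ext x
    constructor
    · rintro ⟨hx, hxz⟩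
      have hxz' : x • z • C = z • C := hxz
      by_contra hxK'
      obtain ⟨w0, hw0, y, hy, rfl⟩ := S.decomp hx.1
      have hy1 : y ≠ 1 := by
        rintro rfl
        rw [mul_one] at hx hxK'
        exact hxK' (S.mem_kernAt.mpr ⟨hw0, hx.2⟩)
      set x := w0 * y with hxdef
      -- the commutator map of `x` is injective on the kernel
      let φ : S.kern → S.kern := fun w =>
        ⟨(w : G)⁻¹ * (x * w * x⁻¹), mul_mem (inv_mem w.2) (S.kern_conj hx.1 w.2)⟩
      have hφ : ∀ a b : S.kern, φ a = φ b → a = b := by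
        intro a b e
        have e' : (a : G)⁻¹ * (x * a * x⁻¹) = (b : G)⁻¹ * (x * b * x⁻¹) := congrArg Subtype.val e
        set c := (b : G) * (a : G)⁻¹ with hc
        have hcK : c ∈ S.kern := mul_mem b.2 (inv_mem a.2)
        have h1 : x * c * x⁻¹ = c := by
          have h2 : x * (b : G) * x⁻¹ = c * (x * a * x⁻¹) := by
            calc x * (b : G) * x⁻¹ = b * ((b : G)⁻¹ * (x * b * x⁻¹)) := by group
              _ = b * ((a : G)⁻¹ * (x * a * x⁻¹)) := by rw [e']
              _ = c * (x * a * x⁻¹) := by rw [hc]; group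
          calc x * c * x⁻¹ = (x * b * x⁻¹) * (x * a * x⁻¹)⁻¹ := by rw [hc]; group
            _ = c := by rw [h2]; group
        have h3 : y * c = c * y := by
          have h4 : y * c * y⁻¹ ∈ S.kern := S.kern_conj hy.1 hcK
          rw [hxdef, show w0 * y * c * (w0 * y)⁻¹ = w0 * (y * c * y⁻¹) * w0⁻¹ by group,
            S.kern_comm ht hw0 h4, mul_inv_cancel_right] at h1
          exact mul_inv_eq_iff_eq_mul.mp h1
        have := S.eq_one_of_commute hy hy1 hcK h3
        exact Subtype.ext (mul_inv_eq_one.mp this).symm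
      -- it is onto the stabiliser
      let ψ : S.kernAt C → S.kernAt C := fun w =>
        ⟨(φ ⟨w, w.2.1⟩ : G), S.mem_kernAt.mpr ⟨(φ ⟨w, w.2.1⟩).2, by
          have hwC : (w : G) • C = C := (S.mem_kernAt.mp w.2).2
          have hxC : x • C = C := hx.2
          change ((w : G)⁻¹ * (x * w * x⁻¹)) • C = C
          rw [mul_smul, mul_smul, mul_smul, inv_smul_eq_iff.mpr hxC.symm, hwC, hxC,
            inv_smul_eq_iff, hwC]⟩⟩
      have hψ : Function.Surjective ψ := Finite.injective_iff_surjective.mp fun a b e => by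
        have := hφ _ _ (Subtype.ext (show (φ ⟨a, a.2.1⟩ : G) = φ ⟨b, b.2.1⟩ from
          congrArg (fun w : S.kernAt C => (w : G)) e))
        exact Subtype.ext (congrArg Subtype.val this :)
      have hzm : (φ ⟨z, hz⟩ : G) ∈ S.kernAt C := by
        refine S.mem_kernAt.mpr ⟨(φ ⟨z, hz⟩).2, ?_⟩
        have hxC : x • C = C := hx.2
        change (z⁻¹ * (x * z * x⁻¹)) • C = C
        rw [mul_smul, mul_smul, mul_smul, inv_smul_eq_iff.mpr hxC.symm, hxz', inv_smul_smul]
      obtain ⟨w, hw⟩ := hψ ⟨_, hzm⟩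
      have := hφ _ _ (Subtype.ext (show (φ ⟨w, w.2.1⟩ : G) = φ ⟨z, hz⟩ from congrArg (fun w : S.kernAt C => (w : G)) hw))
      have hwz : (w : G) = z := congrArg Subtype.val this
      refine hne ?_
      rw [Set.mem_singleton_iff, ← hwz]
      exact (S.mem_kernAt.mp w.2).2
    · intro hx
      refine ⟨hx.2, ?_⟩
      change x • z • C = z • C
      rw [← mul_smul, S.kern_comm ht hx.1 hz, mul_smul, (S.mem_kernAt.mp hx).2]

theorem exists_fixed_in_orbit {C D : X} (hC : C ∈ far G A B) (htC : t • C = C) (hD : D ∈ far G A B) :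
    ∃ z ∈ S.kern, ∃ E ∈ far G A B, t • E = E ∧ z • E = D := by
  obtain ⟨g, hg, rfl⟩ := S.far_transitive hC hD
  obtain ⟨z, hz, y, hy, rfl⟩ := S.decomp hg
  refine ⟨z, hz, y • C, S.far_smul hy.1 hC, ?_, (mul_smul _ _ _).symm⟩
  rw [← mul_smul, S.invol_central ht hy, mul_smul, htC]

/-- Every orbit of the kernel is invariant under `t`. -/
theorem invol_orbit {C : X} (hC : C ∈ far G A B) (htC : t • C = C) (y : X) :
    ∃ z ∈ S.kern, t • y = z • y := by
  by_cases h1 : y = A
  · exact ⟨1, one_mem _, by rw [h1, one_smul, S.invol_smul_A ht]⟩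
  have key : ∀ z ∈ S.kern, ∀ E : X, t • E = E → t • z • E = (z⁻¹ * z⁻¹) • z • E := by
    intro z hz E hE
    rw [← mul_smul, S.invol_mul ht hz, mul_smul, hE, ← mul_smul, inv_mul_cancel_right]
  by_cases h2 : Adj G A B A y
  · obtain ⟨z, hz, rfl⟩ := S.exists_kern_smul h2
    exact ⟨_, mul_mem (inv_mem hz) (inv_mem hz), key z hz B (S.invol_smul_B ht)⟩
  · obtain ⟨z, hz, E, -, hE, rfl⟩ := S.exists_fixed_in_orbit ht hC htC ⟨h1, h2⟩
    exact ⟨_, mul_mem (inv_mem hz) (inv_mem hz), key z hz E hE⟩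

theorem fixed_orbit_eq {D E : X} {z : G} (hz : z ∈ S.kern) (hD : t • D = D) (hE : t • E = E)
    (e : z • D = E) : E = D := by
  have h1 : (z * z) • D = D := by
    have h2 : z⁻¹ • D = E := by
      calc z⁻¹ • D = z⁻¹ • t • D := by rw [hD]
        _ = t • z • D := by rw [← mul_smul, ← S.invol_mul ht hz, mul_smul]
        _ = E := by rw [e, hE]
    rw [mul_smul, e, ← h2, smul_inv_smul]
  obtain ⟨d, hd⟩ := S.odd_kern
  have h3 : z = (z * z) ^ (d + 1) := by
    rw [← pow_two, ← pow_mul, show 2 * (d + 1) = Nat.card S.kern + 1 by omega, pow_succ,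
      show z ^ Nat.card S.kern = 1 from congrArg Subtype.val (pow_card_eq_one' (x := (⟨z, hz⟩ : S.kern))),
      one_mul]
  have h4 : z ∈ stabilizer G D := h3 ▸ pow_mem (show z * z ∈ stabilizer G D from h1) _
  rw [← e]
  exact h4

theorem kern_mul_ncard_fix_far {C : X} (hC : C ∈ far G A B) (htC : t • C = C) :
    Nat.card S.kern * ({D : X | t • D = D} ∩ far G A B).ncard =
      (far G A B).ncard * Nat.card (S.kernAt C) := by
  classical
  letI := Fintype.ofFinite G
  letI := Fintype.ofFinite X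
  set P : Finset (G × X) :=
    ((S.kern : Set G).toFinset) ×ˢ (({D : X | t • D = D} ∩ far G A B).toFinset) with hP
  have h := Finset.card_eq_sum_card_fiberwise (s := P) (t := (far G A B).toFinset)
    (f := fun p => p.1 • p.2) (fun p hp => by
      simp only [hP, Finset.mem_coe, Finset.mem_product, Set.mem_toFinset] at hp ⊢
      exact S.far_smul (S.kern_le hp.1) hp.2.2)
  have hfib : ∀ D ∈ (far G A B).toFinset,
      (P.filter fun p => p.1 • p.2 = D).card = Nat.card (S.kernAt C) := by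
    intro D hD
    obtain ⟨z, hz, E, hE, hEt, rfl⟩ := S.exists_fixed_in_orbit ht hC htC (Set.mem_toFinset.mp hD)
    rw [← S.card_kernAt_eq hC hE, ← SetLike.coe_sort_coe, Nat.card_coe_set_eq, ← Set.ncard_coe_finset]
    refine (Set.ncard_congr (fun x _ => (z * x, E)) (fun x hx => ?_)
      (fun a b _ _ e => mul_left_cancel (congrArg Prod.fst e)) fun p hp => ?_).symm
    · simp only [hP, Finset.coe_filter, Set.mem_ofPred_eq, Finset.mem_product, Set.mem_toFinset]
      exact ⟨⟨mul_mem hz hx.1, hEt, hE⟩, by rw [mul_smul, (S.mem_kernAt.mp hx).2]⟩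
    · simp only [hP, Finset.coe_filter, Set.mem_ofPred_eq, Finset.mem_product, Set.mem_toFinset] at hp
      obtain ⟨⟨hp1, hp2, -⟩, hpe⟩ := hp
      have he : (z⁻¹ * p.1) • p.2 = E := by rw [mul_smul, hpe, inv_smul_smul]
      have hEeq := S.fixed_orbit_eq ht (mul_mem (inv_mem hz) hp1) hp2 hEt he
      refine ⟨z⁻¹ * p.1, S.mem_kernAt.mpr ⟨mul_mem (inv_mem hz) hp1, ?_⟩,
        Prod.ext (by group) hEeq⟩
      rw [← hEeq] at he
      exact he
  rw [Finset.sum_congr rfl hfib, Finset.sum_const, smul_eq_mul, hP, Finset.card_product,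
    ← Set.ncard_eq_toFinset_card', ← Set.ncard_eq_toFinset_card', ← Set.ncard_eq_toFinset_card',
    ← Nat.card_coe_set_eq, SetLike.coe_sort_coe] at h
  exact h

theorem ncard_fix_split :
    {y : X | t • y = y}.ncard = 2 + ({D : X | t • D = D} ∩ far G A B).ncard := by
  have e : {y : X | t • y = y} = insert A (insert B ({D : X | t • D = D} ∩ far G A B)) := by
    ext y
    constructor
    · intro hy
      by_cases h1 : y = A
      · exact Or.inl h1
      by_cases h2 : Adj G A B A y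
      · exact Or.inr (Or.inl (S.nbr_unique ht.ne (S.invol_smul_A ht) h2 adj_AB hy (S.invol_smul_B ht)))
      · exact Or.inr (Or.inr ⟨hy, h1, h2⟩)
    · rintro (rfl | rfl | h)
      · exact S.invol_smul_A ht
      · exact S.invol_smul_B ht
      · exact h.1
  conv_lhs => rw [e]
  rw [Set.ncard_insert_of_notMem, Set.ncard_insert_of_notMem]
  · omega
  · exact fun h => h.2.2 adj_AB
  · rintro (h | h)
    · exact S.ne h.symm
    · exact h.2.1 rfl

theorem odd_pairStab_of_no_fix (hno : ∀ D ∈ far G A B, t • D ≠ D) {C : X} (hC : C ∈ far G A B) :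
    Odd (Nat.card (pairStab G A C)) := by
  rw [← Nat.not_even_iff_odd]
  intro hev
  haveI : Fact (Nat.Prime 2) := ⟨Nat.prime_two⟩
  obtain ⟨x, hx⟩ := exists_prime_orderOf_dvd_card' (G := pairStab G A C) 2 (even_iff_two_dvd.mp hev)
  have hx1 : (x : G) ≠ 1 := fun e => by
    rw [show x = 1 from Subtype.ext e, orderOf_one] at hx
    exact absurd hx (by norm_num)
  have hx2 : (x : G) * x = 1 := by
    have h := pow_orderOf_eq_one x
    rw [hx, pow_two] at h
    exact congrArg Subtype.val h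
  obtain ⟨z, hz, e⟩ := S.invol_stab ht x.2.1 hx1 hx2
  obtain ⟨w, hw, ew⟩ := S.kern_mul_invol_conj ht hz
  refine hno (w⁻¹ • C) (S.far_smul (inv_mem (S.kern_le hw)) hC) ?_
  have h : (x : G) • C = C := x.2.2
  rw [e, ← ew, mul_smul, mul_smul] at h
  exact eq_inv_smul_iff.mpr h

/-- The numerical data. -/
theorem exists_data : ∃ C ∈ far G A B, ∃ m2 e : ℕ,
    Nat.card (pairStab G A C) = Nat.card (S.kernAt C) * m2 ∧
    Nat.card (two G A B) = m2 * e ∧
    (far G A B).ncard = (orbit S.kern C).ncard * e ∧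
    m2 ∣ (orbit S.kern C).ncard - 1 ∧ Even e ∧
    ((t • C = C ∧ Even m2 ∧ {y : X | t • y = y}.ncard = 2 + e) ∨
      (Odd m2 ∧ {y : X | t • y = y}.ncard = 2)) := by
  by_cases hfix : ∃ C ∈ far G A B, t • C = C
  · obtain ⟨C, hC, htC⟩ := hfix
    obtain ⟨m2, e, h1, h2, h3⟩ := S.exists_split hC
    refine ⟨C, hC, m2, e, h1, h2, h3, S.dvd_orbit_sub_one ht hC h1, ?_⟩
    have hf : {y : X | t • y = y}.ncard = 2 + e := by
      rw [S.ncard_fix_split ht]
      congr 1
      refine Nat.eq_of_mul_eq_mul_left (Nat.card_pos (α := S.kern)) ?_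
      rw [S.kern_mul_ncard_fix_far ht hC htC, h3, ← S.orbit_mul_kernAt C]
      ring
    refine ⟨?_, Or.inl ⟨htC, ?_, hf⟩⟩
    · have := S.even_ncard_fix ht
      rw [hf, Nat.even_add] at this
      exact this.mp _root_.even_two
    · have ht2 : orderOf (⟨t, ht.mem.1, htC⟩ : pairStab G A C) = 2 :=
        orderOf_eq_prime (Subtype.ext (by rw [Subgroup.coe_pow, pow_two]; exact ht.sq))
          fun e => ht.ne (congrArg Subtype.val e)
      have h2m : 2 ∣ Nat.card (pairStab G A C) := ht2 ▸ orderOf_dvd_natCard _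
      rw [h1] at h2m
      rcases Nat.prime_two.dvd_mul.mp h2m with h | h
      · exact absurd (even_iff_two_dvd.mpr h) (Nat.not_even_iff_odd.mpr (S.odd_kernAt C S.odd_kern))
      · exact even_iff_two_dvd.mpr h
  · rw [not_exists] at hfix
    obtain ⟨C, hC⟩ := S.exists_far
    obtain ⟨m2, e, h1, h2, h3⟩ := S.exists_split hC
    refine ⟨C, hC, m2, e, h1, h2, h3, S.dvd_orbit_sub_one ht hC h1, ?_⟩
    have hno : ∀ D ∈ far G A B, t • D ≠ D := fun D hD e => hfix D ⟨hD, e⟩
    have hodd : Odd m2 := by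
      have := S.odd_pairStab_of_no_fix ht hno hC
      rw [h1] at this
      exact (Nat.odd_mul.mp this).2
    refine ⟨?_, Or.inr ⟨hodd, ?_⟩⟩
    · have h := S.even_two
      rw [h2] at h
      rcases Nat.even_mul.mp h with h' | h'
      · exact absurd h' (Nat.not_even_iff_odd.mpr hodd)
      · exact h'
    · rw [S.ncard_fix_split ht,
        show {D : X | t • D = D} ∩ far G A B = ∅ from
          Set.eq_empty_iff_forall_notMem.mpr fun D hD => hno D hD.2 hD.1, Set.ncard_empty]

/-- When the kernel is semiregular on the far points, `|G_{AB}|` divides the number of moved points with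
adjacent image. -/
theorem two_dvd_moved_adj {C : X} (hC : C ∈ far G A B) (htC : t • C = C)
    (h1 : Nat.card (S.kernAt C) = 1) :
    Nat.card (two G A B) ∣ {y : X | t • y ≠ y ∧ Adj G A B y (t • y)}.ncard := by
  refine card_dvd_of_free _ _ (fun g hg y hy => ⟨fun e => hy.1 ?_, ?_⟩) fun g hg y hy hgy => ?_
  · rw [← mul_smul, S.invol_central ht hg, mul_smul] at e
    exact MulAction.injective g e
  · rw [← mul_smul t, S.invol_central ht hg, mul_smul]
    exact adj_smul g hy.2
  by_contra hg1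
  obtain ⟨hgA, hgB⟩ := mem_two.mp hg
  by_cases e1 : y = A
  · exact hy.1 (by rw [e1]; exact S.invol_smul_A ht)
  by_cases e2 : Adj G A B A y
  · exact hy.1 (by rw [S.nbr_unique hg1 hgA e2 adj_AB hgy hgB]; exact S.invol_smul_B ht)
  obtain ⟨z, hz, E, hE, hEt, rfl⟩ := S.exists_fixed_in_orbit ht hC htC ⟨e1, e2⟩
  have hE1 : ∀ w ∈ S.kern, w • E = E → w = 1 := fun w hw hwE => by
    have h := Subgroup.eq_bot_of_card_eq (S.kernAt E) ((S.card_kernAt_eq hC hE).trans h1)
    exact Subgroup.mem_bot.mp (h ▸ S.mem_kernAt.mpr ⟨hw, hwE⟩)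
  -- the conjugate of `g` lies in the stabiliser of `A` and `E`
  set x := z⁻¹ * g * z with hx
  have hxA : x ∈ stabilizer G A :=
    mul_mem (mul_mem (inv_mem (S.kern_le hz)) hg.1) (S.kern_le hz)
  have hxE : x • E = E := by rw [hx, mul_smul, mul_smul, hgy, inv_smul_smul]
  obtain ⟨w, hw, e⟩ := S.invol_stab ht (u := x * t * x⁻¹)
    (mul_mem (mul_mem hxA ht.mem.1) (inv_mem hxA)) (conjs_ne ht.ne ⟨x, rfl⟩) (conjs_sq ht.sq ⟨x, rfl⟩)
  have hw1 : w = 1 := by
    refine hE1 w hw ?_
    have h : (x * t * x⁻¹) • E = E := by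
      rw [mul_smul, mul_smul, inv_smul_eq_iff.mpr hxE.symm, hEt, hxE]
    rw [e, mul_smul, hEt] at h
    exact h
  rw [hw1, one_mul, mul_inv_eq_iff_eq_mul] at e
  -- so it lies in the complement
  obtain ⟨c, hc, y', hy', hxy⟩ := S.decomp hxA
  have h2 : c = 1 := by
    rw [hxy, mul_assoc, ← S.invol_central ht hy', ← mul_assoc, ← mul_assoc] at e
    have h3 : c * t = t * c := mul_right_cancel e
    rw [S.invol_mul ht hc] at h3
    refine S.eq_one_of_sq hc ?_
    rw [mul_eq_one_iff_eq_inv]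
    exact mul_right_cancel h3
  rw [h2, one_mul] at hxy
  have h4 : g⁻¹ * x ∈ S.kern := by
    rw [hx, show g⁻¹ * (z⁻¹ * g * z) = (g⁻¹ * z⁻¹ * g⁻¹⁻¹) * z by group]
    exact mul_mem (S.kern_conj (inv_mem hg.1) (inv_mem hz)) hz
  have h5 : g⁻¹ * x = 1 := S.kern_free h4 adj_AB (mem_two.mp (mul_mem (inv_mem hg) (hxy ▸ hy'))).2
  have h6 : x = g := (inv_mul_eq_one.mp h5).symm
  rw [hx, mul_assoc, inv_mul_eq_iff_eq_mul] at h6
  refine hy.1 ?_
  rw [S.eq_one_of_commute hg hg1 hz h6, one_smul, hEt]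

end Setup

end Cfsg.Agent.Lib.RankThreeFrob
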