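import Cfsg.Agent.Lib.RankThreeFrob.Basic

/-!
# Rank three groups with a Frobenius group on a suborbit: the parameters
-/

set_option autoImplicit false
set_option linter.unusedSectionVars false

open MulAction

namespace Cfsg.Agent.Lib.RankThreeFrob

universe u v

variable {G : Type u} [Group G] [Finite G] {X : Type v} [MulAction G X] [Finite X] {A B : X}

/-- The common neighbours of two points. -/
def common (G : Type u) [Group G] {X : Type v} [MulAction G X] (A B P Q : X) : Set X :=
  nbr G A B P ∩ nbr G A B Q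

/-- The stabiliser of `A` and `C`. -/
def pairStab (G : Type u) [Group G] {X : Type v} [MulAction G X] (A C : X) : Subgroup G :=
  stabilizer G A ⊓ stabilizer G C

namespace Setup

variable (S : Setup G A B)
include S

theorem far_smul {g : G} (hg : g ∈ stabilizer G A) {C : X} (hC : C ∈ far G A B) :
    g • C ∈ far G A B := by
  have hgA : g • A = A := hg
  refine ⟨fun e => hC.1 (MulAction.injective g (e.trans hgA.symm)), fun h => hC.2 ?_⟩
  rw [← adj_smul_iff g, hgA]
  exact h

theorem far_eq_orbit {C : X} (hC : C ∈ far G A B) : far G A B = orbit (stabilizer G A) C := by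
  ext Q
  refine ⟨fun hQ => ?_, ?_⟩
  · obtain ⟨g, hg, e⟩ := S.far_transitive hC hQ
    exact ⟨⟨g, hg⟩, e⟩
  · rintro ⟨g, rfl⟩
    exact S.far_smul g.2 hC

theorem ncard_far_mul {C : X} (hC : C ∈ far G A B) :
    (far G A B).ncard * Nat.card (pairStab G A C) = Nat.card (stabilizer G A) := by
  rw [S.far_eq_orbit hC, ← Nat.card_coe_set_eq,
    Nat.card_congr (orbitEquivQuotientStabilizer (stabilizer G A) C),
    Subgroup.card_eq_card_quotient_mul_card_subgroup (stabilizer (stabilizer G A) C)]
  congr 1
  refine Nat.card_congr ⟨fun g => ⟨⟨g.1, g.2.1⟩, g.2.2⟩, fun g => ⟨g.1.1, g.1.2, g.2⟩, fun g => rfl,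
    fun g => rfl⟩

theorem ncard_far_pos : 0 < (far G A B).ncard := by
  obtain ⟨C, hC⟩ := S.exists_far
  exact (Set.ncard_pos (Set.toFinite _)).mpr ⟨C, hC⟩

theorem card_pairStab_eq {C D : X} (hC : C ∈ far G A B) (hD : D ∈ far G A B) :
    Nat.card (pairStab G A C) = Nat.card (pairStab G A D) :=
  Nat.eq_of_mul_eq_mul_left S.ncard_far_pos ((S.ncard_far_mul hC).trans (S.ncard_far_mul hD).symm)

theorem card_points : Nat.card X = 1 + Nat.card S.kern + (far G A B).ncard := by
  have h : (Set.univ : Set X) = insert A (nbr G A B A ∪ far G A B) := by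
    ext Q
    simp only [Set.mem_univ, Set.mem_insert_iff, Set.mem_union, true_iff]
    by_cases h1 : Q = A
    · exact Or.inl h1
    · by_cases h2 : Adj G A B A Q
      · exact Or.inr (Or.inl h2)
      · exact Or.inr (Or.inr ⟨h1, h2⟩)
  rw [← Set.ncard_univ, h, Set.ncard_insert_of_notMem, Set.ncard_union_eq ?_, S.ncard_nbr]
  · ring
  · rw [Set.disjoint_left]
    exact fun Q hQ hQ' => hQ'.2 hQ
  · rintro (h | h)
    · exact S.adj_irrefl A h
    · exact h.1 rfl

theorem common_smul (g : G) (P Q : X) :
    common G A B (g • P) (g • Q) = (fun x : X => g • x) '' common G A B P Q := by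
  ext R
  refine ⟨fun h => ⟨g⁻¹ • R, ?_, smul_inv_smul _ _⟩, ?_⟩
  · have h1 := adj_smul g⁻¹ (show Adj G A B (g • P) R from h.1)
    have h2 := adj_smul g⁻¹ (show Adj G A B (g • Q) R from h.2)
    rw [inv_smul_smul] at h1 h2
    exact ⟨h1, h2⟩
  · rintro ⟨T, hT, rfl⟩
    exact ⟨adj_smul g hT.1, adj_smul g hT.2⟩

theorem ncard_common_smul (g : G) (P Q : X) :
    (common G A B (g • P) (g • Q)).ncard = (common G A B P Q).ncard := by
  rw [S.common_smul g, Set.ncard_image_of_injective _ (MulAction.injective g)]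

theorem ncard_common_adj {P Q : X} (h : Adj G A B P Q) :
    (common G A B P Q).ncard = (common G A B A B).ncard := by
  obtain ⟨g, rfl, rfl⟩ := h
  exact S.ncard_common_smul g A B

theorem ncard_common_far {C D : X} (hC : C ∈ far G A B) (hD : D ∈ far G A B) :
    (common G A B A C).ncard = (common G A B A D).ncard := by
  obtain ⟨g, hg, rfl⟩ := S.far_transitive hC hD
  have h := S.ncard_common_smul g A C
  rw [mem_stabilizer_iff.mp hg] at h
  exact h.symm

theorem common_free_far {C Q : X} (hC : C ∈ far G A B) {x : G} (hx : x ∈ pairStab G A C)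
    (hQ : Q ∈ common G A B A C) (hfix : x • Q = Q) : x = 1 := by
  by_contra hx1
  exact hC.1 (S.nbr_unique hx1 hfix (S.adj_symm hQ.1) (S.adj_symm hQ.2) hx.1 hx.2).symm

theorem card_pairStab_dvd {C : X} (hC : C ∈ far G A B) :
    Nat.card (pairStab G A C) ∣ (common G A B A C).ncard := by
  refine card_dvd_of_free _ _ (fun g hg Q hQ => ?_) fun g hg Q hQ hf => S.common_free_far hC hg hQ hf
  have h1 : g • A = A := hg.1
  have h2 : g • C = C := hg.2
  have := Set.mem_image_of_mem (fun x : X => g • x) hQ
  rwa [← S.common_smul g, h1, h2] at this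

theorem card_two_dvd : Nat.card (two G A B) ∣ (common G A B A B).ncard := by
  refine card_dvd_of_free _ _ (fun g hg Q hQ => ?_) fun g hg Q hQ hf => ?_
  · obtain ⟨h1, h2⟩ := mem_two.mp hg
    have := Set.mem_image_of_mem (fun x : X => g • x) hQ
    rwa [← S.common_smul g, h1, h2] at this
  · obtain ⟨h1, h2⟩ := mem_two.mp hg
    by_contra hg1
    have := S.nbr_unique hg1 h1 adj_AB hQ.1 h2 hf
    subst this
    exact S.adj_irrefl _ hQ.2

theorem nbr_split {P : X} :
    nbr G A B P ∩ far G A B = nbr G A B P \ (nbr G A B A ∪ {A}) := by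
  ext Q
  constructor
  · rintro ⟨h1, h2, h3⟩
    exact ⟨h1, fun h => h.elim h3 h2⟩
  · rintro ⟨h1, h2⟩
    exact ⟨h1, fun h => h2 (Or.inr h), fun h => h2 (Or.inl h)⟩

theorem nbr_far_count {P : X} (hP : Adj G A B A P) :
    (nbr G A B P ∩ far G A B).ncard + (common G A B A B).ncard + 1 = Nat.card S.kern := by
  rw [← S.ncard_common_adj hP, ← S.ncard_nbr P, S.nbr_split]
  have h := Set.ncard_inter_add_ncard_sdiff_eq_ncard (nbr G A B P) (nbr G A B A ∪ {A}) (Set.toFinite _)
  have h2 : nbr G A B P ∩ (nbr G A B A ∪ {A}) = insert A (common G A B A P) := by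
    ext Q
    constructor
    · rintro ⟨h1, h3 | h3⟩
      · exact Or.inr ⟨h3, h1⟩
      · exact Or.inl h3
    · rintro (rfl | ⟨h1, h3⟩)
      · exact ⟨S.adj_symm hP, Or.inr rfl⟩
      · exact ⟨h3, Or.inl h1⟩
  rw [h2, Set.ncard_insert_of_notMem (fun h => S.adj_irrefl A h.1) (Set.toFinite _)] at h
  omega

theorem nbr_far_far {C : X} (hC : C ∈ far G A B) :
    (nbr G A B C ∩ far G A B).ncard + (common G A B A C).ncard = Nat.card S.kern := by
  rw [← S.ncard_nbr C, S.nbr_split]
  have h := Set.ncard_inter_add_ncard_sdiff_eq_ncard (nbr G A B C) (nbr G A B A ∪ {A}) (Set.toFinite _)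
  have h2 : nbr G A B C ∩ (nbr G A B A ∪ {A}) = common G A B A C := by
    ext Q
    constructor
    · rintro ⟨h1, h3 | h3⟩
      · exact ⟨h3, h1⟩
      · rw [Set.mem_singleton_iff] at h3
        subst h3
        exact absurd (S.adj_symm h1) hC.2
    · rintro ⟨h1, h3⟩
      exact ⟨h3, Or.inl h1⟩
  rw [h2] at h
  omega

theorem double_count {C : X} (hC : C ∈ far G A B) :
    Nat.card S.kern * (Nat.card S.kern - 1 - (common G A B A B).ncard) =
      (far G A B).ncard * (common G A B A C).ncard := by
  classical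
  letI := Fintype.ofFinite X
  have h := Finset.sum_card_bipartiteAbove_eq_sum_card_bipartiteBelow (s := (nbr G A B A).toFinset)
    (t := (far G A B).toFinset) (Adj G A B)
  have e1 : ∀ P ∈ (nbr G A B A).toFinset,
      (Finset.bipartiteAbove (Adj G A B) (far G A B).toFinset P).card =
        Nat.card S.kern - 1 - (common G A B A B).ncard := by
    intro P hP
    rw [Set.mem_toFinset] at hP
    have := S.nbr_far_count hP
    rw [show (Finset.bipartiteAbove (Adj G A B) (far G A B).toFinset P).card =
      (nbr G A B P ∩ far G A B).ncard from ?_]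
    · omega
    · rw [← Set.ncard_coe_finset]
      congr 1
      ext Q
      simp [Finset.bipartiteAbove, nbr, and_comm]
  have e2 : ∀ D ∈ (far G A B).toFinset,
      (Finset.bipartiteBelow (Adj G A B) (nbr G A B A).toFinset D).card =
        (common G A B A C).ncard := by
    intro D hD
    rw [Set.mem_toFinset] at hD
    rw [S.ncard_common_far hC hD, ← Set.ncard_coe_finset]
    congr 1
    ext Q
    simp only [Finset.bipartiteBelow, Finset.coe_filter, Set.mem_toFinset]
    exact ⟨fun h => ⟨h.1, S.adj_symm h.2⟩, fun h => ⟨h.1, S.adj_symm h.2⟩⟩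
  rw [Finset.sum_congr rfl e1, Finset.sum_congr rfl e2, Finset.sum_const, Finset.sum_const, smul_eq_mul,
    smul_eq_mul, ← Set.ncard_eq_toFinset_card', ← Set.ncard_eq_toFinset_card', S.ncard_nbr] at h
  exact h

theorem block_subsingleton (Bl : Set X) (hblock : IsBlock G Bl) {P Q : X} (hP : P ∈ Bl) (hQ : Q ∉ Bl)
    {R : X} (hR : R ∈ Bl) : R = P := by
  haveI := S.prim
  rcases IsPreprimitive.isTrivialBlock_of_isBlock hblock with h | h
  · exact h hR hP
  · exact absurd (h ▸ Set.mem_univ Q) hQ

theorem common_lt {C : X} (hC : C ∈ far G A B) :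
    (common G A B A C).ncard < Nat.card S.kern := by
  by_contra hle
  have heq : nbr G A B C = nbr G A B A := by
    have h1 : common G A B A C = nbr G A B C :=
      Set.eq_of_subset_of_ncard_le Set.inter_subset_right (by rw [S.ncard_nbr]; omega) (Set.toFinite _)
    have h2 : common G A B A C = nbr G A B A :=
      Set.eq_of_subset_of_ncard_le Set.inter_subset_left (by rw [S.ncard_nbr]; omega) (Set.toFinite _)
    rw [← h1, h2]
  have hblock : IsBlock G {P | nbr G A B P = nbr G A B A} := by
    rw [isBlock_iff_smul_eq_of_nonempty]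
    rintro g ⟨P, ⟨P', hP', rfl⟩, hP⟩
    have him : ∀ R, nbr G A B (g • R) = (fun x : X => g • x) '' nbr G A B R := fun R => by
      ext T
      refine ⟨fun h => ⟨g⁻¹ • T, ?_, smul_inv_smul _ _⟩, ?_⟩
      · have := adj_smul g⁻¹ (show Adj G A B (g • R) T from h)
        rwa [inv_smul_smul] at this
      · rintro ⟨U, hU, rfl⟩; exact adj_smul g hU
    have hP2 : nbr G A B (g • P') = nbr G A B A := hP
    rw [him, show nbr G A B P' = nbr G A B A from hP'] at hP2
    ext R
    refine ⟨?_, fun hR => ⟨g⁻¹ • R, ?_, smul_inv_smul _ _⟩⟩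
    · rintro ⟨R', hR', rfl⟩
      change nbr G A B (g • R') = _
      rw [him, show nbr G A B R' = nbr G A B A from hR', hP2]
    · have h1 := him (g⁻¹ • R)
      rw [smul_inv_smul, show nbr G A B R = nbr G A B A from hR, ← hP2] at h1
      exact (Set.image_injective.mpr (MulAction.injective g) h1).symm
  refine hC.1 (S.block_subsingleton _ hblock (P := A) rfl (Q := B) (fun h => ?_) heq)
  exact S.adj_irrefl B (show B ∈ nbr G A B B from (show nbr G A B B = _ from h) ▸ adj_AB)

theorem common_pos {C : X} (hC : C ∈ far G A B) : 0 < (common G A B A C).ncard := by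
  by_contra hle
  have hd := S.double_count hC
  rw [show (common G A B A C).ncard = 0 by omega, mul_zero] at hd
  have h0 : Nat.card S.kern - 1 - (common G A B A B).ncard = 0 :=
    (Nat.mul_eq_zero.mp hd).resolve_left Nat.card_pos.ne'
  -- the relation `equal or adjacent` is then an equivalence
  have htr : ∀ {P Q R : X}, Adj G A B P Q → Adj G A B Q R → R = P ∨ Adj G A B P R := by
    intro P Q R h1 h2
    obtain ⟨g, rfl, rfl⟩ := h1
    have h2' : Adj G A B B (g⁻¹ • R) := by simpa using adj_smul g⁻¹ h2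
    have := S.nbr_far_count adj_AB
    have hemp : nbr G A B B ∩ far G A B = ∅ := by
      rw [← Set.ncard_eq_zero (Set.toFinite _)]
      omega
    by_cases hR : R = g • A
    · exact Or.inl hR
    refine Or.inr ?_
    rw [← smul_inv_smul g R, adj_smul_iff]
    by_contra hno
    exact (Set.eq_empty_iff_forall_notMem.mp hemp) (g⁻¹ • R)
      ⟨h2', fun e => hR (inv_smul_eq_iff.mp e), hno⟩
  have hblock : IsBlock G (insert A (nbr G A B A)) := by
    have key : ∀ {P Q : X}, P ∈ insert A (nbr G A B A) →
        (Q ∈ insert A (nbr G A B A) ↔ Q = P ∨ Adj G A B P Q) := by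
      rintro P Q (rfl | hP)
      · exact Iff.rfl
      constructor
      · rintro (rfl | hQ)
        · exact Or.inr (S.adj_symm hP)
        · exact htr (S.adj_symm hP) hQ
      · rintro (rfl | hQ)
        · exact Or.inr hP
        · exact (htr hP hQ).imp id id
    rw [isBlock_iff_smul_eq_of_nonempty]
    rintro g ⟨P, ⟨P', hP', rfl⟩, hP⟩
    ext R
    refine ⟨?_, fun hR => ⟨g⁻¹ • R, ?_, smul_inv_smul _ _⟩⟩
    · rintro ⟨R', hR', rfl⟩
      exact (key hP).mpr (((key hP').mp hR').imp (congrArg (g • ·)) (adj_smul g))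
    · refine (key hP').mpr (((key hP).mp hR).imp (fun e => ?_) fun e => ?_)
      · rw [inv_smul_eq_iff]; exact e
      · rw [← adj_smul_iff g, smul_inv_smul]; exact e
  exact S.ne (S.block_subsingleton _ hblock (P := A) (Or.inl rfl) (Q := C)
    (fun h => h.elim hC.1 hC.2) (Or.inr adj_AB))

/-- The arithmetical parameters. -/
theorem exists_params {C : X} (hC : C ∈ far G A B) : ∃ a b : ℕ, 0 < a ∧
    (common G A B A C).ncard = Nat.card (pairStab G A C) * a ∧
    (common G A B A B).ncard = Nat.card (two G A B) * b ∧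
    Nat.card S.kern = Nat.card (two G A B) * (a + b) + 1 := by
  obtain ⟨a, ha⟩ := S.card_pairStab_dvd hC
  obtain ⟨b, hb⟩ := S.card_two_dvd
  refine ⟨a, b, ?_, ha, hb, ?_⟩
  · have := S.common_pos hC
    rcases Nat.eq_zero_or_pos a with h | h
    · rw [h, mul_zero] at ha; omega
    · exact h
  have hd := S.double_count hC
  have hl := S.ncard_far_mul hC
  rw [S.card_stab] at hl
  have h1 := S.nbr_far_count adj_AB
  set k := Nat.card S.kern
  rw [ha] at hd
  have e : k * (k - 1 - (common G A B A B).ncard) = k * (Nat.card (two G A B) * a) := by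
    rw [hd, ← mul_assoc, hl, mul_assoc]
  have e2 := Nat.eq_of_mul_eq_mul_left (by omega) e
  rw [hb] at e2 h1
  rw [Nat.mul_add]
  omega

theorem exists_far_nbr {C : X} (hC : C ∈ far G A B) :
    ∃ D ∈ far G A B, Adj G A B C D := by
  have h1 := S.nbr_far_far hC
  have h2 := S.common_lt hC
  obtain ⟨D, hD⟩ := (Set.ncard_pos (Set.toFinite _)).mp (show 0 < (nbr G A B C ∩ far G A B).ncard by omega)
  exact ⟨D, hD.2, hD.1⟩

end Setup

end Cfsg.Agent.Lib.RankThreeFrob
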