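import Cfsg.Agent.Lib.RankThreeFrob.Orbits

/-!
# Rank three groups with a Frobenius group on a suborbit: traces
-/

set_option autoImplicit false
set_option linter.unusedSectionVars false
set_option linter.style.haveILetI false

open MulAction Matrix

namespace Cfsg.Agent.Lib.RankThreeFrob

universe u v

section Gen

variable {ι : Type*} [Fintype ι] [DecidableEq ι]

/-- The trace of an idempotent real matrix is a natural number. -/
theorem trace_idem (P : Matrix ι ι ℝ) (h : P * P = P) : ∃ n : ℕ, P.trace = n := by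
  have he : IsIdempotentElem (Matrix.toLin' P) := by
    show Matrix.toLin' P * Matrix.toLin' P = Matrix.toLin' P
    rw [Module.End.mul_eq_comp, ← Matrix.toLin'_mul, h]
  refine ⟨Module.finrank ℝ (LinearMap.range (Matrix.toLin' P)), ?_⟩
  rw [← (LinearMap.IsIdempotentElem.isProj_range _ he).trace, LinearMap.trace_eq_matrix_trace ℝ
    (Pi.basisFun ℝ ι), ← Matrix.toLin_eq_toLin', LinearMap.toMatrix_toLin]

theorem sub_idem {E Z : Matrix ι ι ℝ} (hE : E * E = E) (hZ : Z * Z = Z) (hc : Z * E = E * Z) :
    (E - E * Z) * (E - E * Z) = E - E * Z := by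
  have h1 : E * Z * E = E * Z := by rw [mul_assoc, hc, ← mul_assoc, hE]
  have h2 : E * Z * (E * Z) = E * Z := by rw [← mul_assoc, h1, mul_assoc, hZ]
  have h3 : E * (E * Z) = E * Z := by rw [← mul_assoc, hE]
  rw [sub_mul, mul_sub, mul_sub, hE, h1, h2, h3]
  abel

end Gen

variable {G : Type u} [Group G] {X : Type v} [MulAction G X]

open Classical in
/-- The adjacency matrix. -/
noncomputable def adjMat (G : Type u) [Group G] {X : Type v} [MulAction G X] (A B : X) : Matrix X X ℝ :=
  Matrix.of fun i j => if Adj G A B i j then 1 else 0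

/-- The all-one matrix. -/
def onesMat (X : Type v) : Matrix X X ℝ := Matrix.of fun _ _ => 1

open Classical in
/-- The permutation matrix of an element. -/
noncomputable def perm (g : G) : Matrix X X ℝ := Matrix.of fun i j => if g • j = i then 1 else 0

variable [Fintype X]

open Classical in
theorem perm_mul (g h : G) : (perm g : Matrix X X ℝ) * perm h = perm (g * h) := by
  ext i j
  rw [Matrix.mul_apply, Finset.sum_eq_single (h • j)]
  · simp [perm, mul_smul]
  · intro b _ hb
    simp [perm, Ne.symm hb]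
  · simp

open Classical in
theorem perm_one : (perm (1 : G) : Matrix X X ℝ) = 1 := by
  ext i j
  simp [perm, Matrix.one_apply, eq_comm]

open Classical in
theorem perm_mul_apply (g : G) (M : Matrix X X ℝ) (i j : X) :
    ((perm g : Matrix X X ℝ) * M) i j = M (g⁻¹ • i) j := by
  rw [Matrix.mul_apply, Finset.sum_eq_single (g⁻¹ • i)]
  · simp [perm]
  · intro b _ hb
    have : g • b ≠ i := fun e => hb (by rw [← e, inv_smul_smul])
    simp [perm, this]
  · simp

open Classical in
theorem mul_perm_apply (g : G) (M : Matrix X X ℝ) (i j : X) :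
    (M * (perm g : Matrix X X ℝ)) i j = M i (g • j) := by
  rw [Matrix.mul_apply, Finset.sum_eq_single (g • j)]
  · simp [perm]
  · intro b _ hb
    simp [perm, Ne.symm hb]
  · simp

/-- `M` commutes with the group. -/
def Central (G : Type u) [Group G] {X : Type v} [MulAction G X] [Fintype X] (M : Matrix X X ℝ) : Prop :=
  ∀ g : G, perm g * M = M * perm g

theorem central_onesMat : Central G (onesMat X) := fun g => by
  ext i j
  rw [perm_mul_apply, mul_perm_apply]
  rfl

open Classical in
theorem central_one : Central G (1 : Matrix X X ℝ) := fun g => by rw [mul_one, one_mul]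

open Classical in
theorem central_adjMat [Finite G] (A B : X) : Central G (adjMat G A B) := fun g => by
  ext i j
  rw [perm_mul_apply, mul_perm_apply]
  simp only [adjMat, Matrix.of_apply]
  refine if_congr ?_ rfl rfl
  rw [← adj_smul_iff g, smul_inv_smul]

theorem trace_mul_perm_conj {M : Matrix X X ℝ} (hM : Central G M) (g t : G) :
    (M * perm (g * t * g⁻¹)).trace = (M * perm t).trace := by
  classical
  rw [← perm_mul, ← perm_mul, ← Matrix.mul_assoc, Matrix.trace_mul_comm, ← Matrix.mul_assoc,
    ← Matrix.mul_assoc, hM g⁻¹, Matrix.mul_assoc M, perm_mul, inv_mul_cancel, perm_one, Matrix.mul_one]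

/-- The average over a subgroup. -/
noncomputable def avg [Finite G] (P : Subgroup G) : Matrix X X ℝ :=
  letI := Fintype.ofFinite P
  (Nat.card P : ℝ)⁻¹ • ∑ p : P, perm (p : G)

section Avg

variable [Finite G]

theorem avg_mul_perm (P : Subgroup G) {p : G} (hp : p ∈ P) :
    (avg P : Matrix X X ℝ) * perm p = avg P := by
  classical
  letI := Fintype.ofFinite P
  rw [avg, Matrix.smul_mul, Finset.sum_mul]
  congr 1
  refine Fintype.sum_equiv (Equiv.mulRight ⟨p, hp⟩) _ _ fun x => ?_
  rw [perm_mul]
  rfl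

theorem avg_idem (P : Subgroup G) : (avg P : Matrix X X ℝ) * avg P = avg P := by
  classical
  letI := Fintype.ofFinite P
  conv_lhs => arg 2; rw [avg]
  rw [Matrix.mul_smul, Finset.mul_sum, Finset.sum_congr rfl fun x _ => avg_mul_perm P x.2,
    Finset.sum_const, Finset.card_univ, ← Nat.card_eq_fintype_card, ← Nat.cast_smul_eq_nsmul ℝ, smul_smul,
    inv_mul_cancel₀ (Nat.cast_ne_zero.mpr Nat.card_pos.ne'), one_smul]

theorem perm_mul_avg (P : Subgroup G) {g : G} (hg : ∀ p ∈ P, g * p * g⁻¹ ∈ P) :
    perm g * (avg P : Matrix X X ℝ) = avg P * perm g := by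
  classical
  letI := Fintype.ofFinite P
  rw [avg, Matrix.mul_smul, Matrix.smul_mul, Finset.mul_sum, Finset.sum_mul]
  congr 1
  let f : P → P := fun p => ⟨g * p * g⁻¹, hg p p.2⟩
  have hf : Function.Bijective f := Finite.injective_iff_bijective.mp fun a b e =>
    Subtype.ext (mul_left_cancel (mul_right_cancel (congrArg Subtype.val e :)))
  refine Fintype.sum_bijective f hf _ _ fun x => ?_
  rw [perm_mul, perm_mul]
  congr 1
  simp [f, mul_assoc]

theorem mul_avg_comm {M : Matrix X X ℝ} (hM : Central G M) (P : Subgroup G) :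
    M * avg P = avg P * M := by
  classical
  letI := Fintype.ofFinite P
  rw [avg, Matrix.mul_smul, Matrix.smul_mul, Finset.mul_sum, Finset.sum_mul]
  exact congrArg _ (Finset.sum_congr rfl fun x _ => (hM (x : G)).symm)

open Classical in
theorem perm_invol_mul_avg (P : Subgroup G) {t : G}
    (horb : ∀ y : X, ∃ z ∈ P, t • y = z • y) :
    perm t * (avg P : Matrix X X ℝ) = avg P := by
  letI := Fintype.ofFinite P
  ext i j
  rw [perm_mul_apply]
  obtain ⟨z, hz, e⟩ := horb (t⁻¹ • i)
  rw [smul_inv_smul] at e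
  simp only [avg, Matrix.smul_apply, Matrix.sum_apply, perm, Matrix.of_apply]
  congr 1
  refine Fintype.sum_equiv (Equiv.mulLeft ⟨z, hz⟩) _ _ fun x => ?_
  refine if_congr ?_ rfl rfl
  conv_rhs => rw [e]
  change _ ↔ (z * (x : G)) • j = _
  rw [mul_smul]
  exact ⟨fun h => by rw [h], fun h => MulAction.injective z h⟩

theorem trace_mul_avg_eq {M : Matrix X X ℝ} (hM : Central G M) (P : Subgroup G) {t : G}
    (horb : ∀ y : X, ∃ z ∈ P, t • y = z • y) (hconj : ∀ z ∈ P, ∃ w : G, w * t * w⁻¹ = t * z) :
    (M * avg P).trace = (M * perm t).trace := by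
  classical
  letI := Fintype.ofFinite P
  rw [← perm_invol_mul_avg P horb]
  rw [avg, Matrix.mul_smul, Finset.mul_sum, Matrix.mul_smul, Finset.mul_sum, Matrix.trace_smul,
    Matrix.trace_sum, Finset.sum_congr rfl (g := fun _ => (M * perm t).trace) fun x _ => ?_,
    Finset.sum_const, Finset.card_univ, ← Nat.card_eq_fintype_card, nsmul_eq_mul, smul_eq_mul, ← mul_assoc,
    inv_mul_cancel₀ (Nat.cast_ne_zero.mpr Nat.card_pos.ne'), one_mul]
  obtain ⟨w, hw⟩ := hconj x x.2
  rw [perm_mul, ← hw, trace_mul_perm_conj hM]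

end Avg

open Classical in
theorem trace_perm (t : G) : (perm t : Matrix X X ℝ).trace = {y : X | t • y = y}.ncard := by
  rw [Matrix.trace, Set.ncard_eq_toFinset_card', Set.toFinset_ofPred]
  simp [perm, Finset.sum_boole]

open Classical in
theorem trace_onesMat_mul_perm (t : G) :
    (onesMat X * perm t).trace = (Nat.card X : ℝ) := by
  simp [Matrix.trace, Matrix.diag_apply, mul_perm_apply, onesMat]

open Classical in
theorem trace_adjMat_mul_perm (A B : X) (t : G) :
    (adjMat G A B * (perm t : Matrix X X ℝ)).trace = (({y : X | Adj G A B y (t • y)}.ncard : ℕ) : ℝ) := by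
  rw [Matrix.trace, Set.ncard_eq_toFinset_card', Set.toFinset_ofPred]
  simp [Matrix.diag_apply, mul_perm_apply, adjMat, Finset.sum_boole]

theorem trace_onesMat : (onesMat X).trace = (Nat.card X : ℝ) := by
  simp [Matrix.trace, onesMat]

/-- The projection for the eigenvalue `x`. -/
noncomputable def eigProj (G : Type u) [Group G] {X : Type v} [MulAction G X] [Fintype X] (A B : X)
    (k x y : ℝ) : Matrix X X ℝ :=
  letI := Classical.decEq X
  (x - y)⁻¹ • (adjMat G A B - y • (1 : Matrix X X ℝ) - ((k - y) / (Nat.card X : ℝ)) • onesMat X)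

variable {A B : X}

theorem central_eigProj [Finite G] (k x y : ℝ) : Central G (eigProj G A B k x y) := fun g => by
  classical
  rw [eigProj]
  simp only [Matrix.mul_smul, Matrix.smul_mul, Matrix.mul_sub, Matrix.sub_mul, central_adjMat A B g,
    central_onesMat (X := X) g, Matrix.mul_one, Matrix.one_mul]

theorem trace_eigProj_mul_perm (k x y : ℝ) (t : G) :
    (eigProj G A B k x y * perm t).trace * (x - y) =
      if x = y then 0 else ({z : X | Adj G A B z (t • z)}.ncard : ℝ) -
        y * {z : X | t • z = z}.ncard - (k - y) := by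
  classical
  by_cases h : x = y
  · simp [h]
  rw [if_neg h, eigProj, Matrix.smul_mul, Matrix.sub_mul, Matrix.sub_mul, Matrix.smul_mul,
    Matrix.smul_mul, Matrix.one_mul, Matrix.trace_smul, Matrix.trace_sub, Matrix.trace_sub,
    Matrix.trace_smul, Matrix.trace_smul, trace_perm, trace_adjMat_mul_perm, trace_onesMat_mul_perm,
    smul_eq_mul, smul_eq_mul, smul_eq_mul]
  haveI : Nonempty X := ⟨A⟩
  have hv : (Nat.card X : ℝ) ≠ 0 := Nat.cast_ne_zero.mpr Nat.card_pos.ne'
  have hd : x - y ≠ 0 := sub_ne_zero.mpr h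
  rw [div_mul_cancel₀ _ hv]
  field_simp

namespace Setup

variable [Finite G] (S : Setup G A B)
include S

theorem param_eq {C : X} (hC : C ∈ far G A B) :
    ((common G A B A C).ncard : ℤ) * ((Nat.card X : ℤ) - 1) =
      (Nat.card S.kern : ℤ) ^ 2 - Nat.card S.kern -
        ((common G A B A B).ncard - (common G A B A C).ncard : ℤ) * Nat.card S.kern := by
  have h1 := S.double_count hC
  have h2 := S.nbr_far_count adj_AB
  obtain ⟨c, hc⟩ : ∃ c, Nat.card S.kern = c + 1 + (common G A B A B).ncard :=
    ⟨(nbr G A B B ∩ far G A B).ncard, by omega⟩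
  rw [show Nat.card S.kern - 1 - (common G A B A B).ncard = c by omega] at h1
  have h3 : ((Nat.card S.kern : ℤ)) * c = (far G A B).ncard * (common G A B A C).ncard := by
    exact_mod_cast h1
  have h4 : (Nat.card S.kern : ℤ) = c + 1 + (common G A B A B).ncard := by exact_mod_cast hc
  rw [show (Nat.card X : ℤ) = 1 + Nat.card S.kern + (far G A B).ncard by exact_mod_cast S.card_points]
  linear_combination (-1 : ℤ) * h3 + (-(Nat.card S.kern : ℤ)) * h4

variable {C : X} (hC : C ∈ far G A B)
include hC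

theorem adjMat_sq :
    letI := Classical.decEq X
    adjMat G A B * adjMat G A B =
      (((common G A B A B).ncard : ℝ) - (common G A B A C).ncard) • adjMat G A B +
      ((Nat.card S.kern : ℝ) - (common G A B A C).ncard) • (1 : Matrix X X ℝ) +
      ((common G A B A C).ncard : ℝ) • onesMat X := by
  classical
  ext i j
  have h : (adjMat G A B * adjMat G A B) i j = ((common G A B i j).ncard : ℝ) := by
    rw [Matrix.mul_apply, Set.ncard_eq_toFinset_card']
    rw [Finset.sum_congr rfl (g := fun z => if Adj G A B i z ∧ Adj G A B j z then (1 : ℝ) else 0)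
      fun z _ => ?_, Finset.sum_boole]
    · congr 2
      ext z
      rw [Set.mem_toFinset, Finset.mem_filter]
      simp [common, nbr]
    · simp only [adjMat, Matrix.of_apply, ite_mul, one_mul, zero_mul, ← ite_and]
      exact if_congr (and_congr_right fun _ => ⟨S.adj_symm, S.adj_symm⟩) rfl rfl
  rw [h]
  simp only [Matrix.add_apply, Matrix.smul_apply, smul_eq_mul, adjMat, onesMat, Matrix.of_apply,
    Matrix.one_apply]
  by_cases hij : i = j
  · subst hij
    rw [if_neg (S.adj_irrefl i), if_pos rfl, common, Set.inter_self, S.ncard_nbr]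
    ring
  · by_cases hadj : Adj G A B i j
    · rw [if_pos hadj, if_neg hij, S.ncard_common_adj hadj]
      ring
    · rw [if_neg hadj, if_neg hij, S.ncard_common_nonadj hC (Ne.symm hij) hadj]
      ring

theorem eigProj_idem {x y : ℝ} (hne : x ≠ y)
    (hsum : x + y = ((common G A B A B).ncard : ℝ) - (common G A B A C).ncard)
    (hprod : x * y = ((common G A B A C).ncard : ℝ) - Nat.card S.kern) :
    eigProj G A B (Nat.card S.kern) x y * eigProj G A B (Nat.card S.kern) x y =
      eigProj G A B (Nat.card S.kern) x y ∧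
    eigProj G A B (Nat.card S.kern) x y * onesMat X = 0 ∧
    onesMat X * eigProj G A B (Nat.card S.kern) x y = 0 := by
  classical
  haveI : Nonempty X := ⟨A⟩
  have hv : (Nat.card X : ℝ) ≠ 0 := Nat.cast_ne_zero.mpr Nat.card_pos.ne'
  have hd : x - y ≠ 0 := sub_ne_zero.mpr hne
  have hrow : ∀ i, ∑ j, adjMat G A B i j = (Nat.card S.kern : ℝ) := fun i => by
    simp only [adjMat, Matrix.of_apply, Finset.sum_boole]
    rw [← S.ncard_nbr i, Set.ncard_eq_toFinset_card']
    congr 2
    ext z
    rw [Set.mem_toFinset, Finset.mem_filter]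
    simp [nbr]
  have hAJ : adjMat G A B * onesMat X = (Nat.card S.kern : ℝ) • onesMat X := by
    ext i j
    simp [Matrix.mul_apply, onesMat, hrow i]
  have hJA : onesMat X * adjMat G A B = (Nat.card S.kern : ℝ) • onesMat X := by
    ext i j
    simp only [Matrix.mul_apply, onesMat, Matrix.of_apply, one_mul, Matrix.smul_apply, smul_eq_mul,
      mul_one]
    rw [← hrow j]
    refine Finset.sum_congr rfl fun z _ => ?_
    simp only [adjMat, Matrix.of_apply]
    exact if_congr ⟨S.adj_symm, S.adj_symm⟩ rfl rfl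
  have hJJ : onesMat X * onesMat X = (Nat.card X : ℝ) • onesMat X := by
    ext i j
    simp [Matrix.mul_apply, onesMat]
  have hA2 := S.adjMat_sq hC
  set k : ℝ := (Nat.card S.kern : ℝ) with hk
  set v : ℝ := (Nat.card X : ℝ) with hvdef
  set μ : ℝ := ((common G A B A C).ncard : ℝ) with hμ
  have hrel : μ * (v - 1) = k ^ 2 - k - (x + y) * k := by
    rw [hsum]
    have h := congrArg (fun z : ℤ => (z : ℝ)) (S.param_eq hC)
    push_cast at h
    exact h
  refine ⟨?_, ?_, ?_⟩
  · simp only [eigProj, smul_mul_assoc, mul_smul_comm, sub_mul, mul_sub, one_mul, mul_one, hA2, hAJ,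
      hJA, hJJ]
    match_scalars
    · field_simp
      linarith
    · field_simp
      linarith [show x * y = μ - k from hprod]
    · field_simp
      nlinarith [hrel, hprod]
  · simp only [eigProj, smul_mul_assoc, sub_mul, one_mul, hAJ, hJJ]
    match_scalars
    field_simp
    ring
  · simp only [eigProj, mul_smul_comm, mul_sub, mul_one, hJA, hJJ]
    match_scalars
    field_simp
    ring

theorem exists_mult {x y : ℝ} (hne : x ≠ y)
    (hsum : x + y = ((common G A B A B).ncard : ℝ) - (common G A B A C).ncard)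
    (hprod : x * y = ((common G A B A C).ncard : ℝ) - Nat.card S.kern) :
    ∃ g : ℕ, (g : ℝ) * (x - y) = -((Nat.card X : ℝ) - 1) * y - Nat.card S.kern := by
  classical
  obtain ⟨g, hg⟩ := trace_idem _ (S.eigProj_idem hC hne hsum hprod).1
  refine ⟨g, ?_⟩
  have h := trace_eigProj_mul_perm (A := A) (B := B) (Nat.card S.kern : ℝ) x y (1 : G)
  rw [perm_one, Matrix.mul_one, hg, if_neg hne] at h
  rw [h, show {z : X | Adj G A B z ((1 : G) • z)} = ∅ from Set.eq_empty_iff_forall_notMem.mpr fun z hz => by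
      change Adj G A B z ((1 : G) • z) at hz
      rw [one_smul] at hz
      exact S.adj_irrefl z hz,
    show {z : X | (1 : G) • z = z} = Set.univ from Set.eq_univ_of_forall fun z => one_smul G z,
    Set.ncard_empty, Set.ncard_univ]
  push_cast
  ring

/-- The roots are integers unless the graph is a conference graph. -/
theorem exists_roots :
    (((Nat.card X : ℤ) - 1) * (((common G A B A B).ncard : ℤ) - (common G A B A C).ncard) +
        2 * Nat.card S.kern = 0) ∨
    ∃ r s : ℤ, r + s = ((common G A B A B).ncard : ℤ) - (common G A B A C).ncard ∧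
      r * s = ((common G A B A C).ncard : ℤ) - Nat.card S.kern ∧ s < r := by
  set k := Nat.card S.kern with hk
  set lam := (common G A B A B).ncard
  set μ := (common G A B A C).ncard with hμ
  set δ : ℤ := (lam : ℤ) - μ with hδ
  set D : ℤ := δ ^ 2 + 4 * ((k : ℤ) - μ) with hD
  have hμk : μ < k := S.common_lt hC
  have hDpos : 0 < D := by
    have h1 : (μ : ℤ) < k := by exact_mod_cast hμk
    nlinarith [sq_nonneg δ]
  have hDR : (0 : ℝ) < (D : ℝ) := by exact_mod_cast hDpos
  set q := Real.sqrt (D : ℝ) with hq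
  have hqpos : 0 < q := Real.sqrt_pos.mpr hDR
  have hqq : q * q = (D : ℝ) := Real.mul_self_sqrt hDR.le
  have hDcast : (D : ℝ) = ((lam : ℝ) - μ) ^ 2 + 4 * ((k : ℝ) - μ) := by
    rw [hD, hδ]; push_cast; ring
  obtain ⟨g, hg⟩ := S.exists_mult hC (x := ((δ : ℝ) + q) / 2) (y := ((δ : ℝ) - q) / 2)
    (fun e => by linarith)
    (by rw [hδ]; push_cast; ring) (by
      rw [show ((δ : ℝ) + q) / 2 * (((δ : ℝ) - q) / 2) = ((δ : ℝ) ^ 2 - q * q) / 4 by ring, hqq, hDcast,
        hδ]
      push_cast
      ring)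
  set N : ℤ := ((Nat.card X : ℤ) - 1) * δ + 2 * k with hN
  set c : ℤ := 2 * (g : ℤ) - ((Nat.card X : ℤ) - 1) with hc
  have hcq : (c : ℝ) * q = -(N : ℝ) := by
    rw [hc, hN]
    push_cast
    linear_combination 2 * hg
  by_cases hN0 : N = 0
  · exact Or.inl hN0
  right
  have hcD : c ^ 2 * D = N ^ 2 := by
    have : ((c : ℝ) * q) ^ 2 = (N : ℝ) ^ 2 := by rw [hcq]; ring
    rw [mul_pow, pow_two q, hqq] at this
    exact_mod_cast this
  obtain ⟨e, he⟩ : c ∣ N := (Int.pow_dvd_pow_iff (by norm_num : (2 : ℕ) ≠ 0)).mp ⟨D, hcD.symm⟩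
  have hc0 : c ≠ 0 := fun h => hN0 (by rw [he, h, zero_mul])
  have hDe : D = e ^ 2 := mul_left_cancel₀ (pow_ne_zero 2 hc0) (by rw [hcD, he]; ring)
  rw [← sq_abs e] at hDe
  have he0 : 0 < |e| := by
    rcases (abs_nonneg e).lt_or_eq with h | h
    · exact h
    · rw [← h] at hDe; linarith
  obtain ⟨a, ha⟩ : ∃ a : ℤ, δ + |e| = 2 * a := by
    have h2 : Even (δ + |e|) := by
      rw [Int.even_add]
      have h3 : |e| ^ 2 = δ ^ 2 + 4 * ((k : ℤ) - μ) := hDe.symm
      have h4 : Even (|e| ^ 2) ↔ Even (δ ^ 2) := by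
        rw [h3, Int.even_add]
        exact iff_of_eq (by simp [Int.even_mul, show Even (4 : ℤ) from ⟨2, rfl⟩])
      rw [Int.even_pow' (by norm_num), Int.even_pow' (by norm_num)] at h4
      exact h4.symm
    obtain ⟨a, ha⟩ := h2
    exact ⟨a, by rw [ha]; ring⟩
  refine ⟨a, δ - a, by ring, ?_, by linarith⟩
  have h4 : 4 * (a * (δ - a)) = 4 * ((μ : ℤ) - k) := by
    have : 4 * (a * (δ - a)) = δ ^ 2 - |e| ^ 2 := by
      rw [show |e| = 2 * a - δ by linarith]; ring
    rw [this, ← hDe, hD]
    ring
  linarith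

variable {t : G} (ht : Invol G A B t) (htC : t • C = C)
include ht htC

theorem exists_trace {x y : ℤ} (hne : x ≠ y)
    (hsum : x + y = ((common G A B A B).ncard : ℤ) - (common G A B A C).ncard)
    (hprod : x * y = ((common G A B A C).ncard : ℤ) - Nat.card S.kern) :
    ∃ g b : ℕ, g + 1 ≤ {z : X | t • z = z}.ncard ∧
      (g : ℤ) * (x - y) = ({z : X | Adj G A B z (t • z)}.ncard : ℤ) -
        y * ({z : X | t • z = z}.ncard - 1 : ℤ) - Nat.card S.kern ∧
      (Nat.card (two G A B) : ℤ) * b * (x - y) =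
        -y * ((Nat.card X : ℤ) - {z : X | t • z = z}.ncard) -
          {z : X | Adj G A B z (t • z)}.ncard := by
  classical
  have hneR : (x : ℝ) ≠ y := by exact_mod_cast hne
  have hsumR : (x : ℝ) + y = ((common G A B A B).ncard : ℝ) - (common G A B A C).ncard := by
    exact_mod_cast hsum
  have hprodR : (x : ℝ) * y = ((common G A B A C).ncard : ℝ) - Nat.card S.kern := by
    exact_mod_cast hprod
  set E := eigProj G A B (Nat.card S.kern : ℝ) x y with hE
  obtain ⟨hEE, hEJ, hJE⟩ := S.eigProj_idem hC hneR hsumR hprodR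
  have hEc : Central G E := central_eigProj _ _ _
  set Z : Matrix X X ℝ := avg S.kern with hZ
  have hZZ : Z * Z = Z := avg_idem S.kern
  have hEZ : E * Z = Z * E := mul_avg_comm hEc S.kern
  have horb : ∀ z : X, ∃ w ∈ S.kern, t • z = w • z := S.invol_orbit ht hC htC
  have hconj : ∀ z ∈ S.kern, ∃ w : G, w * t * w⁻¹ = t * z := fun z hz => by
    obtain ⟨w, -, e⟩ := S.kern_mul_invol_conj ht (inv_mem hz)
    exact ⟨w, by rw [e, S.invol_mul ht hz]⟩
  have htrEZ : (E * Z).trace = (E * perm t).trace := trace_mul_avg_eq hEc S.kern horb hconj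
  -- the trace on the orbits
  obtain ⟨g, hg⟩ := trace_idem (E * Z)
    (by rw [mul_assoc, ← mul_assoc Z, ← hEZ, mul_assoc E Z, hZZ, ← mul_assoc, hEE])
  haveI : Nonempty X := ⟨A⟩
  have hv : (Nat.card X : ℝ) ≠ 0 := Nat.cast_ne_zero.mpr Nat.card_pos.ne'
  have hZJ : Z * onesMat X = onesMat X := by
    have hp : ∀ g : G, perm g * onesMat X = onesMat X := fun g => by
      ext i j; rw [perm_mul_apply]; rfl
    letI := Fintype.ofFinite S.kern
    rw [hZ, avg, Matrix.smul_mul, Finset.sum_mul]
    refine (congrArg _ (Finset.sum_congr (s₁ := (Finset.univ : Finset S.kern)) rfl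
      (g := fun _ => onesMat X) fun w _ => hp (w : G))).trans ?_
    rw [Finset.sum_const, Finset.card_univ, ← Nat.card_eq_fintype_card, ← Nat.cast_smul_eq_nsmul ℝ, smul_smul,
      inv_mul_cancel₀ (Nat.cast_ne_zero.mpr Nat.card_pos.ne'), one_smul]
  have hJZ : onesMat X * Z = onesMat X := (mul_avg_comm central_onesMat S.kern).trans hZJ
  have hJJ : onesMat X * onesMat X = (Nat.card X : ℝ) • onesMat X := by
    ext i j; simp [Matrix.mul_apply, onesMat]
  obtain ⟨g', hg'⟩ := trace_idem (Z - E * Z - (Nat.card X : ℝ)⁻¹ • onesMat X) (by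
    have hEZE : E * Z * E = E * Z := by rw [mul_assoc, ← hEZ, ← mul_assoc, hEE]
    have hEZEZ : E * Z * (E * Z) = E * Z := by rw [← mul_assoc, hEZE, mul_assoc, hZZ]
    have hZEZ : Z * (E * Z) = E * Z := by rw [hEZ, ← mul_assoc, hZZ]
    have hEZZ : E * Z * Z = E * Z := by rw [mul_assoc, hZZ]
    have hEZJ : E * Z * onesMat X = 0 := by rw [mul_assoc, hZJ, hEJ]
    have hJEZ : onesMat X * (E * Z) = 0 := by rw [← mul_assoc, hJE, zero_mul]
    simp only [sub_mul, mul_sub, smul_mul_assoc, mul_smul_comm, hZZ, hEZEZ, hZEZ, hEZZ, hEZJ, hJEZ,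
      hZJ, hJZ, hJJ, smul_zero, smul_smul]
    rw [inv_mul_cancel₀ hv, one_smul]
    simp only [sub_self, sub_zero, smul_zero]
    )
  have htrZ : Z.trace = {z : X | t • z = z}.ncard := by
    have h := trace_mul_avg_eq (M := (1 : Matrix X X ℝ)) central_one S.kern horb hconj
    rwa [one_mul, one_mul, trace_perm] at h
  have hgle : g + 1 ≤ {z : X | t • z = z}.ncard := by
    rw [Matrix.trace_sub, Matrix.trace_sub, Matrix.trace_smul, trace_onesMat, htrZ, hg, smul_eq_mul,
      inv_mul_cancel₀ hv] at hg'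
    have : ({z : X | t • z = z}.ncard : ℝ) = ((g + 1 + g' : ℕ) : ℝ) := by push_cast; linarith
    have := Nat.cast_injective this
    omega
  -- the part moved by the kernel, averaged over the complement
  set Y : Matrix X X ℝ := avg (two G A B) with hY
  have hYY : Y * Y = Y := avg_idem _
  have hEY : E * Y = Y * E := mul_avg_comm hEc _
  have hZY : Z * Y = Y * Z := by
    letI := Fintype.ofFinite (two G A B)
    rw [hY, avg, Matrix.mul_smul, Matrix.smul_mul, Finset.mul_sum, Finset.sum_mul]
    exact congrArg _ (Finset.sum_congr rfl fun w _ => (perm_mul_avg S.kern (g := (w : G))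
      fun p hp => S.kern_conj (show (w : G) ∈ stabilizer G A from w.2.1) hp).symm)
  have hQ : (E - E * Z) * (E - E * Z) = E - E * Z := sub_idem hEE hZZ hEZ.symm
  have hQY : (E - E * Z) * Y = Y * (E - E * Z) := by
    rw [sub_mul, mul_sub, hEY, mul_assoc, hZY, ← mul_assoc, hEY, mul_assoc]
  obtain ⟨b, hb⟩ := trace_idem ((E - E * Z) * Y)
    (by rw [mul_assoc, ← mul_assoc Y, ← hQY, mul_assoc (E - E * Z) Y, hYY, ← mul_assoc, hQ])
  have htrQY : (Nat.card (two G A B) : ℝ) * b = E.trace - (E * Z).trace := by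
    letI := Fintype.ofFinite (two G A B)
    letI := Fintype.ofFinite S.kern
    rw [← hb, hY, avg, Matrix.mul_smul, Finset.mul_sum, Matrix.trace_smul, Matrix.trace_sum, smul_eq_mul,
      mul_inv_cancel_left₀ (Nat.cast_ne_zero.mpr Nat.card_pos.ne'), Finset.sum_eq_single
        (1 : two G A B)]
    · rw [OneMemClass.coe_one, perm_one, Matrix.mul_one, Matrix.trace_sub]
    · intro w _ hw
      rw [Matrix.sub_mul, Matrix.trace_sub, sub_eq_zero, hZ, avg, Matrix.mul_smul, Matrix.smul_mul,
        Finset.mul_sum, Finset.sum_mul, Matrix.trace_smul, Matrix.trace_sum,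
        Finset.sum_congr rfl (g := fun _ => (E * perm (w : G)).trace) fun z _ => ?_, Finset.sum_const,
        Finset.card_univ, ← Nat.card_eq_fintype_card, nsmul_eq_mul, smul_eq_mul, ← mul_assoc,
        inv_mul_cancel₀ (Nat.cast_ne_zero.mpr Nat.card_pos.ne'), one_mul]
      rw [mul_assoc, perm_mul]
      let φ : S.kern → S.kern := fun c =>
        ⟨(c : G) * ((w : G) * (c : G)⁻¹ * (w : G)⁻¹), mul_mem c.2 (S.kern_conj w.2.1 (inv_mem c.2))⟩
      have hφ : Function.Injective φ := fun a c e => by
        have e' : (a : G) * ((w : G) * (a : G)⁻¹ * (w : G)⁻¹) =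
            (c : G) * ((w : G) * (c : G)⁻¹ * (w : G)⁻¹) := congrArg Subtype.val e
        have h1 : (w : G) * ((c : G)⁻¹ * a) = ((c : G)⁻¹ * a) * w := by
          calc (w : G) * ((c : G)⁻¹ * a) =
              (c : G)⁻¹ * ((c : G) * ((w : G) * (c : G)⁻¹ * (w : G)⁻¹)) * (w : G) * a := by group
            _ = (c : G)⁻¹ * ((a : G) * ((w : G) * (a : G)⁻¹ * (w : G)⁻¹)) * (w : G) * a := by rw [e']
            _ = ((c : G)⁻¹ * a) * w := by group
        exact Subtype.ext (inv_mul_eq_one.mp (S.eq_one_of_commute w.2 (fun e => hw (Subtype.ext e))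
          (mul_mem (inv_mem c.2) a.2) h1)).symm
      obtain ⟨c, hc⟩ := (Finite.injective_iff_surjective.mp hφ) z
      have hzw : (z : G) * w = (c : G) * w * (c : G)⁻¹ := by
        rw [← hc]
        simp [φ, mul_assoc]
      rw [hzw, trace_mul_perm_conj hEc]
    · simp
  have h1 := trace_eigProj_mul_perm (A := A) (B := B) (Nat.card S.kern : ℝ) x y t
  rw [← hE, ← htrEZ, hg, if_neg hneR] at h1
  have h2 := trace_eigProj_mul_perm (A := A) (B := B) (Nat.card S.kern : ℝ) x y (1 : G)
  rw [perm_one, Matrix.mul_one, ← hE, if_neg hneR,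
    show {z : X | Adj G A B z ((1 : G) • z)} = ∅ from Set.eq_empty_iff_forall_notMem.mpr fun z hz => by
      change Adj G A B z ((1 : G) • z) at hz
      rw [one_smul] at hz
      exact S.adj_irrefl z hz,
    show {z : X | (1 : G) • z = z} = Set.univ from Set.eq_univ_of_forall fun z => one_smul G z,
    Set.ncard_empty, Set.ncard_univ] at h2
  rw [hg] at htrQY
  refine ⟨g, b, hgle, ?_, ?_⟩
  · have : (g : ℝ) * ((x : ℝ) - y) = ({z : X | Adj G A B z (t • z)}.ncard : ℝ) -
        y * (({z : X | t • z = z}.ncard : ℝ) - 1) - Nat.card S.kern := by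
      rw [h1]; ring
    exact_mod_cast this
  · have : (Nat.card (two G A B) : ℝ) * b * ((x : ℝ) - y) =
        -(y : ℝ) * ((Nat.card X : ℝ) - {z : X | t • z = z}.ncard) -
          {z : X | Adj G A B z (t • z)}.ncard := by
      rw [htrQY, sub_mul, h1, h2]
      push_cast
      ring
    exact_mod_cast this

end Setup

end Cfsg.Agent.Lib.RankThreeFrob
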